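import Cfsg.Agent.Turull73.Seeds

/-!
# Turull's bound `h(G) ≤ h(C) + 2`
-/

set_option autoImplicit false

open scoped commutatorElement

namespace CfsgLib.Turull73

open FittingLength

/-- The semidirect case: a minimal `X` gives a non-trivial residual of the fixed points. -/
theorem ne_bot_of_minimal {X : Type*} [Group X] [Finite X] (hX : Group.IsSolvable X)
    (τ : MulAut X) {r : ℕ} (hr : r.Prime) (hτ : τ ^ r = 1) (hcop : ¬ r ∣ Nat.card X) {n : ℕ}
    (hres : nilRes (⊤ : Subgroup X) (n + 2) ≠ ⊥)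
    (hmin : ∀ Y : Subgroup X, (∀ y ∈ Y, τ y ∈ Y) → nilRes Y (n + 2) ≠ ⊥ → Y = ⊤)
    {C : Subgroup X} (hC : ∀ x, x ∈ C ↔ τ x = x) : nilRes C n ≠ ⊥ := by
  classical
  let φ : Subgroup.zpowers τ →* MulAut X := (Subgroup.zpowers τ).subtype
  have := Coprime.finite_semidirectProduct φ
  let il : X →* X ⋊[φ] Subgroup.zpowers τ := SemidirectProduct.inl
  let s : X ⋊[φ] Subgroup.zpowers τ :=
    SemidirectProduct.inr ⟨τ, Subgroup.mem_zpowers τ⟩
  have hconj : ∀ x, s * il x * s⁻¹ = il (τ x) := fun x => by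
    have h := (SemidirectProduct.inl_aut (φ := φ) ⟨τ, Subgroup.mem_zpowers τ⟩ x).symm
    rw [map_inv] at h
    exact h
  have hinj : Function.Injective il := SemidirectProduct.inl_injective
  have hn : il.range.Normal := by
    rw [show il.range = _ from SemidirectProduct.range_inl_eq_ker_rightHom]
    exact MonoidHom.normal_ker _
  let S : Setup (X ⋊[φ] Subgroup.zpowers τ) :=
    { X := il.range
      hXn := hn
      hXs := Group.isSolvable_of_surjective (f := il.rangeRestrict) il.rangeRestrict_surjective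
      s := s
      r := r
      hr := hr
      hs := by
        have h : (⟨τ, Subgroup.mem_zpowers τ⟩ : Subgroup.zpowers τ) ^ r = 1 := Subtype.ext hτ
        rw [← map_pow, h, map_one]
      hrX := by
        rw [Nat.card_congr (MonoidHom.ofInjective hinj).toEquiv.symm]
        exact hcop
      t := n + 2
      hres := by
        rw [MonoidHom.range_eq_map, ← map_nilRes, Ne, Subgroup.map_eq_bot_iff_of_injective _ hinj]
        exact hres
      hmin := fun Y hYX hYs hY => by
        have hYmap : (Y.comap il).map il = Y := Subgroup.map_comap_eq_self hYX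
        rw [← hYmap, ← map_nilRes, Ne, Subgroup.map_eq_bot_iff_of_injective _ hinj] at hY
        have h := hmin _ (fun y hy => by
          show il (τ y) ∈ Y
          rw [← hconj]
          exact hYs _ hy) hY
        rw [← hYmap, h, MonoidHom.range_eq_map] }
  obtain ⟨L, hT⟩ := exists_tower S
  let F : Frame (X ⋊[φ] Subgroup.zpowers τ) := ⟨S, L, hT⟩
  have hG : F.S.X ⊔ Subgroup.zpowers F.S.s = ⊤ := by
    refine eq_top_iff.2 fun g _ => ?_
    rw [← SemidirectProduct.inl_left_mul_inr_right g]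
    refine Subgroup.mul_mem_sup ⟨g.left, rfl⟩ ?_
    obtain ⟨k, hk⟩ := Subgroup.mem_zpowers_iff.1 g.right.2
    refine Subgroup.mem_zpowers_iff.2 ⟨k, ?_⟩
    show (SemidirectProduct.inr ⟨τ, Subgroup.mem_zpowers τ⟩ : X ⋊[φ] Subgroup.zpowers τ) ^ k = _
    rw [← map_zpow]
    congr 1
    exact Subtype.ext hk
  have hle : F.C ≤ C.map il := by
    intro g hg
    obtain ⟨⟨x, rfl⟩, hsx⟩ := F.mem_C.1 hg
    refine Subgroup.mem_map_of_mem il ((hC x).2 (hinj ?_))
    rw [← hconj]
    change s * il x = il x * s at hsx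
    rw [hsx, mul_inv_cancel_right]
  intro hbot
  apply F.ne_bot_of_frame hG (show 2 ≤ n + 2 by omega)
  refine le_bot_iff.1 ((nilRes_mono hle _).trans ?_)
  rw [← map_nilRes, show F.S.t - 2 = n from rfl, hbot, Subgroup.map_bot]

/-- **Turull's theorem**: `h(G) ≤ h(C) + 2`. -/
theorem nilRes_eq_bot {G : Type*} [Group G] [Finite G] (hG : Group.IsSolvable G) (σ : MulAut G)
    {r : ℕ} (hr : r.Prime) (hσ : σ ^ r = 1) (hcop : ¬ r ∣ Nat.card G) {C : Subgroup G}
    (hC : ∀ g, g ∈ C ↔ σ g = g) {n : ℕ} (hn : nilRes C n = ⊥) :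
    nilRes (⊤ : Subgroup G) (n + 2) = ⊥ := by
  classical
  by_contra hne
  obtain ⟨Y, ⟨hYs, hY⟩, hmin⟩ := wellFounded_lt.has_min
    {Y : Subgroup G | (∀ y ∈ Y, σ y ∈ Y) ∧ nilRes Y (n + 2) ≠ ⊥}
    ⟨⊤, fun _ _ => Subgroup.mem_top _, hne⟩
  have := Fintype.ofFinite G
  set τ := restrictAut Y σ hYs
  have hτ : τ ^ r = 1 := MulEquiv.ext fun g => Subtype.ext (by
    rw [restrictAut_pow, hσ]; rfl)
  have hY' : nilRes (⊤ : Subgroup Y) (n + 2) ≠ ⊥ := by
    intro h
    apply hY
    rw [← Y.range_subtype, MonoidHom.range_eq_map, ← map_nilRes, h, Subgroup.map_bot]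
  refine ne_bot_of_minimal (have := hG; inferInstance : Group.IsSolvable Y) τ hr hτ
    (fun h => hcop (h.trans (Subgroup.card_subgroup_dvd_card Y))) hY' (fun Z hZ hZne => ?_)
    (C := C.subgroupOf Y) (fun x => (hC x).trans ⟨fun h => Subtype.ext h, congrArg Subtype.val⟩) ?_
  · apply Subgroup.map_injective Y.subtype_injective
    rw [← MonoidHom.range_eq_map, Y.range_subtype]
    refine eq_of_le_of_not_lt (Subgroup.map_subtype_le Z) (hmin _ ⟨?_, ?_⟩)
    · rintro _ ⟨z, hz, rfl⟩
      exact ⟨τ z, hZ z hz, rfl⟩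
    · rw [← map_nilRes, Ne, Subgroup.map_eq_bot_iff_of_injective _ Y.subtype_injective]
      exact hZne
  · apply Subgroup.map_injective Y.subtype_injective
    rw [map_nilRes, Subgroup.map_bot, eq_bot_iff, ← hn]
    exact nilRes_mono (Subgroup.map_comap_le _ _) n

end CfsgLib.Turull73
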