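import Mathlib

/-!
# An automorphism of prime order `r` acting on a group of order prime to `r`

* `exists_fixed_of_stable_coset`: a stable left coset of an invariant subgroup has a fixed element.
* `comSub σ`: the subgroup `[Q,σ]`; `comSub_normal`, `map_mem_comSub`.
* `mem_of_pow_mem`: taking roots of exponent prime to the group order.
-/

set_option autoImplicit false

namespace CfsgLib.Turull73

variable {Q : Type*} [Group Q]

theorem mem_of_pow_mem [Finite Q] {H : Subgroup Q} {g : Q} {m : ℕ}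
    (hm : (orderOf g).Coprime m) (h : g ^ m ∈ H) : g ∈ H := by
  obtain ⟨k, hk⟩ := exists_pow_eq_self_of_coprime hm.symm
  rw [← hk]
  exact H.pow_mem h k

theorem exists_fixed_of_stable_coset [Finite Q] {r : ℕ} (hr : r.Prime) (σ : MulAut Q)
    (hσ : σ ^ r = 1) (hcop : ¬ r ∣ Nat.card Q) {S : Subgroup Q} (hS : ∀ g ∈ S, σ g ∈ S)
    {b : Q} (hb : b⁻¹ * σ b ∈ S) : ∃ c, σ c = c ∧ b⁻¹ * c ∈ S := by
  classical
  have := Fact.mk hr
  have hstab : ∀ c, b⁻¹ * c ∈ S → b⁻¹ * σ c ∈ S := by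
    intro c hc
    have := S.mul_mem hb (hS _ hc)
    simpa [map_mul, map_inv, mul_assoc] using this
  let T : Type _ := {c : Q // b⁻¹ * c ∈ S}
  let f : T → T := fun c => ⟨σ c.1, hstab _ c.2⟩
  have hf : Function.Bijective f :=
    Finite.injective_iff_bijective.1 fun c d h =>
      Subtype.ext (σ.injective (congrArg Subtype.val h))
  let e : Equiv.Perm T := Equiv.ofBijective f hf
  have hval : ∀ (n : ℕ) (c : T), ((e ^ n) c).1 = (σ ^ n) c.1 := by
    intro n
    induction n with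
    | zero => intro c; rfl
    | succ n ih =>
      intro c
      rw [pow_succ', pow_succ', Equiv.Perm.mul_apply, MulAut.mul_apply, ← ih]
      rfl
  have he : e ^ r ^ 1 = 1 := by
    ext c
    rw [pow_one, hval, hσ]
    rfl
  have := Fintype.ofFinite T
  have hcard : ¬ r ∣ Fintype.card T := by
    have h : Fintype.card T = Nat.card S := by
      rw [← Nat.card_eq_fintype_card]
      exact Nat.card_congr
        { toFun := fun c => ⟨b⁻¹ * c.1, c.2⟩
          invFun := fun x => ⟨b * x.1, by simp⟩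
          left_inv := fun c => Subtype.ext (by simp)
          right_inv := fun x => Subtype.ext (by simp) }
    rw [h]
    exact fun hd => hcop (hd.trans (Subgroup.card_subgroup_dvd_card S))
  obtain ⟨c, hc⟩ := Equiv.Perm.exists_fixed_point_of_prime hcard he
  exact ⟨c.1, congrArg Subtype.val hc, c.2⟩

/-- The subgroup `[Q,σ]`. -/
def comSub (σ : MulAut Q) : Subgroup Q := Subgroup.closure (Set.range fun b => b⁻¹ * σ b)

theorem mem_comSub (σ : MulAut Q) (b : Q) : b⁻¹ * σ b ∈ comSub σ :=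
  Subgroup.subset_closure ⟨b, rfl⟩

theorem comSub_le {σ : MulAut Q} {H : Subgroup Q} (h : ∀ b, b⁻¹ * σ b ∈ H) : comSub σ ≤ H :=
  (Subgroup.closure_le H).2 (by rintro _ ⟨b, rfl⟩; exact h b)

theorem conj_mem_comSub (σ : MulAut Q) (a : Q) {x : Q} (hx : x ∈ comSub σ) :
    a * x * a⁻¹ ∈ comSub σ := by
  have hle : comSub σ ≤ (comSub σ).comap (MulAut.conj a).toMonoidHom := by
    refine comSub_le fun b => ?_
    have h : a * (b⁻¹ * σ b) * a⁻¹ =
        ((b * a⁻¹)⁻¹ * σ (b * a⁻¹)) * ((a⁻¹)⁻¹ * σ a⁻¹)⁻¹ := by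
      simp only [map_mul, map_inv]
      group
    show a * (b⁻¹ * σ b) * a⁻¹ ∈ comSub σ
    rw [h]
    exact Subgroup.mul_mem _ (mem_comSub σ _) (Subgroup.inv_mem _ (mem_comSub σ _))
  exact hle hx

instance comSub_normal (σ : MulAut Q) : (comSub σ).Normal :=
  ⟨fun _ hx a => conj_mem_comSub σ a hx⟩

theorem map_mem_comSub (σ : MulAut Q) {x : Q} (hx : x ∈ comSub σ) : σ x ∈ comSub σ := by
  have hle : comSub σ ≤ (comSub σ).comap σ.toMonoidHom := by
    refine comSub_le fun b => ?_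
    show σ (b⁻¹ * σ b) ∈ comSub σ
    rw [map_mul, map_inv]
    exact mem_comSub σ (σ b)
  exact hle hx

/-- In a central subgroup, if `z⁻¹ σ^j z` is fixed modulo an invariant subgroup for some `j` prime
to `r`, then so is `z`. -/
theorem inv_mul_map_mem_of_pow [Finite Q] {r : ℕ} (hr : r.Prime) (σ : MulAut Q) (hσ : σ ^ r = 1)
    (hcop : ¬ r ∣ Nat.card Q) {S : Subgroup Q} (hS : ∀ g ∈ S, σ g ∈ S) {z : Q}
    (hz : z ∈ Subgroup.center Q) {j : ℕ} (hj0 : ¬ r ∣ j)
    (hw : (((σ ^ j) z)⁻¹ * z)⁻¹ * σ (((σ ^ j) z)⁻¹ * z) ∈ S) : z⁻¹ * σ z ∈ S := by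
  let S' := S ⊓ Subgroup.center Q
  have hn : S'.Normal := ⟨fun x hx g => by
    rw [Subgroup.mem_center_iff.1 hx.2 g, mul_inv_cancel_right]; exact hx⟩
  have hcen : ∀ (τ : MulAut Q) {x : Q}, x ∈ Subgroup.center Q → τ x ∈ Subgroup.center Q :=
    fun τ x hx => (Subgroup.characteristic_iff_le_comap.1 inferInstance τ) hx
  have hS' : S' ≤ S'.comap σ.toMonoidHom := fun x hx => ⟨hS x hx.1, hcen σ hx.2⟩
  let τ : Q ⧸ S' →* Q ⧸ S' := QuotientGroup.map S' S' σ.toMonoidHom hS'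
  set k := z⁻¹ * σ z with hk
  have hkc : k ∈ Subgroup.center Q :=
    Subgroup.mul_mem _ (Subgroup.inv_mem _ hz) (hcen σ hz)
  have hτ : ∀ (n : ℕ) (x : Q), (τ ^[n]) (x : Q ⧸ S') = (((σ ^ n) x : Q) : Q ⧸ S') := by
    intro n
    induction n with
    | zero => intro x; rfl
    | succ n ih => intro x; rw [Function.iterate_succ_apply', ih, pow_succ']; rfl
  have hjk : (τ ^[j]) (k : Q ⧸ S') = (k : Q ⧸ S') := by
    rw [hτ, QuotientGroup.eq]
    refine ⟨?_, Subgroup.mul_mem _ (Subgroup.inv_mem _ (hcen _ hkc)) hkc⟩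
    have hcomm : σ ((σ ^ j) z) = (σ ^ j) (σ z) := by
      rw [← MulAut.mul_apply, ← MulAut.mul_apply, ← pow_succ', pow_succ]
    have h : ((σ ^ j) k)⁻¹ * k = (((σ ^ j) z)⁻¹ * z)⁻¹ * σ (((σ ^ j) z)⁻¹ * z) := by
      have hc := Subgroup.mem_center_iff.1 (Subgroup.inv_mem _ hz)
      have hc' := Subgroup.mem_center_iff.1 (hcen (σ ^ j) hz)
      rw [hk, map_mul (σ ^ j), map_inv (σ ^ j), ← hcomm, map_mul, map_inv]
      generalize hu : (σ ^ j) z = u at hc' ⊢
      generalize σ u = v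
      generalize σ z = y
      calc (u⁻¹ * v)⁻¹ * (z⁻¹ * y) = (v⁻¹ * u) * z⁻¹ * y := by group
        _ = z⁻¹ * (v⁻¹ * u) * y := by rw [hc (v⁻¹ * u)]
        _ = z⁻¹ * ((v⁻¹ * u) * y) := by group
        _ = z⁻¹ * (u * v⁻¹ * y) := by rw [hc' v⁻¹]
        _ = (u⁻¹ * z)⁻¹ * (v⁻¹ * y) := by group
    rw [h]
    exact hw
  have hrk : (τ ^[r]) (k : Q ⧸ S') = (k : Q ⧸ S') := by rw [hτ, hσ]; rfl
  have h1 : τ (k : Q ⧸ S') = (k : Q ⧸ S') := by
    have hp : ∀ {a : ℕ}, (τ ^[a]) (k : Q ⧸ S') = (k : Q ⧸ S') → Function.IsPeriodicPt τ a (k : Q ⧸ S') :=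
      fun h => h
    have := (hp hjk).gcd (hp hrk)
    rwa [Nat.Coprime.gcd_eq_one ((hr.coprime_iff_not_dvd.2 hj0).symm)] at this
  have hm : ∀ m : ℕ, ((z⁻¹ * (σ ^ m) z : Q) : Q ⧸ S') = (k : Q ⧸ S') ^ m := by
    intro m
    induction m with
    | zero => simp
    | succ m ih =>
      have h : z⁻¹ * (σ ^ (m + 1)) z = k * σ (z⁻¹ * (σ ^ m) z) := by
        rw [pow_succ', MulAut.mul_apply, hk, map_mul, map_inv]
        group
      rw [h, QuotientGroup.mk_mul, show ((σ (z⁻¹ * (σ ^ m) z) : Q) : Q ⧸ S') =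
        τ ((z⁻¹ * (σ ^ m) z : Q) : Q ⧸ S') from rfl, ih, map_pow, h1, ← pow_succ']
  have hkr := hm r
  rw [hσ, MulAut.one_apply, inv_mul_cancel, QuotientGroup.mk_one, ← QuotientGroup.mk_pow,
    eq_comm, QuotientGroup.eq_one_iff] at hkr
  exact (mem_of_pow_mem ((hr.coprime_iff_not_dvd.2
    fun h => hcop (h.trans (orderOf_dvd_natCard k))).symm) hkr.1)

end CfsgLib.Turull73
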