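import Cfsg.Agent.Turull73.Fix

/-!
# The inductive step in Turull's proof of `h(G) ≤ h(C) + 2`

`Q` is a group of class at most two with an automorphism `σ` of prime order `r` prime to `|Q|`, it
acts on the abelian group `V` and on the index set `Ω` of a separating family of subgroups `K ω`
of `V`, compatibly with operators `τ` and `t`.  If a fixed element `d` of `Q` moves a fixed
element of `V` to something not centralised by `[Q,σ]`, then some `ρ d c - c`, `c` fixed, lies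
outside `K ω` for an index `ω` which is not bad.
-/

set_option autoImplicit false

open scoped commutatorElement

namespace CfsgLib.Turull73

/-- The data of the inductive step. -/
structure StepData (Q V Ω : Type*) [Group Q] [AddCommGroup V] (r : ℕ) where
  σ : MulAut Q
  hσ : σ ^ r = 1
  hcen : ∀ a b c : Q, Commute ⁅a, b⁆ c
  ρ : Q →* AddMonoid.End V
  τ : AddMonoid.End V
  hτ : τ ^ r = 1
  hτρ : ∀ q v, τ (ρ q v) = ρ (σ q) (τ v)
  π : Q →* Equiv.Perm Ω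
  t : Equiv.Perm Ω
  ht : ∀ q ω, t (π q ω) = π (σ q) (t ω)
  K : Ω → AddSubgroup V
  hKπ : ∀ q ω v, ρ q v ∈ K (π q ω) ↔ v ∈ K ω
  hKt : ∀ ω v, τ v ∈ K (t ω) ↔ v ∈ K ω
  hK : ∀ v, (∀ ω, v ∈ K ω) → v = 0
  bad : Ω → Prop
  hbad : ∀ ω, bad ω → t ω = ω

namespace StepData

variable {Q V Ω : Type*} [Group Q] [AddCommGroup V] {r : ℕ} (D : StepData Q V Ω r)

theorem ρ_mul (a b : Q) (v : V) : D.ρ (a * b) v = D.ρ a (D.ρ b v) := by rw [map_mul]; rfl

theorem ρ_one (v : V) : D.ρ 1 v = v := by rw [map_one]; rfl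

theorem π_mul (a b : Q) (ω : Ω) : D.π (a * b) ω = D.π a (D.π b ω) := by rw [map_mul]; rfl

theorem π_one (ω : Ω) : D.π 1 ω = ω := by rw [map_one]; rfl

theorem π_inv_self (a : Q) (ω : Ω) : D.π a⁻¹ (D.π a ω) = ω := by
  rw [← D.π_mul, inv_mul_cancel, D.π_one]

theorem π_self_inv (a : Q) (ω : Ω) : D.π a (D.π a⁻¹ ω) = ω := by
  rw [← D.π_mul, mul_inv_cancel, D.π_one]

theorem mem_K_π (a : Q) (ω : Ω) (v : V) : D.ρ a v ∈ D.K ω ↔ v ∈ D.K (D.π a⁻¹ ω) := by
  conv_lhs => rw [← D.π_self_inv a ω]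
  exact D.hKπ _ _ _

theorem τ_pow_ρ (j : ℕ) (q : Q) (v : V) :
    (D.τ ^ j) (D.ρ q v) = D.ρ ((D.σ ^ j) q) ((D.τ ^ j) v) := by
  induction j with
  | zero => rfl
  | succ j ih => rw [pow_succ', pow_succ', AddMonoid.End.coe_mul, Function.comp_apply, ih, D.hτρ]; rfl

theorem τ_pow_fixed {v : V} (hv : D.τ v = v) (j : ℕ) : (D.τ ^ j) v = v := by
  induction j with
  | zero => rfl
  | succ j ih => rw [pow_succ', AddMonoid.End.coe_mul, Function.comp_apply, ih, hv]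

theorem σ_pow_fixed {d : Q} (hd : D.σ d = d) (j : ℕ) : (D.σ ^ j) d = d := by
  induction j with
  | zero => rfl
  | succ j ih => rw [pow_succ', MulAut.mul_apply, ih, hd]

/-- The trace of `v` over `⟨τ⟩`. -/
def tr (v : V) : V := ∑ j ∈ Finset.range r, (D.τ ^ j) v

theorem τ_tr (v : V) : D.τ (D.tr v) = D.tr v := by
  have h1 := Finset.sum_range_succ' (fun j => (D.τ ^ j) v) r
  have h2 := Finset.sum_range_succ (fun j => (D.τ ^ j) v) r
  rw [h1] at h2
  simp only [D.hτ, pow_zero] at h2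
  rw [tr, map_sum, ← add_right_cancel h2]
  exact Finset.sum_congr rfl fun j _ => by rw [pow_succ', AddMonoid.End.coe_mul, Function.comp_apply]

theorem sum_not_mem {ι : Type*} {s : Finset ι} {f : ι → V} {H : AddSubgroup V} {i : ι}
    (hi : i ∈ s) (hne : f i ∉ H) (h : ∀ j ∈ s, j ≠ i → f j ∈ H) : ∑ j ∈ s, f j ∉ H := by
  classical
  intro hs
  apply hne
  rw [← Finset.add_sum_erase s f hi] at hs
  have := H.sum_mem (fun j hj => h j (Finset.mem_of_mem_erase hj) (Finset.ne_of_mem_erase hj))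
  simpa using H.sub_mem hs this

variable [Finite Q]

theorem eq_zero_of_pow_fixed (hV : ∀ v : V, Nat.card Q • v = 0 → v = 0) {d : Q} {c : V}
    (hx : D.ρ d (D.ρ d c - c) = D.ρ d c - c) : D.ρ d c - c = 0 := by
  set x := D.ρ d c - c
  have h : ∀ m : ℕ, D.ρ (d ^ m) c - c = m • x := by
    intro m
    induction m with
    | zero => simp [D.ρ_one]
    | succ m ih =>
      have hx' : D.ρ d (m • x) = m • x := by rw [map_nsmul, hx]
      have : D.ρ (d ^ (m + 1)) c = D.ρ d (c + m • x) := by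
        rw [pow_succ', D.ρ_mul, ← ih, add_sub_cancel]
      rw [this, map_add, hx', succ_nsmul']
      show D.ρ d c + m • x - c = (D.ρ d c - c) + m • x
      abel
  refine hV x ?_
  rw [← h, pow_card_eq_one', D.ρ_one, sub_self]

theorem main (hr : r.Prime) (hrQ : ¬ r ∣ Nat.card Q)
    (hV : ∀ v : V, Nat.card Q • v = 0 → v = 0)
    (hA : ∀ ω, D.bad ω → (∀ a ∈ comSub D.σ, D.π a ω = ω) → ∀ x, D.τ x = x →
      (∑ᶠ a : comSub D.σ, D.ρ a x) = 0 → x ∈ D.K ω)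
    {d : Q} (hd : D.σ d = d) {c₀ : V} (hc₀ : D.τ c₀ = c₀) {g : Q} (hg : g ∈ comSub D.σ)
    (hgd : D.ρ g (D.ρ d c₀ - c₀) ≠ D.ρ d c₀ - c₀) :
    ∃ c, D.τ c = c ∧ ∃ ω, ¬ D.bad ω ∧ D.ρ d c - c ∉ D.K ω := by
  classical
  by_contra! hcon
  set Q₁ := comSub D.σ with hQ₁
  have := Fintype.ofFinite Q₁
  let S₁ : V →+ V := ∑ a : Q₁, D.ρ a
  have hS₁ : ∀ v, S₁ v = ∑ a : Q₁, D.ρ a v := fun v => AddMonoidHom.finsetSum_apply _ _ _
  have hconj : ∀ (a : Q₁) (x : Q), x * a * x⁻¹ ∈ Q₁ := fun a x => conj_mem_comSub _ x a.2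
  have hS₁d : ∀ (b : Q) (v : V), D.ρ b (S₁ v) = S₁ (D.ρ b v) := by
    intro b v
    rw [hS₁, hS₁, map_sum]
    refine Fintype.sum_equiv
      { toFun := fun (a : Q₁) => ⟨b * (a : Q) * b⁻¹, hconj a b⟩
        invFun := fun (a : Q₁) => ⟨b⁻¹ * (a : Q) * b, by simpa using hconj a b⁻¹⟩
        left_inv := fun a => Subtype.ext (show b⁻¹ * (b * (a : Q) * b⁻¹) * b = a by group)
        right_inv := fun a => Subtype.ext
          (show b * (b⁻¹ * (a : Q) * b) * b⁻¹ = a by group) } _ _ fun a => ?_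
    rw [← D.ρ_mul, ← D.ρ_mul]
    simp
  have hS₁τ : ∀ v, D.τ (S₁ v) = S₁ (D.τ v) := by
    intro v
    rw [hS₁, hS₁, map_sum]
    let f : Q₁ → Q₁ := fun a => ⟨D.σ a, map_mem_comSub _ a.2⟩
    have hf : Function.Injective f := fun a b h =>
      Subtype.ext (D.σ.injective (congrArg Subtype.val h : D.σ a = D.σ b))
    refine Fintype.sum_bijective f (Finite.injective_iff_bijective.1 hf) _ _ fun a => ?_
    exact D.hτρ _ _
  have hS₁a : ∀ (b : Q) (_ : b ∈ Q₁) (v : V), D.ρ b (S₁ v) = S₁ v := by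
    intro b hb v
    rw [hS₁, map_sum]
    exact Fintype.sum_equiv (Equiv.mulLeft (⟨b, hb⟩ : Q₁)) _ _ fun a => (D.ρ_mul _ _ _).symm
  set N := Nat.card Q₁
  have hN : ∀ v : V, N • v = 0 → v = 0 := by
    intro v hv
    obtain ⟨k, hk⟩ := Subgroup.card_subgroup_dvd_card Q₁
    refine hV v ?_
    rw [hk, mul_comm, mul_smul, hv, smul_zero]
  -- replace `c₀` by an element of average zero
  obtain ⟨c, hc⟩ : ∃ c, c = N • c₀ - S₁ c₀ := ⟨_, rfl⟩
  have hcτ : D.τ c = c := by rw [hc, map_sub, map_nsmul, hS₁τ, hc₀]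
  obtain ⟨x, hx⟩ : ∃ x, x = D.ρ d c - c := ⟨_, rfl⟩
  have hx' : x = N • (D.ρ d c₀ - c₀) - S₁ (D.ρ d c₀ - c₀) := by
    rw [hx, hc, map_sub, map_nsmul, hS₁d, map_sub, smul_sub]
    abel
  have hx0 : x ≠ 0 := by
    intro h
    rw [hx', sub_eq_zero] at h
    apply hgd
    have h2 : N • (D.ρ g (D.ρ d c₀ - c₀) - (D.ρ d c₀ - c₀)) = 0 := by
      rw [smul_sub, ← map_nsmul, h, hS₁a g hg, sub_self]
    exact sub_eq_zero.1 (hN _ h2)
  have hS₁c : S₁ c = 0 := by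
    rw [hc, map_sub, map_nsmul, sub_eq_zero, hS₁ (S₁ c₀),
      Finset.sum_congr rfl (fun (a : Q₁) _ => hS₁a (a : Q) a.2 c₀), Finset.sum_const,
      Finset.card_univ, ← Nat.card_eq_fintype_card]
  obtain ⟨e, he⟩ : ∃ e, e = D.ρ d x - x := ⟨_, rfl⟩
  have he0 : e ≠ 0 := fun h => hx0 (hx ▸ D.eq_zero_of_pow_fixed hV (hx ▸ sub_eq_zero.1 (he ▸ h)))
  have hxτ : D.τ x = x := by rw [hx, map_sub, D.hτρ, hd, hcτ]
  have heτ : D.τ e = e := by rw [he, map_sub, D.hτρ, hd, hxτ]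
  have hxK : ∀ ω, ¬ D.bad ω → x ∈ D.K ω := fun ω hω => hx ▸ hcon c hcτ ω hω
  have heK : ∀ ω, ¬ D.bad ω → e ∈ D.K ω := fun ω hω => he ▸ hcon x hxτ ω hω
  obtain ⟨ω, hω⟩ : ∃ ω, e ∉ D.K ω := by
    by_contra! h
    exact he0 (D.hK e h)
  have hωbad : D.bad ω := by_contra fun h => hω (heK ω h)
  have htω : D.t ω = ω := D.hbad ω hωbad
  have hS₁e : S₁ e = 0 := by
    have : S₁ x = 0 := by rw [hx, map_sub, ← hS₁d, hS₁c, map_zero, sub_zero]
    rw [he, map_sub, ← hS₁d, this, map_zero, sub_zero]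
  -- the stabiliser of `ω`
  let S : Subgroup Q :=
    { carrier := {b | D.π b ω = ω}
      one_mem' := D.π_one ω
      mul_mem' := fun {a b} ha hb => by
        simp only [Set.mem_ofPred_eq] at *
        rw [D.π_mul, hb, ha]
      inv_mem' := fun {a} ha => by
        simp only [Set.mem_ofPred_eq] at *
        conv_lhs => rw [← ha]
        exact D.π_inv_self a ω }
  have hmemS : ∀ b, b ∈ S ↔ D.π b ω = ω := fun b => Iff.rfl
  have hSσ : ∀ b ∈ S, D.σ b ∈ S := by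
    intro b hb
    rw [hmemS] at hb ⊢
    have := D.ht b ω
    rw [hb, htω] at this
    exact this.symm
  have hQ₁S : ¬ Q₁ ≤ S := fun h => hω (hA ω hωbad h e heτ (by
    rw [finsum_eq_sum_of_fintype, ← hS₁]; exact hS₁e))
  -- positions
  have hfix : ∀ b, D.t (D.π b ω) = D.π b ω ↔ b⁻¹ * D.σ b ∈ S := by
    intro b
    rw [D.ht, htω, hmemS, D.π_mul]
    constructor
    · intro h; rw [h, D.π_inv_self]
    · intro h; conv_rhs => rw [← h, D.π_self_inv]
  have hnb : ∀ b, b⁻¹ * D.σ b ∉ S → ¬ D.bad (D.π b ω) :=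
    fun b hb h => hb ((hfix b).1 (D.hbad _ h))
  -- central elements keep `ω` at fixed positions
  have hk : ∀ z ∈ Subgroup.center Q, z⁻¹ * D.σ z ∈ S := by
    intro z hz
    by_contra hzS
    have hdz : ∀ j, d * (D.σ ^ j) z = (D.σ ^ j) z * d := fun j => Subgroup.mem_center_iff.1
      ((Subgroup.characteristic_iff_le_comap.1 inferInstance (D.σ ^ j)) hz) d
    have hsum : D.ρ d (D.tr (D.ρ z x)) - D.tr (D.ρ z x) =
        ∑ j ∈ Finset.range r, D.ρ ((D.σ ^ j) z) e := by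
      rw [tr, map_sum, ← Finset.sum_sub_distrib]
      refine Finset.sum_congr rfl fun j _ => ?_
      rw [D.τ_pow_ρ, D.τ_pow_fixed hxτ, ← D.ρ_mul, hdz, D.ρ_mul, he, map_sub (D.ρ ((D.σ ^ j) z))]
    refine absurd (hcon (D.tr (D.ρ z x)) (D.τ_tr _) _ (hnb z hzS)) ?_
    rw [hsum]
    refine sum_not_mem (Finset.mem_range.2 hr.pos) ?_ ?_
    · rw [pow_zero]
      exact fun h => hω ((D.hKπ z ω e).1 h)
    · intro j hj hj0
      rw [D.mem_K_π]
      refine heK _ ?_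
      rw [← D.π_mul]
      refine hnb _ fun h => hzS ?_
      exact inv_mul_map_mem_of_pow hr D.σ D.hσ hrQ hSσ hz
        (fun hd => hj0 (Nat.eq_zero_of_dvd_of_lt hd (Finset.mem_range.1 hj))) h
  -- the subgroup `H` of fixed positions
  let C : Subgroup Q := D.σ.toMonoidHom.eqLocus (MonoidHom.id Q)
  have hmemC : ∀ b, b ∈ C ↔ D.σ b = b := fun b => Iff.rfl
  set H := C ⊔ Subgroup.center Q ⊔ S with hH
  have hZH : Subgroup.center Q ≤ H := le_sup_of_le_left le_sup_right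
  have hcomH : ∀ a b : Q, ⁅a, b⁆ ∈ H := fun a b =>
    hZH (Subgroup.mem_center_iff.2 fun x => ((D.hcen a b x).eq).symm)
  have hHn : H.Normal := ⟨fun h hh a => by
    have : a * h * a⁻¹ = ⁅a, h⁆ * h := by rw [commutatorElement_def]; group
    rw [this]
    exact H.mul_mem (hcomH a h) hh⟩
  have hHiff : ∀ b, b⁻¹ * D.σ b ∈ S ↔ b ∈ H := by
    intro b
    constructor
    · intro h
      obtain ⟨f, hf, hbf⟩ := exists_fixed_of_stable_coset hr D.σ D.hσ hrQ hSσ h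
      have : b = f * (b⁻¹ * f)⁻¹ := by group
      rw [this]
      exact H.mul_mem (Subgroup.mem_sup_left (Subgroup.mem_sup_left hf))
        (Subgroup.mem_sup_right (S.inv_mem hbf))
    · intro h
      have hCZn : (C ⊔ Subgroup.center Q).Normal := ⟨fun h hh a => by
        have : a * h * a⁻¹ = ⁅a, h⁆ * h := by rw [commutatorElement_def]; group
        rw [this]
        exact mul_mem (Subgroup.mem_sup_right
          (Subgroup.mem_center_iff.2 fun x => ((D.hcen a h x).eq).symm)) hh⟩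
      obtain ⟨y, hy, u, hu, rfl⟩ := Subgroup.mem_sup_of_normal_left.1 h
      obtain ⟨f, hf, z, hz, rfl⟩ := Subgroup.mem_sup_of_normal_right.1 hy
      have : (f * z * u)⁻¹ * D.σ (f * z * u) = u⁻¹ * (z⁻¹ * D.σ z) * D.σ u := by
        rw [map_mul, map_mul, (hmemC f).1 hf]; group
      rw [this]
      exact S.mul_mem (S.mul_mem (S.inv_mem hu) (hk z hz)) (hSσ u hu)
  have hSH : S ≤ H := le_sup_right
  have hHσ : ∀ b ∈ H, D.σ b ∈ H := by
    intro b hb
    have : D.σ b = b * (b⁻¹ * D.σ b) := by group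
    rw [this]
    exact H.mul_mem hb (hSH ((hHiff b).2 hb))
  have hHfpf : ∀ b, b⁻¹ * D.σ b ∈ H → b ∈ H := by
    intro b hb
    obtain ⟨f, hf, hbf⟩ := exists_fixed_of_stable_coset hr D.σ D.hσ hrQ hHσ hb
    have : b = f * (b⁻¹ * f)⁻¹ := by group
    rw [this]
    exact H.mul_mem (Subgroup.mem_sup_left (Subgroup.mem_sup_left hf)) (H.inv_mem hbf)
  have hHpow : ∀ b ∉ H, ∀ j, ¬ r ∣ j → ((D.σ ^ j) b)⁻¹ * b ∉ H := by
    intro b hb j hj hmem
    apply hb
    apply hHfpf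
    let τ' : Q ⧸ H →* Q ⧸ H := QuotientGroup.map H H D.σ.toMonoidHom fun x hx => hHσ x hx
    have hτ' : ∀ (n : ℕ) (x : Q), (τ' ^[n]) (x : Q ⧸ H) = (((D.σ ^ n) x : Q) : Q ⧸ H) := by
      intro n
      induction n with
      | zero => intro x; rfl
      | succ n ih => intro x; rw [Function.iterate_succ_apply', ih, pow_succ']; rfl
    have h1 : Function.IsPeriodicPt τ' j (b : Q ⧸ H) := by
      show (τ' ^[j]) _ = _
      rw [hτ']
      exact QuotientGroup.eq.2 hmem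
    have h2 : Function.IsPeriodicPt τ' r (b : Q ⧸ H) := by
      show (τ' ^[r]) _ = _
      rw [hτ', D.hσ]
      rfl
    have h3 := h1.gcd h2
    rw [Nat.Coprime.gcd_eq_one ((hr.coprime_iff_not_dvd.2 hj).symm)] at h3
    exact QuotientGroup.eq.1 (show ((b : Q) : Q ⧸ H) = ((D.σ b : Q) : Q ⧸ H) from h3.symm)
  obtain ⟨a₀, ha₀⟩ : ∃ a, a ∉ H := by
    by_contra! hall
    exact hQ₁S (comSub_le fun b => (hHiff b).2 (hall b))
  -- the element `e` vanishes on the whole orbit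
  have hkey : ∀ a ∉ H, ∀ b : Q, D.ρ ⁅d, a⁆ (D.ρ d x) - x ∈ D.K (D.π b ω) := by
    intro a ha
    set z := ⁅d, a⁆ with hz
    set y := D.ρ z (D.ρ d x) - x with hy
    have hnf : ∀ b ∉ H, y ∈ D.K (D.π b ω) := by
      intro b hb
      refine AddSubgroup.sub_mem _ ?_ (hxK _ (hnb b fun h => hb ((hHiff b).1 h)))
      rw [← D.ρ_mul, D.mem_K_π, ← D.π_mul]
      refine hxK _ (hnb _ fun h => hb ?_)
      have hzd : z * d ∈ H :=
        H.mul_mem (hcomH d a) (Subgroup.mem_sup_left (Subgroup.mem_sup_left hd))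
      have := H.mul_mem hzd ((hHiff _).1 h)
      rwa [mul_inv_cancel_left] at this
    intro b
    by_cases hb : b ∈ H
    swap
    · exact hnf b hb
    have hab : a * b ∉ H := fun h => ha ((H.mul_mem_cancel_right hb).1 h)
    have hsum : D.ρ d (D.tr (D.ρ a x)) - D.tr (D.ρ a x) =
        ∑ j ∈ Finset.range r, D.ρ ((D.σ ^ j) a) ((D.τ ^ j) y) := by
      rw [tr, map_sum, ← Finset.sum_sub_distrib]
      refine Finset.sum_congr rfl fun j _ => ?_
      rw [D.τ_pow_ρ, D.τ_pow_fixed hxτ, hy, map_sub, map_sub, D.τ_pow_ρ, D.τ_pow_ρ,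
        D.τ_pow_fixed hxτ, D.σ_pow_fixed hd, ← D.ρ_mul, ← D.ρ_mul, ← D.ρ_mul]
      congr 2
      have h1 : (D.σ ^ j) z = ⁅d, (D.σ ^ j) a⁆ := by
        rw [hz, map_commutatorElement, D.σ_pow_fixed hd]
      rw [h1]
      have h2 : ⁅d, (D.σ ^ j) a⁆ * (D.σ ^ j) a = (D.σ ^ j) a * ⁅d, (D.σ ^ j) a⁆ :=
        (D.hcen d ((D.σ ^ j) a) ((D.σ ^ j) a)).eq
      rw [← h2, commutatorElement_def]
      group
    have hmem : D.ρ d (D.tr (D.ρ a x)) - D.tr (D.ρ a x) ∈ D.K (D.π (a * b) ω) :=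
      hcon _ (D.τ_tr _) _ (hnb _ fun h => hab ((hHiff _).1 h))
    by_contra hyb
    rw [hsum] at hmem
    refine sum_not_mem (Finset.mem_range.2 hr.pos) ?_ ?_ hmem
    · rw [D.π_mul]
      exact fun h => hyb ((D.hKπ _ _ _).1 h)
    · intro j hj hj0
      have hj' : ¬ r ∣ j := fun hd => hj0 (Nat.eq_zero_of_dvd_of_lt hd (Finset.mem_range.1 hj))
      have hnH : ((D.σ ^ j) a)⁻¹ * (a * b) ∉ H := by
        rw [← mul_assoc]
        exact fun h => hHpow a ha j hj' ((H.mul_mem_cancel_right hb).1 h)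
      rw [D.mem_K_π, ← D.π_mul]
      have hyj : (D.τ ^ j) y = D.ρ ((D.σ ^ j) z) (D.ρ d x) - x := by
        rw [hy, map_sub, D.τ_pow_ρ, D.τ_pow_ρ, D.τ_pow_fixed hxτ, D.σ_pow_fixed hd]
      set b' := ((D.σ ^ j) a)⁻¹ * (a * b)
      rw [hyj]
      refine AddSubgroup.sub_mem _ ?_ (hxK _ (hnb b' fun h => hnH ((hHiff _).1 h)))
      rw [← D.ρ_mul, D.mem_K_π, ← D.π_mul]
      refine hxK _ (hnb _ fun h => hnH ?_)
      have hzd : (D.σ ^ j) z * d ∈ H := by
        refine H.mul_mem ?_ (Subgroup.mem_sup_left (Subgroup.mem_sup_left hd))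
        rw [hz, map_commutatorElement]
        exact hcomH _ _
      have := H.mul_mem hzd ((hHiff _).1 h)
      rwa [mul_inv_cancel_left] at this
  obtain ⟨a₁, ha₁, ha₀₁⟩ : ∃ a', a' ∉ H ∧ a₀ * a' ∉ H := by
    by_cases h2 : a₀ * a₀ ∈ H
    swap
    · exact ⟨a₀, ha₀, h2⟩
    have hσa : D.σ a₀ ∉ H := by
      intro hmem
      let f : H → H := fun h => ⟨D.σ h, hHσ _ h.2⟩
      obtain ⟨⟨h, hh⟩, hfh⟩ := (Finite.injective_iff_surjective (f := f)).1
        (fun u v huv => Subtype.ext (D.σ.injective (congrArg Subtype.val huv))) ⟨_, hmem⟩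
      exact ha₀ (D.σ.injective (congrArg Subtype.val hfh) ▸ hh)
    refine ⟨D.σ a₀, hσa, fun h3 => ha₀ (hHfpf a₀ ?_)⟩
    have : a₀⁻¹ * D.σ a₀ = (a₀ * a₀)⁻¹ * (a₀ * D.σ a₀) := by group
    rw [this]
    exact H.mul_mem (H.inv_mem h2) h3
  -- `z₀`, `z₁` and their product send `ρ d x` to `x` modulo every `K (π b ω)`
  set z₀ := ⁅d, a₀⁆ with hz₀
  set z₁ := ⁅d, a₁⁆ with hz₁
  have hz₀₁ : ⁅d, a₀ * a₁⁆ = z₁ * z₀ := by
    have hc : z₁ * a₀⁻¹ = a₀⁻¹ * z₁ := (D.hcen d a₁ a₀⁻¹).eq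
    have hc' : z₁ * z₀ = z₀ * z₁ := (D.hcen d a₁ z₀).eq
    rw [commutatorElement_mul_right_eq_mul_conj, hc', ← hz₀, ← hz₁, mul_assoc, mul_assoc, hc,
      mul_inv_cancel_left]
  have hT : ∀ (q : Q) (v : V), (∀ b, v ∈ D.K (D.π b ω)) → ∀ b, D.ρ q v ∈ D.K (D.π b ω) := by
    intro q v hv b
    rw [D.mem_K_π, ← D.π_mul]
    exact hv _
  have h0 := hkey a₀ ha₀
  have h1 := hkey a₁ ha₁
  have h2 : ∀ b, D.ρ z₁ x - x ∈ D.K (D.π b ω) := by
    intro b
    have h3 := AddSubgroup.sub_mem _ (hkey (a₀ * a₁) ha₀₁ b) (hT z₁ _ h0 b)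
    rw [hz₀₁, ← hz₀, map_sub, ← D.ρ_mul] at h3
    simpa using h3
  have hdx : ∀ b, e ∈ D.K (D.π b ω) := by
    intro b
    have hc : d * z₁ = z₁ * d := (D.hcen d a₁ d).eq.symm
    have h3 := AddSubgroup.sub_mem _ (h1 b) (hT d _ h2 b)
    rw [map_sub, ← hz₁, ← D.ρ_mul, ← D.ρ_mul, hc] at h3
    simpa [he] using h3
  exact hω (by simpa [D.π_one] using hdx 1)

end StepData

end CfsgLib.Turull73
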