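import Cfsg.Agent.Turull73.Frame
import Cfsg.Agent.Turull73.Step

/-!
# The types of a tower and the bad ones among them

* `Ω i`: the types of `Qᵢ` occurring in the dual of `Vᵢ₊₁`, with the action of `G`.
* `Kω`: the image in `Vᵢ` of the kernel of a type; they meet trivially.
* `bad`: `σ` fixes the type and is trivial on `Qᵢ / R` or has no fixed vector in the type space.
* `mem_Kω_of_bad`, `moved_of_not_bad`: the two facts about bad and not bad types.
-/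

set_option autoImplicit false

open scoped commutatorElement

namespace CfsgLib.Turull73

/-- `[Q, σ, σ] = [Q, σ]` under coprime action. -/
theorem comSub_restrictAut_eq_top {Q : Type*} [Group Q] [Fintype Q] {r : ℕ} (hr : r.Prime)
    {σ : MulAut Q} (hσ : σ ^ r = 1) (hcop : ¬ r ∣ Nat.card Q) :
    comSub (restrictAut (comSub σ) σ fun _ hg => map_mem_comSub σ hg) = ⊤ := by
  set σA := restrictAut (comSub σ) σ fun _ hg => map_mem_comSub σ hg
  have hle : comSub σ ≤ (comSub σA).map (comSub σ).subtype := comSub_le fun b => by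
    obtain ⟨c, hc, hbc⟩ := exists_fixed_of_stable_coset hr σ hσ hcop
      (fun g hg => map_mem_comSub σ hg) (mem_comSub σ b)
    refine ⟨(⟨b⁻¹ * c, hbc⟩ : comSub σ) * σA (⟨b⁻¹ * c, hbc⟩ : comSub σ)⁻¹, ?_, ?_⟩
    · simpa using mem_comSub σA (⟨b⁻¹ * c, hbc⟩ : comSub σ)⁻¹
    · show b⁻¹ * c * σ (b⁻¹ * c)⁻¹ = b⁻¹ * σ b
      simp only [map_inv, map_mul, hc]
      group
  refine eq_top_iff.2 fun x _ => ?_
  obtain ⟨y, hy, hyx⟩ := hle x.2
  rwa [Subtype.ext (hyx : (y : Q) = x)] at hy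

/-- An automorphism of an abelian group as an additive endomorphism. -/
def toEnd {A : Type*} [CommGroup A] : MulAut A →* AddMonoid.End (Additive A) where
  toFun e := e.toMonoidHom.toAdditive
  map_one' := AddMonoidHom.ext fun _ => rfl
  map_mul' _ _ := AddMonoidHom.ext fun _ => rfl

theorem toEnd_apply {A : Type*} [CommGroup A] (e : MulAut A) (a : Additive A) :
    toEnd e a = Additive.ofMul (e a.toMul) := rfl

/-- A coprime average argument. -/
theorem mem_of_prod_eq_one {V A : Type*} [CommGroup V] [Finite A] {H : Subgroup V} {p : ℕ}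
    {v : V} (hv : v ^ p = 1) (hp : (Nat.card A).Coprime p) (f : A → V)
    (hf : ∀ a, f a * v⁻¹ ∈ H) (hprod : ∏ᶠ a, f a = 1) : v ∈ H := by
  have := Fintype.ofFinite A
  rw [finprod_eq_prod_of_fintype] at hprod
  rw [Nat.card_eq_fintype_card] at hp
  refine mem_of_pow_pow_mem hp ?_ (by rw [hv]; exact H.one_mem)
  have h := H.prod_mem (t := Finset.univ) fun a _ => hf a
  rw [Finset.prod_mul_distrib, hprod, one_mul, Finset.prod_const, inv_pow, Finset.card_univ,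
    Subgroup.inv_mem_iff] at h
  exact h

variable {G : Type*} [Group G] [Finite G]

namespace Frame

variable (F : Frame G)

/-- The types of `Qᵢ` on the dual of `Vᵢ₊₁`. -/
abbrev Ω (i : ℕ) := {ω : F.Q i → F.K (i + 1) // IsType ω ∧ typeSpace (F.rep i) ω ≠ ⊥}

theorem comp_mem_Ω (i : ℕ) (g : G) (ω : F.Ω i) :
    IsType (fun q => ω.1 ((F.actQ i g).symm q)) ∧
      typeSpace (F.rep i) (fun q => ω.1 ((F.actQ i g).symm q)) ≠ ⊥ := by
  refine ⟨ω.2.1.comp (F.actQ i g).symm, ?_⟩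
  obtain ⟨w, hw, hw0⟩ := Submodule.exists_mem_ne_zero_of_ne_bot ω.2.2
  have h1 := map_mem_typeSpace_comp (F.actQ i g) (F.repG (i + 1) g) (F.repG_rep i g) hw
  refine fun hbot => hw0 ?_
  rw [hbot, Submodule.mem_bot] at h1
  have h2 := congrArg (F.repG (i + 1) g⁻¹) h1
  rwa [map_zero, ← Module.End.mul_apply, ← map_mul, inv_mul_cancel, map_one,
    Module.End.one_apply] at h2

/-- A type transported by an element of `G`. -/
def moveΩ (i : ℕ) (g : G) (ω : F.Ω i) : F.Ω i :=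
  ⟨fun q => ω.1 ((F.actQ i g).symm q), F.comp_mem_Ω i g ω⟩

theorem moveΩ_one (i : ℕ) (ω : F.Ω i) : F.moveΩ i 1 ω = ω := Subtype.ext (funext fun q => by
  show ω.1 ((F.actQ i 1).symm q) = ω.1 q
  rw [map_one]; rfl)

theorem moveΩ_mul (i : ℕ) (g h : G) (ω : F.Ω i) :
    F.moveΩ i (g * h) ω = F.moveΩ i g (F.moveΩ i h ω) := Subtype.ext (funext fun q => by
  show ω.1 ((F.actQ i (g * h)).symm q) = ω.1 ((F.actQ i h).symm ((F.actQ i g).symm q))
  rw [map_mul]; rfl)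

/-- The action of `G` on the types. -/
def permΩ (i : ℕ) : G →* Equiv.Perm (F.Ω i) where
  toFun g :=
    { toFun := F.moveΩ i g
      invFun := F.moveΩ i g⁻¹
      left_inv := fun ω => by rw [← moveΩ_mul, inv_mul_cancel, moveΩ_one]
      right_inv := fun ω => by rw [← moveΩ_mul, mul_inv_cancel, moveΩ_one] }
  map_one' := Equiv.ext (F.moveΩ_one i)
  map_mul' g h := Equiv.ext (F.moveΩ_mul i g h)

theorem permΩ_apply (i : ℕ) (g : G) (ω : F.Ω i) (q : F.Q i) :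
    (F.permΩ i g ω).1 q = ω.1 ((F.actQ i g).symm q) := rfl

/-- The elements fixing a type. -/
def Fix {i : ℕ} (ω : F.Ω i) : Subgroup G where
  carrier := {g | ∀ q, ω.1 (F.actQ i g q) = ω.1 q}
  one_mem' q := by rw [map_one]; rfl
  mul_mem' {a b} ha hb q := by rw [map_mul, MulAut.mul_apply, ha, hb]
  inv_mem' {a} ha q := by
    rw [← ha (F.actQ i a⁻¹ q), ← MulAut.mul_apply, ← map_mul, mul_inv_cancel, map_one]
    rfl

theorem mem_Fix {i : ℕ} {ω : F.Ω i} {g : G} :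
    g ∈ F.Fix ω ↔ ∀ q, ω.1 (F.actQ i g q) = ω.1 q := Iff.rfl

theorem permΩ_eq_self {i : ℕ} {ω : F.Ω i} {g : G} : F.permΩ i g ω = ω ↔ g ∈ F.Fix ω := by
  constructor
  · intro h q
    conv_lhs => rw [← h]
    rw [permΩ_apply, MulEquiv.symm_apply_apply]
  · intro h
    refine Subtype.ext (funext fun q => ?_)
    rw [permΩ_apply, ← h]
    exact congrArg ω.1 ((F.actQ i g).apply_symm_apply q)

theorem N_le_Fix {i : ℕ} (ω : F.Ω (i + 1)) : F.N i ≤ F.Fix ω := fun n hn q => by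
  obtain ⟨c, hc⟩ := F.N_le_inner i hn
  rw [← hc]
  exact ω.2.1.conj_eq q c

/-- The action of `Qᵢ` on the types of `Qᵢ₊₁`. -/
def permQ (i : ℕ) : F.Q i →* Equiv.Perm (F.Ω (i + 1)) :=
  QuotientGroup.lift _ ((F.permΩ (i + 1)).comp (F.E i).subtype) fun _ hn =>
    Equiv.ext fun ω => F.permΩ_eq_self.2 (F.N_le_Fix ω hn)

theorem permQ_mk (i : ℕ) (e : F.E i) : F.permQ i (F.mkQ i e) = F.permΩ (i + 1) (e : G) := rfl

/-- The kernel of a type as a subgroup. -/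
def oneSub {i : ℕ} (ω : F.Ω i) : Subgroup (F.Q i) where
  carrier := {q | ω.1 q = 1}
  one_mem' := ω.2.1.one
  mul_mem' {a b} ha hb := by
    show ω.1 (a * b) = 1
    rw [ω.2.1.mul a b (by rw [ha]; exact one_ne_zero), ha, hb, mul_one]
  inv_mem' {a} ha := by
    show ω.1 a⁻¹ = 1
    rw [ω.2.1.inv (by rw [ha]; exact one_ne_zero), ha, inv_one]

theorem mem_oneSub {i : ℕ} {ω : F.Ω i} {q : F.Q i} : q ∈ F.oneSub ω ↔ ω.1 q = 1 := Iff.rfl

/-- The image of the kernel of a type in `Vᵢ`. -/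
def Kω {i : ℕ} (ω : F.Ω i) : Subgroup (F.V i) := (F.oneSub ω).map (F.toV i)

theorem toV_mem_Kω {i : ℕ} {ω : F.Ω i} {q : F.Q i} (h : ω.1 q = 1) : F.toV i q ∈ F.Kω ω :=
  Subgroup.mem_map_of_mem _ h

theorem actV_mem_Kω {i : ℕ} (g : G) {ω : F.Ω i} {v : F.V i} (hv : v ∈ F.Kω ω) :
    F.actV i g v ∈ F.Kω (F.permΩ i g ω) := by
  obtain ⟨q, hq, rfl⟩ := hv
  rw [← toV_actQ]
  refine F.toV_mem_Kω ?_
  rw [permΩ_apply, MulEquiv.symm_apply_apply]
  exact hq

theorem actV_mem_Kω_iff {i : ℕ} (g : G) (ω : F.Ω i) (v : F.V i) :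
    F.actV i g v ∈ F.Kω (F.permΩ i g ω) ↔ v ∈ F.Kω ω := by
  refine ⟨fun h => ?_, F.actV_mem_Kω g⟩
  have := F.actV_mem_Kω g⁻¹ h
  rwa [← Equiv.Perm.mul_apply, ← MulAut.mul_apply, ← map_mul, ← map_mul, inv_mul_cancel, map_one,
    map_one] at this

theorem exists_Ω_ne_one {i : ℕ} (hi : i < F.S.t) {q : F.Q i} (hq : q ≠ 1) :
    ∃ ω : F.Ω i, ω.1 q ≠ 1 := by
  have := Fintype.ofFinite (F.Q i)
  obtain ⟨ω, hω, hne, h⟩ := exists_isType_ne_one (F.hcen i) (F.card_Q_ne_zero hi)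
    (fun h => hq (F.eq_one_of_rep hi h))
  exact ⟨⟨ω, hω, hne⟩, h⟩

/-- The kernels of the types meet trivially in `Vᵢ`. -/
theorem eq_one_of_mem_Kω {i : ℕ} (hi : i < F.S.t) {v : F.V i} (hv : ∀ ω : F.Ω i, v ∈ F.Kω ω) :
    v = 1 := by
  rcases F.eq_bot_or_top (⨅ ω : F.Ω i, F.Kω ω) (fun g w hw => Subgroup.mem_iInf.2 fun ω => by
    have h := F.actV_mem_Kω g (Subgroup.mem_iInf.1 hw (F.permΩ i g⁻¹ ω))
    rwa [← Equiv.Perm.mul_apply, ← map_mul, mul_inv_cancel, map_one] at h) with h | h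
  · have h1 : v ∈ ⨅ ω : F.Ω i, F.Kω ω := Subgroup.mem_iInf.2 hv
    rw [h] at h1
    exact Subgroup.mem_bot.1 h1
  · obtain ⟨w, hw⟩ := F.V_nontrivial i
    obtain ⟨q, rfl⟩ := F.toV_surjective i w
    obtain ⟨ω, hω⟩ := F.exists_Ω_ne_one hi (q := q) fun h1 => hw (by rw [h1, map_one])
    have htop : (F.oneSub ω).map (F.toV i) = ⊤ :=
      top_unique (h.ge.trans (iInf_le _ ω))
    exact absurd ((F.eq_top_of_map htop).ge (Subgroup.mem_top q)) hω

theorem type_ne_zero_of_toV {i : ℕ} (ω : F.Ω i) {q : F.Q i} (hq : F.toV i q = 1) : ω.1 q ≠ 0 :=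
  (ω.2.1.mem q).2 fun h => by
    rw [commutatorElement_eq_one_iff_mul_comm.2 (F.commute_of_toV hq h).eq, ω.2.1.one]

/-- A type is bad if `σ` fixes it and is trivial on `Q / R` or fixes no vector of its space. -/
def bad {i : ℕ} (ω : F.Ω i) : Prop :=
  (∀ q, ω.1 (F.actQ i F.S.s q) = ω.1 q) ∧
    ((∀ q, ω.1 (q⁻¹ * F.actQ i F.S.s q) ≠ 0) ∨
      ∀ w ∈ typeSpace (F.rep i) ω.1, F.repG (i + 1) F.S.s w = w → w = 0)

theorem permΩ_of_bad {i : ℕ} {ω : F.Ω i} (h : F.bad ω) : F.permΩ i F.S.s ω = ω :=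
  F.permΩ_eq_self.2 h.1

/-- The automorphism of `Q / R` induced by an element fixing a type. -/
noncomputable def onB {i : ℕ} (ω : F.Ω i) : F.Fix ω →* MulAut (F.Q i ⧸ ω.2.1.supp) where
  toFun g := ω.2.1.quotAut (F.actQ i g) g.2
  map_one' := MulEquiv.ext fun b => by
    induction b using QuotientGroup.induction_on with | H q => ?_
    show ((F.actQ i 1 q : F.Q i) : F.Q i ⧸ ω.2.1.supp) = _
    rw [map_one]; rfl
  map_mul' g h := MulEquiv.ext fun b => by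
    induction b using QuotientGroup.induction_on with | H q => ?_
    show ((F.actQ i (g * h) q : F.Q i) : F.Q i ⧸ ω.2.1.supp) =
      ((F.actQ i g (F.actQ i h q) : F.Q i) : F.Q i ⧸ ω.2.1.supp)
    rw [map_mul]; rfl

theorem onB_mk {i : ℕ} (ω : F.Ω i) (g : F.Fix ω) (q : F.Q i) :
    F.onB ω g (q : F.Q i ⧸ ω.2.1.supp) = ((F.actQ i g q : F.Q i) : F.Q i ⧸ ω.2.1.supp) := rfl

theorem onB_congr {i : ℕ} (ω : F.Ω (i + 1)) {g g' : F.Fix ω} (h : (g : G)⁻¹ * g' ∈ F.N i) :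
    F.onB ω g = F.onB ω g' := by
  rw [← inv_mul_eq_one, ← map_inv, ← map_mul]
  obtain ⟨c, hc⟩ := F.N_le_inner i h
  refine MulEquiv.ext fun b => ?_
  induction b using QuotientGroup.induction_on with | H q => ?_
  rw [onB_mk]
  show ((F.actQ (i + 1) ((g : G)⁻¹ * g') q : F.Q (i + 1)) : F.Q (i + 1) ⧸ ω.2.1.supp) = _
  rw [← hc]
  refine QuotientGroup.eq.2 ?_
  show (c * q * c⁻¹)⁻¹ * q ∈ ω.2.1.supp
  rw [show (c * q * c⁻¹)⁻¹ * q = ⁅c, q⁻¹⁆ by rw [commutatorElement_def]; group]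
  exact ω.2.1.comm_mem _ _

set_option maxHeartbeats 1000000 in
/-- A fixed element of average zero under `[Qᵢ, σ]` lies in the kernels of the bad types fixed by
`[Qᵢ, σ]`. -/
theorem mem_Kω_of_bad {i : ℕ} (hi : i + 1 < F.S.t) {ω : F.Ω (i + 1)} (hbad : F.bad ω)
    (hfix : ∀ a ∈ comSub (F.actQ i F.S.s), F.permQ i a ω = ω) {v : F.V (i + 1)}
    (hsum : ∏ᶠ a : comSub (F.actQ i F.S.s), F.ρQ i a v = 1) : v ∈ F.Kω ω := by
  classical
  have := Fintype.ofFinite (F.Q i)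
  set A := comSub (F.actQ i F.S.s)
  have hmem : ∀ a : A, ((a : F.Q i).out : G) ∈ F.Fix ω := fun a => F.permΩ_eq_self.1 (by
    rw [← permQ_mk]
    have : F.mkQ i (a : F.Q i).out = a := QuotientGroup.out_eq' _
    rw [this]
    exact hfix a a.2)
  let lift : A → F.Fix ω := fun a => ⟨_, hmem a⟩
  have hlift : ∀ (a : A) (e : F.E i) (he : (e : G) ∈ F.Fix ω), F.mkQ i e = (a : F.Q i) →
      F.onB ω (lift a) = F.onB ω ⟨e, he⟩ := fun a e he h => F.onB_congr ω (by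
    have h1 := (QuotientGroup.eq (s := (F.N i).subgroupOf (F.E i))).1
      ((QuotientGroup.out_eq' (a : F.Q i)).trans h.symm)
    exact h1)
  let β : A →* MulAut (F.Q (i + 1) ⧸ ω.2.1.supp) := MonoidHom.mk' (fun a => F.onB ω (lift a))
    fun a b => by
      rw [← map_mul]
      refine hlift (a * b) ((a : F.Q i).out * (b : F.Q i).out)
        ((F.Fix ω).mul_mem (hmem a) (hmem b)) ?_
      rw [map_mul]
      exact congrArg₂ (· * ·) (QuotientGroup.out_eq' _) (QuotientGroup.out_eq' _)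
  have hσA : restrictAut A (F.actQ i F.S.s) (fun _ hg => map_mem_comSub _ hg) ^ F.S.r = 1 :=
    MulEquiv.ext fun g => Subtype.ext (by rw [restrictAut_pow, F.actQ_pow_r]; rfl)
  have hApow : ∃ k, Nat.card A = F.p i ^ k :=
    IsPGroup.iff_card.1 ((F.isPGroup_Q i).to_subgroup A)
  have hpne : F.p i ≠ F.p (i + 1) := F.p_ne (by omega)
  have hcopA : (Nat.card A).Coprime (F.p (i + 1)) := by
    obtain ⟨k, hk⟩ := hApow
    rw [hk]
    exact coprime_prime_pow (F.p_prime i) (F.p_prime _) hpne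
  have hβ1 : β = 1 := eq_one_of_bad F.S.hr ω.2.1 (F.hcen _) (F.card_Q_ne_zero hi)
    (F.r_ne_zero _) (F.not_r_dvd_Q _) (F.p_prime (i + 1)) (F.isPGroup_Q _)
    (fun g => F.type_ne_zero_of_toV ω (by rw [map_pow, F.pow_p]))
    (σ := F.actQ (i + 1) F.S.s) (F.actQ_pow_r _) hbad.1 (s := F.repG (i + 2) F.S.s)
    (F.repG_pow_r _) (F.repG_rep (i + 1) F.S.s) ω.2.2 hbad.2
    (fun a b c => Subtype.ext (F.hcen i (a : F.Q i) b c).eq) hσA
    (fun h => F.not_r_dvd_Q i (h.trans (Subgroup.card_subgroup_dvd_card A)))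
    (fun h => (F.p_prime (i + 1)).ne_one (Nat.eq_one_of_dvd_coprimes hcopA h dvd_rfl))
    (comSub_restrictAut_eq_top F.S.hr (F.actQ_pow_r i) (F.not_r_dvd_Q i)) β
    (fun a x y => ω.2.1.pair_quotAut (F.hcen _) (lift a).2 x y) fun a b => by
      induction b using QuotientGroup.induction_on with | H q => ?_
      set e := (a : F.Q i).out
      have hse : (⟨F.S.s * e * F.S.s⁻¹, (F.isLayer i).hEn.conj_mem e e.2 F.S.s⟩ : F.E i).1 ∈
          F.Fix ω :=
        (F.Fix ω).mul_mem ((F.Fix ω).mul_mem hbad.1 (hmem a)) ((F.Fix ω).inv_mem hbad.1)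
      have h1 : F.onB ω (lift (restrictAut A (F.actQ i F.S.s)
          (fun _ hg => map_mem_comSub _ hg) a)) = F.onB ω ⟨_, hse⟩ :=
        hlift _ ⟨F.S.s * e * F.S.s⁻¹, (F.isLayer i).hEn.conj_mem e e.2 F.S.s⟩ hse (by
          rw [restrictAut_apply]
          conv_rhs => rw [← QuotientGroup.out_eq' (a : F.Q i)]
          rfl)
      show ω.2.1.quotAut _ hbad.1 (F.onB ω (lift a) _) = F.onB ω (lift _) _
      rw [h1, IsType.quotAut_mk, onB_mk, onB_mk, IsType.quotAut_mk]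
      congr 1
      show F.actQ (i + 1) F.S.s (F.actQ (i + 1) (e : G) q) =
        F.actQ (i + 1) (F.S.s * e * F.S.s⁻¹) (F.actQ (i + 1) F.S.s q)
      rw [← MulAut.mul_apply, ← MulAut.mul_apply, ← map_mul, ← map_mul, inv_mul_cancel_right]
  have htriv : ∀ (a : A) (q : F.Q (i + 1)),
      q⁻¹ * F.actQ (i + 1) ((a : F.Q i).out : G) q ∈ ω.2.1.supp := fun a q =>
    (QuotientGroup.eq (s := ω.2.1.supp)).1
      (congrArg (fun f : MulAut (F.Q (i + 1) ⧸ ω.2.1.supp) => f q)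
        (show F.onB ω (lift a) = 1 from DFunLike.congr_fun hβ1 a)).symm
  have hρ : ∀ (a : A) (q : F.Q (i + 1)), F.ρQ i a (F.toV (i + 1) q) =
      F.toV (i + 1) (F.actQ (i + 1) ((a : F.Q i).out : G) q) := fun a q => by
    conv_lhs => rw [← QuotientGroup.out_eq' (a : F.Q i)]
    rw [toV_actQ]
    rfl
  -- `v` lies in the image of the radical
  obtain ⟨g, hg, rfl⟩ : v ∈ ω.2.1.supp.map (F.toV (i + 1)) := by
    obtain ⟨q, rfl⟩ := F.toV_surjective (i + 1) v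
    refine mem_of_prod_eq_one (F.pow_p _ _) hcopA _ (fun a => ?_) hsum
    rw [hρ, mul_comm, ← map_inv, ← map_mul]
    exact Subgroup.mem_map_of_mem _ (htriv a q)
  refine mem_of_prod_eq_one (F.pow_p _ _) hcopA _ (fun a => ?_) hsum
  rw [hρ, ← map_inv, ← map_mul]
  refine F.toV_mem_Kω ?_
  have hfixg : ω.1 (F.actQ (i + 1) ((a : F.Q i).out : G) g) = ω.1 g := (lift a).2 g
  rw [ω.2.1.mul _ _ (by rw [hfixg]; exact hg), hfixg, ω.2.1.inv hg, mul_inv_cancel₀ hg]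

/-- The data of the inductive step. -/
noncomputable def stepData {i : ℕ} (hi : i + 1 < F.S.t) :
    StepData (F.Q i) (Additive (F.V (i + 1))) (F.Ω (i + 1)) F.S.r where
  σ := F.actQ i F.S.s
  hσ := F.actQ_pow_r i
  hcen := F.hcen i
  ρ := toEnd.comp (F.ρQ i)
  τ := toEnd (F.actV (i + 1) F.S.s)
  hτ := by rw [← map_pow, F.actV_pow_r, map_one]
  hτρ q v := congrArg Additive.ofMul (F.actV_ρQ i F.S.s q v.toMul)
  π := F.permQ i
  t := F.permΩ (i + 1) F.S.s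
  ht q ω := by
    obtain ⟨e, rfl⟩ := F.mkQ_surjective i q
    show F.permΩ (i + 1) F.S.s (F.permΩ (i + 1) (e : G) ω) =
      F.permΩ (i + 1) (F.S.s * e * F.S.s⁻¹) (F.permΩ (i + 1) F.S.s ω)
    rw [← Equiv.Perm.mul_apply, ← map_mul, ← Equiv.Perm.mul_apply, ← map_mul, inv_mul_cancel_right]
  K ω := (F.Kω ω).toAddSubgroup
  hKπ q ω v := by
    obtain ⟨e, rfl⟩ := F.mkQ_surjective i q
    exact F.actV_mem_Kω_iff (e : G) ω v.toMul
  hKt ω v := F.actV_mem_Kω_iff F.S.s ω v.toMul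
  hK v hv := congrArg Additive.ofMul (F.eq_one_of_mem_Kω hi (v := v.toMul) hv)
  bad := F.bad
  hbad _ h := F.permΩ_of_bad h

theorem stepData_hA {i : ℕ} (hi : i + 1 < F.S.t) (ω : F.Ω (i + 1)) (hbad : (F.stepData hi).bad ω)
    (hfix : ∀ a ∈ comSub (F.stepData hi).σ, (F.stepData hi).π a ω = ω)
    (x : Additive (F.V (i + 1))) (_hx : (F.stepData hi).τ x = x)
    (hsum : (∑ᶠ a : comSub (F.stepData hi).σ, (F.stepData hi).ρ a x) = 0) :
    x ∈ (F.stepData hi).K ω := by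
  classical
  have : Fintype (comSub (F.stepData hi).σ) := Fintype.ofFinite _
  show x.toMul ∈ F.Kω ω
  refine F.mem_Kω_of_bad hi hbad hfix ?_
  rw [finsum_eq_sum_of_fintype] at hsum
  change ∏ᶠ a : comSub (F.stepData hi).σ, F.ρQ i a x.toMul = 1
  rw [finprod_eq_prod_of_fintype]
  have h := congrArg Additive.toMul hsum
  rw [toMul_sum] at h
  exact h

/-- A fixed element not in the kernel of a type which is not bad moves a fixed element to one not
centralised by `[Qᵢ, σ]`. -/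
theorem moved_of_not_bad {i : ℕ} (hi : i < F.S.t) {ω : F.Ω i} (hnb : ¬ F.bad ω) {d : F.Q i}
    (hd : F.actQ i F.S.s d = d) (hωd : ω.1 d ≠ 1) :
    ∃ c, F.actV (i + 1) F.S.s c = c ∧ ∃ g ∈ comSub (F.actQ i F.S.s),
      F.ρQ i g (F.ρQ i d c * c⁻¹) ≠ F.ρQ i d c * c⁻¹ := by
  obtain ⟨g, hg, w, hgw⟩ := exists_moved_of_not_bad (F.actQ i F.S.s) (F.repG (i + 1) F.S.s)
    (F.repG_rep i F.S.s) (F.hcen i) (F.card_Q_ne_zero hi) F.S.hr (F.not_r_dvd_Q i)
    (F.r_ne_zero _) (F.actQ_pow_r i) (F.repG_pow_r _) ω.2.1 ω.2.2 hnb hd hωd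
  by_contra! hall
  apply hgw
  set π := F.actV (i + 1) F.S.s⁻¹ with hπ
  have hπr : π ^ F.S.r = 1 := by rw [hπ, ← map_pow, inv_pow, F.S.hs, inv_one, map_one]
  have hd' : F.actQ i F.S.s⁻¹ d⁻¹ = d⁻¹ := by
    conv_lhs => rw [← hd]
    rw [map_inv, ← MulAut.mul_apply, ← map_mul, inv_mul_cancel, map_one]
    rfl
  have hcomm : ∀ v, π (F.ρQ i d⁻¹ v) = F.ρQ i d⁻¹ (π v) := fun v => by
    rw [hπ, F.actV_ρQ, hd']
  have hnorm : ∀ v, normHom π F.S.r (F.ρQ i d⁻¹ v) = F.ρQ i d⁻¹ (normHom π F.S.r v) := by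
    intro v
    rw [normHom_apply, normHom_apply, map_prod]
    refine Finset.prod_congr rfl fun j _ => ?_
    clear * - hcomm
    induction j with
    | zero => rfl
    | succ j ih => rw [pow_succ', MulAut.mul_apply, MulAut.mul_apply, ih, hcomm]
  have hT : ∀ v : F.V (i + 1),
      (∑ j ∈ Finset.range F.S.r, (F.repG (i + 1) F.S.s ^ j) (F.rep i g w - w))
        (Additive.ofMul v) = (F.rep i g w - w) (Additive.ofMul (normHom π F.S.r v)) := by
    intro v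
    rw [AddMonoidHom.finsetSum_apply, normHom_apply, ofMul_prod, map_sum]
    refine Finset.sum_congr rfl fun j _ => ?_
    rw [← map_pow, hπ, ← map_pow, inv_pow]
    rfl
  refine AddMonoidHom.ext fun v => ?_
  obtain ⟨v, rfl⟩ := Additive.ofMul.surjective v
  show (∑ j ∈ Finset.range F.S.r, (F.repG (i + 1) F.S.s ^ j) (F.rep i g w - w))
    (Additive.ofMul (F.ρQ i d⁻¹ v)) = _
  rw [hT, hT, hnorm]
  set c₀ := normHom π F.S.r v
  have hc₀ : F.actV (i + 1) F.S.s c₀ = c₀ := by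
    have h : π c₀ = c₀ := map_normHom hπr v
    conv_lhs => rw [← h, hπ, ← MulAut.mul_apply, ← map_mul, mul_inv_cancel, map_one]
    rfl
  have hfix := hall (F.ρQ i d⁻¹ c₀) (by
    rw [F.actV_ρQ, map_inv, hd, hc₀]) g⁻¹ ((comSub _).inv_mem hg)
  rw [show F.ρQ i d (F.ρQ i d⁻¹ c₀) = c₀ by
    rw [← MulAut.mul_apply, ← map_mul, mul_inv_cancel, map_one]; rfl] at hfix
  rw [← sub_eq_zero, ← map_sub, ← ofMul_div]
  show w (Additive.ofMul (F.ρQ i g⁻¹ (F.ρQ i d⁻¹ c₀ / c₀))) -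
    w (Additive.ofMul (F.ρQ i d⁻¹ c₀ / c₀)) = 0
  rw [show F.ρQ i d⁻¹ c₀ / c₀ = (c₀ * (F.ρQ i d⁻¹ c₀)⁻¹)⁻¹ by
    rw [mul_inv_rev, inv_inv, div_eq_mul_inv], map_inv, hfix, sub_self]

end Frame

end CfsgLib.Turull73
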