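import Cfsg.Agent.Turull73.Chain

/-!
# The layers on which the automorphism is trivial, and the first one on which it is not

* `exists_cover`: below the first moved layer the residuals of `C` cover the sections.
* `fpf_of_first`: `σ` has no fixed point on the first moved layer.
-/

set_option autoImplicit false

open scoped commutatorElement

namespace CfsgLib.Turull73

open FittingLength

variable {G : Type*} [Group G] [Finite G]

namespace Frame

variable (F : Frame G)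

/-- `σ` is trivial on the `i`-th chief factor. -/
def STriv (i : ℕ) : Prop := ∀ e ∈ F.E i, ⁅F.S.s, e⁆ ∈ F.M i

theorem E_le_of_commutator {i : ℕ} (hi : i < F.S.t) {T : Subgroup G} (hM : F.M (i + 1) ≤ T)
    (h : ∀ x ∈ F.E i, ∀ e ∈ F.E (i + 1), ⁅x, e⁆ ∈ T) : F.E (i + 1) ≤ T := by
  set T₁ := ⁅F.E i, F.E (i + 1)⁆ ⊔ F.M (i + 1) with hT₁
  rcases (F.isLayer (i + 1)).irr T₁ inferInstance le_sup_right
    (sup_le (Subgroup.commutator_le_right _ _) (F.M_le_E (i + 1))) with h1 | h1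
  · exfalso
    obtain ⟨x, hx, hxM⟩ := SetLike.exists_of_lt (F.isLayer i).hME
    refine hxM (F.N_le_M i (((F.link hi).hN x).2 ⟨hx, fun e he => ?_⟩))
    exact h1.le (Subgroup.mem_sup_left (Subgroup.commutator_mem_commutator hx he))
  · exact h1.ge.trans (sup_le (Subgroup.commutator_le.2 h) hM)

/-- The `p`-elements in a residual of `C` and in `Eᵢ`. -/
def IsU (i : ℕ) (u : G) : Prop :=
  u ∈ nilRes F.C i ∧ u ∈ F.E i ∧ ∃ k, orderOf u = F.p i ^ k

theorem IsU.inv {i : ℕ} {u : G} (h : F.IsU i u) : F.IsU i u⁻¹ :=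
  ⟨inv_mem h.1, inv_mem h.2.1, by rw [orderOf_inv]; exact h.2.2⟩

theorem IsU.mem_C {i : ℕ} {u : G} (h : F.IsU i u) : u ∈ F.C := F.nilRes_C_le i h.1

theorem cover_of_onto {i : ℕ}
    (h : ∀ e ∈ F.E i, ∃ y ∈ nilRes F.C i, y ∈ F.E i ∧ y⁻¹ * e ∈ F.M i) :
    ∀ e ∈ F.E i, ∃ u, F.IsU i u ∧ e⁻¹ * u ∈ F.N i := by
  set T := (nilRes F.C i ⊓ F.E i) ⊔ F.N i
  have hT : F.E i ≤ T := (F.isLayer i).frat T le_sup_right
    (sup_le inf_le_right ((F.N_le_M i).trans (F.M_le_E i))) fun e he => by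
      obtain ⟨y, hy, hyE, hye⟩ := h e he
      rw [show e = y * (y⁻¹ * e) by group]
      exact Subgroup.mul_mem_sup (Subgroup.mem_sup_left ⟨hy, hyE⟩) hye
  intro e he
  obtain ⟨y, hy, n, hn, rfl⟩ := Subgroup.mem_sup_of_normal_right.1 (hT he)
  obtain ⟨u, hu, hup, hyu⟩ := F.exists_pPart i hy.2
  refine ⟨u, ⟨(Subgroup.zpowers_le.2 hy.1) hu, (Subgroup.zpowers_le.2 hy.2) hu, hup⟩, ?_⟩
  rw [show (y * n)⁻¹ * u = n⁻¹ * (y⁻¹ * u) by group]
  exact (F.N i).mul_mem ((F.N i).inv_mem hn) hyu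

/-- Below the first moved layer the residuals of `C` cover the sections. -/
theorem exists_cover : ∀ {i : ℕ}, i ≤ F.S.t → (∀ k ≤ i, F.STriv k) →
    ∀ e ∈ F.E i, ∃ u, F.IsU i u ∧ e⁻¹ * u ∈ F.N i := by
  intro i
  induction i with
  | zero =>
    intro _ htriv
    refine F.cover_of_onto fun e he => ?_
    obtain ⟨c, hc, hec⟩ := F.exists_mem_C ((F.M_le_E 0).trans (F.E_le_X 0)) (F.E_le_X 0 he)
      (htriv 0 le_rfl e he)
    refine ⟨c, hc, by simpa using (F.E 0).mul_mem he (F.M_le_E 0 hec), ?_⟩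
    simpa using (F.M 0).inv_mem hec
  | succ i ih =>
    intro hi htriv
    have hcov := ih (by omega) fun k hk => htriv k (by omega)
    refine F.cover_of_onto fun e he => ?_
    have hT : F.E (i + 1) ≤ (nilRes F.C (i + 1) ⊓ F.E (i + 1)) ⊔ F.M (i + 1) := by
      refine F.E_le_of_commutator (by omega) le_sup_right fun x hx e he => ?_
      obtain ⟨u, hu, hxu⟩ := hcov x hx
      obtain ⟨c, hc, hec⟩ := F.exists_C_lift (v := F.mkV (i + 1) ⟨e, he⟩)
        (F.actV_eq_self.2 (htriv (i + 1) le_rfl e he))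
      obtain ⟨z, hz, -, hzV⟩ := F.exists_res_succ (F.p_ne (by omega)) hu.1 hu.2.2 hc
      have hact : F.actV (i + 1) u = F.actV (i + 1) x := by
        rw [← F.ρQ_mk i ⟨u, hu.2.1⟩, ← F.ρQ_mk i ⟨x, hx⟩]
        congr 1
        have h := (QuotientGroup.eq (a := (⟨x, hx⟩ : F.E i)) (b := ⟨u, hu.2.1⟩)
          (s := (F.N i).subgroupOf (F.E i))).2 hxu
        exact h.symm
      rw [hec, hact, F.actV_mul_inv] at hzV
      have hm : (z : G)⁻¹ * ⁅x, e⁆ ∈ F.M (i + 1) := by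
        have h := (QuotientGroup.eq (s := (F.M (i + 1)).subgroupOf (F.E (i + 1)))).1 hzV
        exact h
      rw [show ⁅x, e⁆ = (z : G) * ((z : G)⁻¹ * ⁅x, e⁆) by group]
      exact Subgroup.mul_mem_sup ⟨hz, z.2⟩ hm
    obtain ⟨y, hy, m, hm, rfl⟩ := Subgroup.mem_sup_of_normal_right.1 (hT he)
    exact ⟨y, hy.1, hy.2, by simpa using hm⟩

theorem exists_U_not_mem {i : ℕ} (hi : i ≤ F.S.t) (htriv : ∀ k ≤ i, F.STriv k) :
    ∃ u, F.IsU i u ∧ u ∉ F.N i := by
  obtain ⟨x, hx, hxM⟩ := SetLike.exists_of_lt (F.isLayer i).hME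
  obtain ⟨u, hu, hxu⟩ := F.exists_cover hi htriv x hx
  refine ⟨u, hu, fun huN => hxM (F.N_le_M i ?_)⟩
  simpa using (F.N i).mul_mem huN ((F.N i).inv_mem hxu)

theorem ne_bot_of_trivial {i : ℕ} (hi : i ≤ F.S.t) (htriv : ∀ k ≤ i, F.STriv k)
    (hn : F.S.t - 2 ≤ i) : nilRes F.C (F.S.t - 2) ≠ ⊥ := by
  obtain ⟨u, hu, huN⟩ := F.exists_U_not_mem hi htriv
  intro hbot
  have h1 : u ∈ (⊥ : Subgroup G) := hbot ▸ nilRes_le_of_le _ hn hu.1
  exact huN (by rw [Subgroup.mem_bot.1 h1]; exact one_mem _)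

/-- The first layer has `M = N`. -/
theorem M_zero_le_N (ht : 0 < F.S.t) : F.M 0 ≤ F.N 0 := by
  by_contra h
  obtain ⟨m, hm, hmN⟩ := SetLike.not_le_iff_exists.1 h
  obtain ⟨e, he, hne⟩ : ∃ e ∈ F.E 1, ⁅m, e⁆ ∉ F.M 1 := by
    by_contra! hall
    exact hmN (((F.link ht).hN m).2 ⟨F.M_le_E 0 hm, hall⟩)
  have hlay : F.L 1 = F.lay 1 := by rw [lay, min_eq_left (show 1 ≤ F.S.t by omega)]
  have hL : Tower F.S F.L (0 + 1) :=
    ⟨fun a _ => F.hT.layer a (Nat.zero_le _), fun a _ => F.hT.link a (Nat.zero_le _)⟩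
  have hMX : F.M 0 ≤ F.S.X := (F.M_le_E 0).trans (F.E_le_X 0)
  have hne' := surv F.S ht hL
    ((F.layer ht.le).hDN.trans (F.N_le_M 0)) (show m ∈ nilRes (F.M 0) 0 from hm)
    (show m ∈ nilRes F.S.X 0 from hMX hm)
    (show e ∈ (F.L (0 + 1)).E by rw [zero_add, hlay]; exact he)
    (show ⁅m, e⁆ ∉ (F.L (0 + 1)).M by rw [zero_add, hlay]; exact hne)
  have := F.S.hmin (F.M 0) hMX (fun y hy => (F.isLayer 0).hMn.conj_mem y hy F.S.s) hne'
  exact (F.isLayer 0).hME.not_ge ((F.E_le_X 0).trans this.ge)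

/-- `σ` has no fixed point on the first moved layer. -/
theorem fpf_of_first (hG : F.S.X ⊔ Subgroup.zpowers F.S.s = ⊤) {j : ℕ} (hj : j ≤ F.S.t)
    (htriv : ∀ k < j, F.STriv k) (hnt : ¬ F.STriv j) :
    ∀ v : F.V j, F.actV j F.S.s v = v → v = 1 := by
  have hX : F.S.X ≤ F.C ⊔ nilRes F.S.X j := by
    rcases Nat.eq_zero_or_eq_succ_pred j with h | h
    · subst h
      exact le_sup_right
    obtain ⟨i, rfl⟩ : ∃ i, j = i + 1 := ⟨_, h⟩
    have := F.S.D_normal (i + 1)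
    set Y := F.C ⊔ nilRes F.S.X (i + 1)
    have hYX : Y ≤ F.S.X := sup_le F.C_le_X (nilRes_le _ _)
    have hYs : ∀ y ∈ Y, F.S.s * y * F.S.s⁻¹ ∈ Y := by
      intro y hy
      have hle : Y ≤ Y.comap (MulAut.conj F.S.s).toMonoidHom := by
        refine sup_le (fun c hc => Subgroup.mem_sup_left ?_) fun d hd =>
          Subgroup.mem_sup_right ((F.S.D_normal (i + 1)).conj_mem d hd F.S.s)
        show F.S.s * c * F.S.s⁻¹ ∈ F.C
        rwa [(F.mem_C.1 hc).2, mul_inv_cancel_right]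
      exact hle hy
    obtain ⟨u, hu, huN⟩ := F.exists_U_not_mem (i := i) (by omega) fun k hk => htriv k (by omega)
    obtain ⟨e, he, hne⟩ : ∃ e ∈ F.E (i + 1), ⁅u, e⁆ ∉ F.M (i + 1) := by
      by_contra! hall
      exact huN (((F.link (by omega)).hN u).2 ⟨hu.2.1, hall⟩)
    have hlay : F.L (i + 1) = F.lay (i + 1) := by rw [lay, min_eq_left hj]
    have hL : Tower F.S F.L (i + 1) :=
      ⟨fun a _ => F.hT.layer a (Nat.zero_le _), fun a _ => F.hT.link a (Nat.zero_le _)⟩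
    have hne' := surv F.S (show i < F.S.t by omega) hL (le_sup_right : _ ≤ Y)
      (nilRes_mono (le_sup_left : F.C ≤ Y) i hu.1) (F.E_le_D (show i ≤ F.S.t by omega) hu.2.1)
      (show e ∈ (F.L (i + 1)).E by rw [hlay]; exact he)
      (show ⁅u, e⁆ ∉ (F.L (i + 1)).M by rw [hlay]; exact hne)
    exact (F.S.hmin Y hYX hYs hne').ge
  set H := (Subgroup.centralizer ({F.actV j F.S.s} : Set (MulAut (F.V j)))).comap (F.actV j)
  have hCH : F.C ≤ H := fun c hc => by
    rw [Subgroup.mem_comap, Subgroup.mem_centralizer_singleton_iff, ← map_mul, ← map_mul,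
      (F.mem_C.1 hc).2]
  have hDH : nilRes F.S.X j ≤ H := fun d hd => by
    have h1 : F.actV j d = 1 := MulEquiv.ext fun v => by
      obtain ⟨e, rfl⟩ := F.mkV_surjective j v
      exact F.actV_eq_self.2 ((F.layer hj).cenD d hd e e.2)
    rw [Subgroup.mem_comap, h1]
    exact one_mem _
  have htop : H = ⊤ := by
    rw [eq_top_iff, ← hG]
    refine sup_le (hX.trans (sup_le hCH hDH)) (Subgroup.zpowers_le.2 ?_)
    rw [Subgroup.mem_comap, Subgroup.mem_centralizer_singleton_iff]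
  let T : Subgroup (F.V j) :=
    { carrier := {v | F.actV j F.S.s v = v}
      one_mem' := map_one _
      mul_mem' := fun {a b} ha hb => by
        simp only [Set.mem_ofPred_eq] at *
        rw [map_mul, ha, hb]
      inv_mem' := fun {a} ha => by
        simp only [Set.mem_ofPred_eq] at *
        rw [map_inv, ha] }
  rcases F.eq_bot_or_top T (fun g v hv => by
    show F.actV j F.S.s (F.actV j g v) = F.actV j g v
    have hg : g ∈ H := htop ▸ Subgroup.mem_top g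
    rw [Subgroup.mem_comap, Subgroup.mem_centralizer_singleton_iff] at hg
    rw [← MulAut.mul_apply, ← hg, MulAut.mul_apply, show F.actV j F.S.s v = v from hv]) with h | h
  · intro v hv
    have hvT : v ∈ T := hv
    rw [h] at hvT
    exact Subgroup.mem_bot.1 hvT
  · exact absurd (fun e he =>
      F.actV_eq_self.1 (h.ge (Subgroup.mem_top (F.mkV j ⟨e, he⟩)) : F.mkV j ⟨e, he⟩ ∈ T)) hnt

end Frame

end CfsgLib.Turull73
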