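import Mathlib

/-!
# Decompositions of a space by orthogonal idempotents

* `IsBlockSystem`: orthogonal idempotents with sum `1`.
* `finrank_commutant`, `finrank_le_sum_mul`, `sum_le_finrank`: dimensions of spaces of endomorphisms
  compatible with the blocks.
* `eigProj`: the block system of an operator of finite order prime to the characteristic.
-/

set_option autoImplicit false

namespace CfsgLib.Turull73

variable {F M ι : Type*} [Field F] [AddCommGroup M] [Module F M] [Fintype ι] [DecidableEq ι]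

/-- Orthogonal idempotents with sum one. -/
structure IsBlockSystem (p : ι → Module.End F M) : Prop where
  idem : ∀ i, p i * p i = p i
  ortho : ∀ i j, i ≠ j → p i * p j = 0
  sum : ∑ i, p i = 1

namespace IsBlockSystem

variable {p : ι → Module.End F M} (hp : IsBlockSystem p)
include hp

theorem apply_mem (i : ι) {x : M} (hx : x ∈ LinearMap.range (p i)) : p i x = x := by
  obtain ⟨y, rfl⟩ := hx
  rw [← Module.End.mul_apply, hp.idem]

theorem apply_mem_ne {i j : ι} (hij : i ≠ j) {x : M} (hx : x ∈ LinearMap.range (p j)) :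
    p i x = 0 := by
  obtain ⟨y, rfl⟩ := hx
  rw [← Module.End.mul_apply, hp.ortho i j hij, LinearMap.zero_apply]

theorem sum_apply (x : M) : ∑ i, p i x = x := by
  rw [← LinearMap.sum_apply, hp.sum, Module.End.one_apply]

variable [FiniteDimensional F M]

theorem sum_finrank : ∑ i, Module.finrank F (LinearMap.range (p i)) = Module.finrank F M := by
  let φ : M →ₗ[F] ∀ i, LinearMap.range (p i) := LinearMap.pi fun i => (p i).rangeRestrict
  have hinj : Function.Injective φ := by
    rw [injective_iff_map_eq_zero]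
    intro x hx
    rw [← hp.sum_apply x]
    exact Finset.sum_eq_zero fun i _ => congrArg Subtype.val (congrFun hx i)
  have hsurj : Function.Surjective φ := by
    intro f
    refine ⟨∑ i, (f i : M), funext fun j => Subtype.ext ?_⟩
    show p j (∑ i, (f i : M)) = f j
    rw [map_sum, Finset.sum_eq_single j (fun i _ hi => hp.apply_mem_ne (Ne.symm hi) (f i).2)
      (fun h => absurd (Finset.mem_univ _) h), hp.apply_mem j (f j).2]
  rw [(LinearEquiv.ofBijective φ ⟨hinj, hsurj⟩).finrank_eq, Module.finrank_pi_fintype]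

/-- A space of endomorphisms mapping the block `i` to the block `f i`. -/
theorem finrank_le_sum_mul (Y : Submodule F (Module.End F M)) (f : ι → ι)
    (h : ∀ A ∈ Y, ∀ i k, k ≠ f i → p k * A * p i = 0) :
    Module.finrank F Y ≤ ∑ i, Module.finrank F (LinearMap.range (p i)) *
      Module.finrank F (LinearMap.range (p (f i))) := by
  let φ : Y →ₗ[F] ∀ i, (LinearMap.range (p i) →ₗ[F] LinearMap.range (p (f i))) :=
    LinearMap.pi fun i =>
      { toFun := fun A => (p (f i)).rangeRestrict ∘ₗ A.1 ∘ₗ (LinearMap.range (p i)).subtype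
        map_add' := fun A B => LinearMap.ext fun x => Subtype.ext (by simp)
        map_smul' := fun c A => LinearMap.ext fun x => Subtype.ext (by simp) }
  have hinj : Function.Injective φ := by
    rw [injective_iff_map_eq_zero]
    intro A hA
    refine Subtype.ext (LinearMap.ext fun x => ?_)
    rw [Submodule.coe_zero, LinearMap.zero_apply, ← hp.sum_apply x, map_sum]
    refine Finset.sum_eq_zero fun i _ => ?_
    rw [← hp.sum_apply (A.1 (p i x))]
    refine Finset.sum_eq_zero fun k _ => ?_
    by_cases hk : k = f i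
    · subst hk
      have h1 := LinearMap.congr_fun (congrFun hA i) ⟨p i x, LinearMap.mem_range_self _ _⟩
      exact congrArg Subtype.val h1
    · exact LinearMap.congr_fun (h A.1 A.2 i k hk) x
  refine (LinearMap.finrank_le_finrank_of_injective hinj).trans (le_of_eq ?_)
  rw [Module.finrank_pi_fintype]
  exact Finset.sum_congr rfl fun i _ => Module.finrank_linearMap _ _ _ _

/-- Extend a family of endomorphisms of the blocks. -/
theorem sum_le_finrank (Y : Submodule F (Module.End F M))
    (C : ∀ i, Submodule F (Module.End F (LinearMap.range (p i))))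
    (h : ∀ g : ∀ i, C i,
      ∑ i, (LinearMap.range (p i)).subtype ∘ₗ (g i).1 ∘ₗ (p i).rangeRestrict ∈ Y) :
    ∑ i, Module.finrank F (C i) ≤ Module.finrank F Y := by
  let φ : (∀ i, C i) →ₗ[F] Y :=
    { toFun := fun g => ⟨_, h g⟩
      map_add' := fun a b => Subtype.ext (by
        rw [Submodule.coe_add, ← Finset.sum_add_distrib]
        exact Finset.sum_congr rfl fun i _ => LinearMap.ext fun x => by simp)
      map_smul' := fun c a => Subtype.ext (by
        rw [RingHom.id_apply, Submodule.coe_smul, Finset.smul_sum]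
        exact Finset.sum_congr rfl fun i _ => LinearMap.ext fun x => by simp) }
  have hinj : Function.Injective φ := by
    rw [injective_iff_map_eq_zero]
    intro g hg
    funext i
    refine Subtype.ext (LinearMap.ext fun x => Subtype.ext ?_)
    have h1 := LinearMap.congr_fun (congrArg Subtype.val hg) (x : M)
    simp only [φ, LinearMap.coe_mk, AddHom.coe_mk, Submodule.coe_zero, LinearMap.zero_apply,
      LinearMap.sum_apply, LinearMap.comp_apply, Submodule.coe_subtype] at h1
    rw [Finset.sum_eq_single i (fun j _ hj => ?_) (fun hh => absurd (Finset.mem_univ _) hh),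
      show (p i).rangeRestrict (x : M) = x from Subtype.ext (hp.apply_mem i x.2)] at h1
    · simpa using h1
    · rw [show (p j).rangeRestrict (x : M) = 0 from Subtype.ext (hp.apply_mem_ne hj x.2), map_zero,
        Submodule.coe_zero]
  refine le_trans (le_of_eq ?_) (LinearMap.finrank_le_finrank_of_injective hinj)
  haveI : ∀ i, Module.Free F (C i) := fun i => Module.Free.of_divisionRing F (C i)
  rw [Module.finrank_pi_fintype]

theorem mul_sum_extend (g : ∀ i, Module.End F (LinearMap.range (p i))) (k : ι) :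
    p k * ∑ i, (LinearMap.range (p i)).subtype ∘ₗ g i ∘ₗ (p i).rangeRestrict =
      (LinearMap.range (p k)).subtype ∘ₗ g k ∘ₗ (p k).rangeRestrict := by
  rw [Finset.mul_sum]
  refine (Finset.sum_eq_single k (fun i _ hi => LinearMap.ext fun x => ?_)
    (fun h => absurd (Finset.mem_univ _) h)).trans (LinearMap.ext fun x => ?_)
  · exact hp.apply_mem_ne (Ne.symm hi) (g i _).2
  · exact hp.apply_mem k (g k _).2

theorem sum_extend_mul (g : ∀ i, Module.End F (LinearMap.range (p i))) (k : ι) :
    (∑ i, (LinearMap.range (p i)).subtype ∘ₗ g i ∘ₗ (p i).rangeRestrict) * p k =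
      (LinearMap.range (p k)).subtype ∘ₗ g k ∘ₗ (p k).rangeRestrict := by
  rw [Finset.sum_mul]
  refine (Finset.sum_eq_single k (fun i _ hi => LinearMap.ext fun x => ?_)
    (fun h => absurd (Finset.mem_univ _) h)).trans (LinearMap.ext fun x => ?_)
  · have : (p i).rangeRestrict (p k x) = 0 :=
      Subtype.ext (hp.apply_mem_ne hi (LinearMap.mem_range_self _ _))
    simp [Module.End.mul_apply, this]
  · have : (p k).rangeRestrict (p k x) = (p k).rangeRestrict x :=
      Subtype.ext (hp.apply_mem k (LinearMap.mem_range_self _ _))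
    simp [Module.End.mul_apply, this]

/-- The endomorphisms commuting with all the blocks. -/
theorem finrank_commutant (Y : Submodule F (Module.End F M))
    (hY : ∀ A, A ∈ Y ↔ ∀ i, p i * A = A * p i) :
    Module.finrank F Y = ∑ i, Module.finrank F (LinearMap.range (p i)) ^ 2 := by
  refine le_antisymm ?_ ?_
  · simp only [sq]
    refine hp.finrank_le_sum_mul Y id fun A hA i k hk => ?_
    rw [(hY A).1 hA k, mul_assoc, hp.ortho k i hk, mul_zero]
  · refine le_trans (le_of_eq ?_) (hp.sum_le_finrank Y (fun _ => ⊤) fun g => ?_)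
    · refine Finset.sum_congr rfl fun i _ => ?_
      rw [finrank_top, Module.finrank_linearMap, sq]
    · exact (hY _).2 fun k => (hp.mul_sum_extend (fun i => (g i).1) k).trans
        (hp.sum_extend_mul (fun i => (g i).1) k).symm

end IsBlockSystem

section EigProj

variable {r : ℕ} {ζ : F} {T : Module.End F M}

/-- The projection on the eigenspace of `ζ ^ j` of an operator of order dividing `r`. -/
noncomputable def eigProj (r : ℕ) (ζ : F) (T : Module.End F M) (j : Fin r) : Module.End F M :=
  (r : F)⁻¹ • ∑ k ∈ Finset.range r, (ζ⁻¹) ^ ((j : ℕ) * k) • T ^ k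

theorem mul_eigProj (hζ : IsPrimitiveRoot ζ r) (hT : T ^ r = 1) (j : Fin r) :
    T * eigProj r ζ T j = ζ ^ (j : ℕ) • eigProj r ζ T j := by
  have hr : 0 < r := Fin.pos j
  have hz : ζ ≠ 0 := hζ.ne_zero hr.ne'
  rw [eigProj, mul_smul_comm, smul_comm (ζ ^ (j : ℕ)), Finset.mul_sum]
  congr 1
  rw [Finset.smul_sum]
  have h1 : ∀ k, T * ((ζ⁻¹) ^ ((j : ℕ) * k) • T ^ k) =
      ζ ^ (j : ℕ) • ((ζ⁻¹) ^ ((j : ℕ) * (k + 1)) • T ^ (k + 1)) := by
    intro k
    rw [mul_smul_comm, ← pow_succ', smul_smul]
    congr 1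
    rw [Nat.mul_succ, pow_add, mul_comm ((ζ⁻¹) ^ ((j : ℕ) * k)),
      ← mul_assoc, ← mul_pow, mul_inv_cancel₀ hz, one_pow, one_mul]
  rw [Finset.sum_congr rfl fun k _ => h1 k]
  have h2 := Finset.sum_range_succ' (fun k => ζ ^ (j : ℕ) • ((ζ⁻¹) ^ ((j : ℕ) * k) • T ^ k)) r
  have h3 := Finset.sum_range_succ (fun k => ζ ^ (j : ℕ) • ((ζ⁻¹) ^ ((j : ℕ) * k) • T ^ k)) r
  rw [h3, hT, mul_comm (j : ℕ) r, pow_mul, inv_pow, hζ.pow_eq_one, inv_one, one_pow, mul_zero,
    pow_zero, pow_zero] at h2
  exact (add_right_cancel h2).symm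

theorem pow_mul_eigProj (hζ : IsPrimitiveRoot ζ r) (hT : T ^ r = 1) (j : Fin r) (k : ℕ) :
    T ^ k * eigProj r ζ T j = ζ ^ ((j : ℕ) * k) • eigProj r ζ T j := by
  induction k with
  | zero => simp
  | succ k ih =>
    rw [pow_succ', mul_assoc, ih, mul_smul_comm, mul_eigProj hζ hT, smul_smul, ← pow_add,
      Nat.mul_succ]

theorem commute_eigProj {A : Module.End F M} (h : Commute T A) (j : Fin r) :
    Commute (eigProj r ζ T j) A :=
  Commute.smul_left (Commute.sum_left _ _ _ fun k _ => (h.pow_left k).smul_left _) _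

theorem isBlockSystem_eigProj (hζ : IsPrimitiveRoot ζ r) (hrF : (r : F) ≠ 0) (hT : T ^ r = 1) :
    IsBlockSystem (eigProj r ζ T) := by
  have hr : 0 < r := Nat.pos_of_ne_zero fun h => hrF (by rw [h, Nat.cast_zero])
  have hgeom : ∀ m : ℕ, ¬ r ∣ m → ∑ k ∈ Finset.range r, ((ζ⁻¹) ^ m) ^ k = 0 := by
    intro m hm
    have h1 : (ζ⁻¹) ^ m ≠ 1 := fun h => hm ((hζ.inv.pow_eq_one_iff_dvd m).1 h)
    have h2 := geom_sum_mul ((ζ⁻¹) ^ m) r
    rw [← pow_mul, mul_comm m r, pow_mul, hζ.inv.pow_eq_one, one_pow, sub_self] at h2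
    exact (mul_eq_zero.1 h2).resolve_right (sub_ne_zero.2 h1)
  have hprod : ∀ i j : Fin r, eigProj r ζ T i * eigProj r ζ T j =
      ((r : F)⁻¹ * ∑ k ∈ Finset.range r, ((ζ⁻¹) ^ ((i : ℕ) + (r - j))) ^ k) •
        eigProj r ζ T j := by
    intro i j
    rw [show eigProj r ζ T i =
      (r : F)⁻¹ • ∑ k ∈ Finset.range r, (ζ⁻¹) ^ ((i : ℕ) * k) • T ^ k from rfl, smul_mul_assoc,
      Finset.sum_mul, mul_smul, Finset.sum_smul]
    congr 1
    refine Finset.sum_congr rfl fun k _ => ?_
    rw [smul_mul_assoc, pow_mul_eigProj hζ hT, smul_smul]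
    congr 1
    have hinv : (ζ⁻¹) ^ (r - (j : ℕ)) = ζ ^ (j : ℕ) := by
      rw [inv_pow]
      refine inv_eq_of_mul_eq_one_right ?_
      rw [← pow_add, Nat.sub_add_cancel j.2.le, hζ.pow_eq_one]
    rw [pow_add, hinv, mul_pow, ← pow_mul, ← pow_mul]
  refine ⟨fun i => ?_, fun i j hij => ?_, ?_⟩
  · rw [hprod, show (i : ℕ) + (r - i) = r from by have := i.2; omega, hζ.inv.pow_eq_one]
    simp [inv_mul_cancel₀ hrF]
  · rw [hprod, hgeom, mul_zero, zero_smul]
    intro hd
    apply hij
    have h1 := i.2
    have h2 := j.2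
    apply Fin.ext
    rcases Nat.le_total (i : ℕ) j with hle | hle
    · rcases eq_or_lt_of_le hle with h | h
      · exact h
      · have := Nat.le_of_dvd (by omega) hd; omega
    · rcases eq_or_lt_of_le hle with h | h
      · exact h.symm
      · have hd2 : r ∣ (i : ℕ) - j := by
          have e : (i : ℕ) + (r - j) = ((i : ℕ) - j) + r := by omega
          rw [e] at hd
          exact (Nat.dvd_add_iff_left (dvd_refl r)).2 hd
        have := Nat.le_of_dvd (by omega) hd2; omega
  · simp only [eigProj]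
    rw [← Finset.smul_sum, Finset.sum_comm]
    have h1 : ∀ k ∈ Finset.range r,
        (∑ j : Fin r, (ζ⁻¹) ^ ((j : ℕ) * k) • T ^ k) = if k = 0 then (r : F) • 1 else 0 := by
      intro k hk
      rw [← Finset.sum_smul, Fin.sum_univ_eq_sum_range (fun j => (ζ⁻¹) ^ (j * k)) r]
      split_ifs with h0
      · simp [h0]
      · rw [Finset.sum_congr rfl fun j _ => show (ζ⁻¹) ^ (j * k) = ((ζ⁻¹) ^ k) ^ j by
          rw [mul_comm, pow_mul], hgeom k (fun hd => h0 (Nat.eq_zero_of_dvd_of_lt hd
          (Finset.mem_range.1 hk))), zero_smul]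
    rw [Finset.sum_congr rfl h1, Finset.sum_ite_eq', if_pos (Finset.mem_range.2 hr), smul_smul,
      inv_mul_cancel₀ hrF, one_smul]

end EigProj

end CfsgLib.Turull73
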