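import Cfsg.Agent.Turull73.Perm
import Cfsg.Agent.Turull73.Blocks

/-!
# Counting eigenvalue multiplicities of operators inducing permutations of a basis of `End M`

`S` (and `U`) are operators on `M` conjugation by which permutes a basis `e` of `End M` like `π`
(and `μ`).  `π` has prime order `r` and one fixed point.

* `blocks`: `∑ nᵢ = N` and `r ∑ nᵢ² = N² + r - 1`; consequences `blockDim_bounds`.
* `eq_one_of_blockDim_le_one`: if all `nᵢ ≤ 1` then `μ = 1`.
* `sq_blockDim_le`: a block centralised by `V` has `r nᵢ² ≤ |fix ν| + r - 1`.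
* `mul_le_of_semiregular`: if all `nᵢ ≤ 2` and `μ` is semiregular of order `d` then `d r ≤ N + 1`.
-/

set_option autoImplicit false

namespace CfsgLib.Turull73

variable {F M B : Type*} [Field F] [AddCommGroup M] [Module F M] [FiniteDimensional F M]
  (e : Module.Basis B F (Module.End F M))

/-- The permutation action on the basis. -/
noncomputable def permEnd : Equiv.Perm B →* Module.End F (Module.End F M) where
  toFun π := e.constr F fun b => e (π b)
  map_one' := e.ext fun b => by rw [e.constr_basis]; rfl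
  map_mul' π μ := e.ext fun b => by
    rw [e.constr_basis, Module.End.mul_apply, e.constr_basis, e.constr_basis]; rfl

theorem permEnd_apply (π : Equiv.Perm B) (b : B) : permEnd e π (e b) = e (π b) :=
  e.constr_basis F _ b

theorem mul_eq_permEnd_mul {π : Equiv.Perm B} {S : Module.End F M}
    (hS : ∀ b, S * e b = e (π b) * S) (A : Module.End F M) :
    S * A = permEnd e π A * S := by
  have : LinearMap.mulLeft F S = LinearMap.mulRight F S ∘ₗ permEnd e π := e.ext fun b => by
    simp [permEnd_apply, hS]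
  exact LinearMap.congr_fun this A

variable {S U : Module.End F M} {π μ : Equiv.Perm B} {r d : ℕ}

theorem commute_iff_permEnd (hr : 0 < r) (hSr : S ^ r = 1) (hS : ∀ b, S * e b = e (π b) * S)
    (A : Module.End F M) : Commute S A ↔ permEnd e π A = A := by
  have hu : IsUnit S := IsUnit.of_pow_eq_one hSr hr.ne'
  rw [commute_iff_eq, mul_eq_permEnd_mul e hS]
  exact ⟨fun h => hu.mul_right_cancel h, fun h => by rw [h]⟩

theorem mem_fixedSpace_zpowers (γ : Equiv.Perm B) (A : Module.End F M) :
    A ∈ fixedSpace ((permEnd e).comp (Subgroup.zpowers γ).subtype) ↔ permEnd e γ A = A := by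
  rw [mem_fixedSpace]
  constructor
  · exact fun h => h ⟨γ, Subgroup.mem_zpowers γ⟩
  · intro h g
    obtain ⟨g, hg⟩ := g
    obtain ⟨k, rfl⟩ := Subgroup.mem_zpowers_iff.1 hg
    show permEnd e (γ ^ k) A = A
    induction k with
    | zero => rw [zpow_zero, map_one]; rfl
    | succ k ih =>
      rw [zpow_add_one, map_mul, Module.End.mul_apply, h]
      exact ih (Subgroup.zpow_mem_zpowers γ _)
    | pred k ih =>
      have hinv : permEnd e γ⁻¹ A = A := by
        conv_lhs => rw [← h]
        rw [← Module.End.mul_apply, ← map_mul, inv_mul_cancel, map_one]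
        rfl
      rw [zpow_sub_one, map_mul, Module.End.mul_apply, hinv]
      exact ih (Subgroup.zpow_mem_zpowers γ _)

/-- The dimension of an eigenspace of `S`. -/
noncomputable def blockDim (r : ℕ) (ζ : F) (S : Module.End F M) (j : Fin r) : ℕ :=
  Module.finrank F (LinearMap.range (eigProj r ζ S j))

/-- The endomorphisms commuting with `S`. -/
def commEnd (S : Module.End F M) : Submodule F (Module.End F M) :=
  LinearMap.ker (LinearMap.mulLeft F S - LinearMap.mulRight F S)

theorem mem_commEnd {A : Module.End F M} : A ∈ commEnd S ↔ Commute S A := by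
  simp [commEnd, sub_eq_zero, commute_iff_eq]

variable {ζ : F}

theorem commute_of_commute_eigProj (hζ : IsPrimitiveRoot ζ r) (hrF : (r : F) ≠ 0)
    (hSr : S ^ r = 1) {A : Module.End F M}
    (h : ∀ j, eigProj r ζ S j * A = A * eigProj r ζ S j) : Commute S A := by
  have hS : S = ∑ j : Fin r, ζ ^ (j : ℕ) • eigProj r ζ S j := by
    conv_lhs => rw [← mul_one S, ← (isBlockSystem_eigProj hζ hrF hSr).sum, Finset.mul_sum]
    exact Finset.sum_congr rfl fun j _ => mul_eigProj hζ hSr j
  rw [hS]
  exact Commute.sum_left _ _ _ fun j _ => Commute.smul_left (h j) _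

theorem finrank_commEnd (hζ : IsPrimitiveRoot ζ r) (hrF : (r : F) ≠ 0) (hSr : S ^ r = 1) :
    Module.finrank F (commEnd S) = ∑ j, blockDim r ζ S j ^ 2 :=
  (isBlockSystem_eigProj hζ hrF hSr).finrank_commutant (commEnd S) fun A => by
    rw [mem_commEnd]
    exact ⟨fun h j => (commute_eigProj h j).eq, commute_of_commute_eigProj hζ hrF hSr⟩

theorem sum_blockDim (hζ : IsPrimitiveRoot ζ r) (hrF : (r : F) ≠ 0) (hSr : S ^ r = 1) :
    ∑ j, blockDim r ζ S j = Module.finrank F M :=
  (isBlockSystem_eigProj hζ hrF hSr).sum_finrank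

variable [Finite B] {b₀ : B}

include e in
theorem card_eq_sq : Nat.card B = Module.finrank F M ^ 2 := by
  rw [sq, ← Module.finrank_linearMap F F M M, Module.finrank_eq_nat_card_basis e]

theorem card_orbits_mul_prime (hr : r.Prime) (hπr : π ^ r = 1)
    (hfix : ∀ b, π b = b ↔ b = b₀) :
    Nat.card (MulAction.orbitRel.Quotient (Subgroup.zpowers π) B) * r = Nat.card B + (r - 1) := by
  by_cases hπ : π = 1
  · subst hπ
    have : Subsingleton B := ⟨fun a b => ((hfix a).1 rfl).trans ((hfix b).1 rfl).symm⟩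
    have : Nonempty B := ⟨b₀⟩
    have h1 : Nat.card B = 1 := Nat.card_unique
    have : Nonempty (MulAction.orbitRel.Quotient (Subgroup.zpowers (1 : Equiv.Perm B)) B) :=
      ⟨⟦b₀⟧⟩
    have h2 : Nat.card (MulAction.orbitRel.Quotient (Subgroup.zpowers (1 : Equiv.Perm B)) B) = 1 :=
      Nat.card_unique
    rw [h1, h2]
    have := hr.pos
    omega
  · have hord : orderOf π = r := (hr.eq_one_or_self_of_dvd _ (orderOf_dvd_of_pow_eq_one hπr)).resolve_left
      fun h => hπ (orderOf_eq_one_iff.1 h)
    have h := card_orbits_mul_of_uniform (Γ := Subgroup.zpowers π) (B := B) 1 fun g hg => ?_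
    · rw [Nat.card_zpowers, hord, mul_one] at h
      exact h
    · rw [Nat.card_eq_one_iff_unique]
      have hb₀ : ∀ g' : Subgroup.zpowers π, g' • b₀ = b₀ := by
        rintro ⟨g', hg'⟩
        obtain ⟨k, rfl⟩ := Subgroup.mem_zpowers_iff.1 hg'
        exact Equiv.Perm.zpow_apply_eq_self_of_apply_eq_self ((hfix b₀).2 rfl) k
      refine ⟨⟨fun x y => Subtype.ext ?_⟩, ⟨⟨b₀, hb₀ g⟩⟩⟩
      have key : ∀ b, g • b = b → b = b₀ := by
        intro b hb
        refine (hfix b).1 ?_
        have hπg : π ∈ Subgroup.zpowers (g : Equiv.Perm B) := by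
          have := Fact.mk hr
          have hgo : orderOf (g : Equiv.Perm B) = r := by
            refine (hr.eq_one_or_self_of_dvd _ ?_).resolve_left fun h1 => hg ?_
            · rw [← hord]; exact orderOf_dvd_of_mem_zpowers g.2
            · exact Subtype.ext (orderOf_eq_one_iff.1 h1)
          have hle : Subgroup.zpowers (g : Equiv.Perm B) ≤ Subgroup.zpowers π :=
            Subgroup.zpowers_le.2 g.2
          rw [Subgroup.eq_of_le_of_card_ge hle (by rw [Nat.card_zpowers, Nat.card_zpowers, hgo, hord])]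
          exact Subgroup.mem_zpowers π
        obtain ⟨k, hk⟩ := Subgroup.mem_zpowers_iff.1 hπg
        rw [← hk]
        exact Equiv.Perm.zpow_apply_eq_self_of_apply_eq_self hb k
      exact (key _ x.2).trans (key _ y.2).symm

/-- `r ∑ nᵢ² = N² + r - 1`. -/
theorem blocks (hr : r.Prime) (hζ : IsPrimitiveRoot ζ r) (hrF : (r : F) ≠ 0) (hSr : S ^ r = 1)
    (hS : ∀ b, S * e b = e (π b) * S) (hπr : π ^ r = 1) (hfix : ∀ b, π b = b ↔ b = b₀) :
    (∑ j, blockDim r ζ S j ^ 2) * r = Module.finrank F M ^ 2 + (r - 1) := by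
  rw [← card_eq_sq e, ← card_orbits_mul_prime hr hπr hfix, ← finrank_commEnd hζ hrF hSr]
  congr 1
  rw [show commEnd S = fixedSpace ((permEnd e).comp (Subgroup.zpowers π).subtype) from
    Submodule.ext fun A => by
      rw [mem_commEnd, mem_fixedSpace_zpowers, commute_iff_permEnd e hr.pos hSr hS]]
  exact finrank_fixedSpace e _ fun g b => permEnd_apply e _ b

/-- The numerical consequences. -/
theorem blockDim_bounds (hr : r.Prime) (hζ : IsPrimitiveRoot ζ r) (hrF : (r : F) ≠ 0)
    (hSr : S ^ r = 1) (hS : ∀ b, S * e b = e (π b) * S) (hπr : π ^ r = 1)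
    (hfix : ∀ b, π b = b ↔ b = b₀) :
    (∀ j, r * blockDim r ζ S j ≤ Module.finrank F M + (r - 1) ∧
      Module.finrank F M ≤ r * blockDim r ζ S j + (r - 1)) ∧
    (Module.finrank F M + 1 = r → ∀ j, blockDim r ζ S j ≤ 1) ∧
    ((∃ j, blockDim r ζ S j = 0) → 1 < Module.finrank F M → Module.finrank F M + 1 = r) ∧
    (1 < Module.finrank F M → Module.finrank F M + 1 = r ∨ r + 1 ≤ Module.finrank F M) := by
  have h1 := sum_blockDim hζ hrF hSr
  have h2 := blocks e hr hζ hrF hSr hS hπr hfix
  set N := Module.finrank F M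
  set n := blockDim r ζ S
  have hr2 := hr.two_le
  have hsq : ∑ j, ((r : ℤ) * n j - N) ^ 2 = (r : ℤ) * (r - 1) := by
    simp only [sub_sq, Finset.sum_add_distrib, Finset.sum_sub_distrib, mul_pow, ← Finset.mul_sum,
      Finset.sum_const, Finset.card_univ, Fintype.card_fin, mul_assoc, mul_comm _ (N : ℤ)]
    have e1 : (∑ j, (n j : ℤ)) = N := by rw [← Nat.cast_sum, h1]
    have e2 : (∑ j, (n j : ℤ) ^ 2) * r = (N : ℤ) ^ 2 + ((r : ℤ) - 1) := by
      have := congrArg (Nat.cast : ℕ → ℤ) h2
      push_cast [Nat.cast_sub (by omega : 1 ≤ r)] at this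
      linarith
    rw [e1, nsmul_eq_mul]
    linear_combination (r : ℤ) * e2
  have hbound : ∀ j, r * n j ≤ N + (r - 1) ∧ N ≤ r * n j + (r - 1) := by
    intro j
    have hle : ((r : ℤ) * n j - N) ^ 2 ≤ (r : ℤ) * (r - 1) := by
      rw [← hsq]
      exact Finset.single_le_sum (f := fun j => ((r : ℤ) * n j - N) ^ 2) (fun _ _ => sq_nonneg _)
        (Finset.mem_univ j)
    have hlt : ((r : ℤ) * n j - N) ^ 2 < (r : ℤ) ^ 2 := by nlinarith
    have habs := abs_lt_of_sq_lt_sq hlt (by positivity)
    rw [abs_lt] at habs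
    have h3 : (r : ℤ) * n j < N + r := by linarith [habs.2]
    have h4 : (N : ℤ) < r * n j + r := by linarith [habs.1]
    have h3' : r * n j < N + r := by exact_mod_cast h3
    have h4' : N < r * n j + r := by exact_mod_cast h4
    omega
  have hmod : 1 < N → N + 1 = r ∨ r + 1 ≤ N ∨ N + 1 < r := by
    intro hN
    by_contra hc
    have hNr : N = r := by omega
    rw [hNr] at h2
    have h5 : r ∣ r ^ 2 + (r - 1) := ⟨_, by rw [← h2, mul_comm]⟩
    rw [Nat.dvd_add_right (dvd_pow_self r two_ne_zero)] at h5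
    have := Nat.le_of_dvd (by omega) h5
    omega
  have hge : 1 < N → r ≤ N + 1 := by
    intro hN
    have hd : (r : ℤ) ∣ ((N : ℤ) - 1) * (N + 1) := by
      refine ⟨(∑ j, (n j : ℤ) ^ 2) - 1, ?_⟩
      have := congrArg (Nat.cast : ℕ → ℤ) h2
      push_cast [Nat.cast_sub (by omega : 1 ≤ r)] at this
      linarith
    rcases (Nat.prime_iff_prime_int.1 hr).dvd_or_dvd hd with h | h
    · have := Int.le_of_dvd (by omega) h; omega
    · have := Int.le_of_dvd (by omega) h; omega
  refine ⟨hbound, fun hN j => ?_, fun ⟨j, hj⟩ hN => ?_, fun hN => ?_⟩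
  · have := (hbound j).1
    by_contra hj
    have : r * 2 ≤ r * n j := Nat.mul_le_mul_left r (by omega)
    omega
  · have := (hbound j).2
    rw [hj, mul_zero, zero_add] at this
    have := hge hN
    omega
  · rcases hmod hN with h | h | h
    · exact Or.inl h
    · exact Or.inr h
    · exact absurd (hge hN) (by omega)

/-- If every block has dimension at most one, a commuting permutation of coprime order is
trivial. -/
theorem eq_one_of_blockDim_le_one (hr : r.Prime) (hζ : IsPrimitiveRoot ζ r) (hrF : (r : F) ≠ 0)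
    (hSr : S ^ r = 1) (hS : ∀ b, S * e b = e (π b) * S) (hd : r.Coprime d) (hμd : μ ^ d = 1)
    (hU : ∀ b, U * e b = e (μ b) * U) (hUu : IsUnit U) (hπr : π ^ r = 1) (hπμ : Commute π μ)
    (hSU : Commute S U) (h1 : ∀ j, blockDim r ζ S j ≤ 1) : μ = 1 := by
  classical
  have hp := isBlockSystem_eigProj hζ hrF hSr
  set p := eigProj r ζ S
  have hUA : ∀ A, Commute S A → U * A = A * U := by
    intro A hA
    have hdec : ∀ j, p j * (U * A) = p j * (A * U) := by
      intro j
      have hc : ∀ X, Commute S X → ∀ x ∈ LinearMap.range (p j), X x ∈ LinearMap.range (p j) := by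
        intro X hX x hx
        refine ⟨X x, ?_⟩
        rw [← Module.End.mul_apply, (commute_eigProj hX j).eq, Module.End.mul_apply,
          hp.apply_mem j hx]
      have hcomm : ∀ x ∈ LinearMap.range (p j), U (A x) = A (U x) := by
        intro x hx
        by_cases hx0 : x = 0
        · simp [hx0]
        have hscal : ∀ y ∈ LinearMap.range (p j), ∃ c : F, c • x = y := by
          intro y hy
          have hpos : 0 < Module.finrank F (LinearMap.range (p j)) :=
            Module.finrank_pos_iff_exists_ne_zero.2 ⟨⟨x, hx⟩, fun h => hx0 (congrArg Subtype.val h)⟩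
          obtain ⟨c, hc⟩ := (finrank_eq_one_iff_of_nonzero' (⟨x, hx⟩ : LinearMap.range (p j))
            (fun h => hx0 (congrArg Subtype.val h))).1 (le_antisymm (h1 j) hpos) ⟨y, hy⟩
          exact ⟨c, congrArg Subtype.val hc⟩
        obtain ⟨a, ha⟩ := hscal _ (hc A hA x hx)
        obtain ⟨u, hu⟩ := hscal _ (hc U hSU x hx)
        rw [← ha, ← hu, map_smul, map_smul, ← ha, ← hu, smul_comm]
      refine LinearMap.ext fun x => ?_
      have e1 : p j * (U * A) = (U * A) * p j :=
        (commute_eigProj (hSU.mul_right hA) j).eq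
      have e2 : p j * (A * U) = (A * U) * p j :=
        (commute_eigProj (hA.mul_right hSU) j).eq
      rw [e1, e2]
      exact hcomm _ (LinearMap.mem_range_self _ x)
    rw [← one_mul (U * A), ← one_mul (A * U), ← hp.sum, Finset.sum_mul, Finset.sum_mul]
    exact Finset.sum_congr rfl fun j _ => hdec j
  ext b
  have : Fintype B := Fintype.ofFinite B
  let O : Finset B := Finset.univ.filter fun c => ∃ i : ℕ, (π ^ i) b = c
  let A : Module.End F M := ∑ c ∈ O, e c
  have hmem : ∀ c, c ∈ O ↔ ∃ i : ℕ, (π ^ i) b = c := fun c => by simp [O]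
  have hA : Commute S A := by
    rw [commute_iff_permEnd e hr.pos hSr hS, map_sum,
      Finset.sum_congr rfl fun c _ => permEnd_apply e π c]
    refine Finset.sum_bij (fun c _ => π c) (fun c hc => ?_) (fun a _ a' _ h => π.injective h)
      (fun c hc => ?_) fun c _ => rfl
    · obtain ⟨i, rfl⟩ := (hmem c).1 hc
      exact (hmem _).2 ⟨i + 1, by rw [pow_succ', Equiv.Perm.mul_apply]⟩
    · obtain ⟨i, rfl⟩ := (hmem c).1 hc
      refine ⟨(π ^ (i + (r - 1))) b, (hmem _).2 ⟨_, rfl⟩, ?_⟩
      rw [← Equiv.Perm.mul_apply, ← pow_succ', add_assoc, Nat.sub_add_cancel hr.pos, pow_add, hπr,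
        mul_one]
  have hfixA : permEnd e μ A = A := hUu.mul_right_cancel (by
    rw [← mul_eq_permEnd_mul e hU, hUA A hA])
  have hbO : μ b ∈ O := by
    by_contra hnot
    have hcoef : ∀ (T : Finset B) (c : B), (∑ x ∈ T, e.repr (e x) c) = if c ∈ T then (1 : F) else 0 := by
      intro T c
      simp [Finsupp.single_apply]
    have h2 : e.repr A (μ b) = 0 := by
      simp only [A, map_sum, Finsupp.coe_finsetSum, Finset.sum_apply, hcoef, if_neg hnot]
    have h3 : e.repr (permEnd e μ A) (μ b) = 1 := by
      simp only [A, map_sum, permEnd_apply, Finsupp.coe_finsetSum, Finset.sum_apply]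
      rw [Finset.sum_eq_single b (fun c _ hc => ?_) fun h => absurd ((hmem b).2 ⟨0, rfl⟩) h]
      · simp
      · rw [Module.Basis.repr_self, Finsupp.single_eq_of_ne fun h => hc (μ.injective h).symm]
    rw [hfixA, h2] at h3
    exact zero_ne_one h3
  obtain ⟨k, hk⟩ := (hmem _).1 hbO
  have hpow : ∀ m, (μ ^ m) b = (π ^ (k * m)) b := by
    intro m
    induction m with
    | zero => simp
    | succ m ih =>
      rw [pow_succ', Equiv.Perm.mul_apply, ih, ← Equiv.Perm.mul_apply,
        (hπμ.pow_left (k * m)).symm.eq, Equiv.Perm.mul_apply, ← hk, ← Equiv.Perm.mul_apply,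
        ← pow_add, Nat.mul_succ]
  have hkd := hpow d
  rw [hμd, Equiv.Perm.one_apply] at hkd
  obtain ⟨m, -, hm⟩ := Nat.exists_mul_mod_eq_one_of_coprime hd.symm hr.one_lt
  rw [Equiv.Perm.one_apply, ← hk]
  have hper : ∀ q, (π ^ (k * d * q)) b = b := by
    intro q
    induction q with
    | zero => simp
    | succ q ih => rw [Nat.mul_succ, pow_add, Equiv.Perm.mul_apply, ← hkd, ih]
  have h4 := hper m
  rw [mul_assoc, ← Nat.mod_add_div (d * m) r, hm, mul_add, mul_one, pow_add, ← mul_assoc k r,
    mul_comm k r, mul_assoc r, pow_mul π r, hπr, one_pow, mul_one] at h4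
  exact h4

/-- `r nᵢ² ≤ |fix ν| + r - 1` for a block centralised by `V`. -/
theorem sq_blockDim_le [IsAlgClosed F] (hr : r.Prime) (hζ : IsPrimitiveRoot ζ r)
    (hrF : (r : F) ≠ 0) (hSr : S ^ r = 1) (hS : ∀ b, S * e b = e (π b) * S) (hπr : π ^ r = 1)
    (hfix : ∀ b, π b = b ↔ b = b₀) {l : ℕ} (hl : l.Prime) (hlr : l ≠ r) {V : Module.End F M}
    {ν : Equiv.Perm B} (hν1 : ν ≠ 1) (hνl : ν ^ l = 1) (hV : ∀ b, V * e b = e (ν b) * V)
    (hVu : IsUnit V) (hSV : Commute S V) (hπν : Commute π ν) (i : Fin r)
    (hi : ∀ A, Commute S A → V * A * eigProj r ζ S i = A * V * eigProj r ζ S i) :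
    r * blockDim r ζ S i ^ 2 ≤ Nat.card {b : B // ν b = b} + (r - 1) := by
  classical
  have := Fintype.ofFinite B
  have hp := isBlockSystem_eigProj hζ hrF hSr
  set γ := π * ν with hγ
  let Γ := Subgroup.zpowers γ
  have hπ1 : π ≠ 1 := by
    intro h
    apply hν1
    ext b
    rw [Equiv.Perm.one_apply, (hfix b).1 (by rw [h]; rfl), (hfix (ν b₀)).1 (by rw [h]; rfl)]
  have hoπ : orderOf π = r := (hr.eq_one_or_self_of_dvd _ (orderOf_dvd_of_pow_eq_one hπr)).resolve_left
    fun h => hπ1 (orderOf_eq_one_iff.1 h)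
  have hoν : orderOf ν = l := (hl.eq_one_or_self_of_dvd _ (orderOf_dvd_of_pow_eq_one hνl)).resolve_left
    fun h => hν1 (orderOf_eq_one_iff.1 h)
  have hrl : r.Coprime l := (Nat.coprime_primes hr hl).2 (Ne.symm hlr)
  have hoγ : orderOf γ = r * l := by
    rw [hγ, hπν.orderOf_mul_eq_mul_orderOf_of_coprime (by rw [hoπ, hoν]; exact hrl), hoπ, hoν]
  have hν₀ : ν b₀ = b₀ := (hfix _).1 (by
    rw [← Equiv.Perm.mul_apply, hπν.eq, Equiv.Perm.mul_apply, (hfix b₀).2 rfl])
  -- powers of `γ` determine powers of `π` and `ν`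
  have hγpow : ∀ k : ℕ, γ ^ k = π ^ k * ν ^ k := fun k => hπν.mul_pow k
  -- every element of `Γ` is a natural power
  have hnat : ∀ g : Γ, ∃ k : ℕ, (g : Equiv.Perm B) = γ ^ k := fun g => by
    obtain ⟨k, hk⟩ := (isOfFinOrder_of_finite γ).mem_zpowers_iff_mem_range_orderOf.1 g.2 |> fun h =>
      (Finset.mem_image.1 h) |> fun ⟨k, _, hk⟩ => (⟨k, hk⟩ : ∃ k : ℕ, γ ^ k = (g : Equiv.Perm B))
    exact ⟨k, hk.symm⟩
  let α := (permEnd e).comp Γ.subtype
  have hperm : ∀ (g : Γ) b, α g (e b) = e (g • b) := fun g b => permEnd_apply e _ b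
  let Q := MulAction.orbitRel.Quotient Γ B
  let P := {o : Q // ν o.out = o.out}
  -- `|P|` is small
  have hP : r * Nat.card P ≤ Nat.card {b : B // ν b = b} + (r - 1) := by
    let o₀ : Q := ⟦b₀⟧
    have hΓ₀ : ∀ g : Γ, g • b₀ = b₀ := fun g => by
      obtain ⟨k, hk⟩ := hnat g
      show (g : Equiv.Perm B) b₀ = b₀
      rw [hk, hγpow, Equiv.Perm.mul_apply, Equiv.Perm.pow_apply_eq_self_of_apply_eq_self hν₀,
        Equiv.Perm.pow_apply_eq_self_of_apply_eq_self ((hfix b₀).2 rfl)]
    have ho₀ : o₀.out = b₀ := by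
      have h : (MulAction.orbitRel Γ B).r o₀.out b₀ := Quotient.mk_out b₀
      obtain ⟨g, hg⟩ := MulAction.orbitRel_apply.1 h
      exact hg ▸ hΓ₀ g
    let P' := {o : P // o.1 ≠ o₀}
    let j : Option (P' × Fin r) → {b : B // ν b = b} := fun x => x.elim ⟨b₀, hν₀⟩ fun y =>
      ⟨(π ^ (y.2 : ℕ)) y.1.1.1.out, by
        rw [← Equiv.Perm.mul_apply, (hπν.pow_left _).symm.eq, Equiv.Perm.mul_apply, y.1.1.2]⟩
    have hj : Function.Injective j := by
      have hpi : π ∈ Γ := by
        obtain ⟨m, -, hm⟩ := Nat.exists_mul_mod_eq_one_of_coprime hrl.symm hr.one_lt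
        have : π = γ ^ (l * m) := by
          rw [hγpow, pow_mul ν, hνl, one_pow, mul_one]
          conv_rhs => rw [← Nat.mod_add_div (l * m) r, hm, pow_add, pow_mul, hπr, one_pow, mul_one,
            pow_one]
        rw [this]
        exact Subgroup.npow_mem_zpowers γ _
      have hne₀ : ∀ (y : P' × Fin r), (π ^ (y.2 : ℕ)) y.1.1.1.out ≠ b₀ := by
        intro y hy
        apply y.1.2
        rw [← Quotient.out_eq y.1.1.1]
        refine Quotient.sound ((MulAction.orbitRel Γ B).symm ?_)
        exact ⟨⟨π ^ (y.2 : ℕ), Γ.pow_mem hpi _⟩, hy⟩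
      rintro (_ | ⟨o, a⟩) (_ | ⟨o', a'⟩) h
      · rfl
      · exact absurd (congrArg Subtype.val h).symm (hne₀ (o', a'))
      · exact absurd (congrArg Subtype.val h) (hne₀ (o, a))
      · have h' : (π ^ (a : ℕ)) o.1.1.out = (π ^ (a' : ℕ)) o'.1.1.out := congrArg Subtype.val h
        have ho : o.1.1 = o'.1.1 := by
          rw [← Quotient.out_eq o.1.1, ← Quotient.out_eq o'.1.1]
          refine Quotient.sound ?_
          refine ⟨⟨(π ^ (a : ℕ))⁻¹ * π ^ (a' : ℕ), Γ.mul_mem (Γ.inv_mem (Γ.pow_mem hpi _))
            (Γ.pow_mem hpi _)⟩, ?_⟩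
          show ((π ^ (a : ℕ))⁻¹ * π ^ (a' : ℕ)) o'.1.1.out = o.1.1.out
          rw [Equiv.Perm.mul_apply, ← h', ← Equiv.Perm.mul_apply, inv_mul_cancel,
            Equiv.Perm.one_apply]
        obtain rfl : o = o' := Subtype.ext (Subtype.ext ho)
        have hb : o.1.1.out ≠ b₀ := fun hb => o.2 (by rw [← Quotient.out_eq o.1.1, hb])
        congr
        apply Fin.ext
        by_contra hne
        apply hb
        refine (hfix _).1 ?_
        -- `π` fixes a point moved back by a power prime to `r`
        set x := o.1.1.out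
        have key : ∀ p q : ℕ, p < q → q < r → (π ^ p) x = (π ^ q) x → π x = x := by
          intro p q hpq hqr h
          have h1 : (π ^ (q - p)) x = x := by
            apply (π ^ p).injective
            rw [← Equiv.Perm.mul_apply, ← pow_add, Nat.add_sub_cancel' hpq.le, h]
          obtain ⟨m, -, hm⟩ := Nat.exists_mul_mod_eq_one_of_coprime
            (hr.coprime_iff_not_dvd.2 (Nat.not_dvd_of_pos_of_lt (by omega : 0 < q - p)
              (by omega))).symm hr.one_lt
          have h2 := Equiv.Perm.pow_apply_eq_self_of_apply_eq_self h1 m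
          rw [← pow_mul, ← Nat.mod_add_div ((q - p) * m) r, hm, pow_add, pow_mul, hπr, one_pow,
            mul_one, pow_one] at h2
          exact h2
        rcases Nat.lt_or_gt_of_ne hne with h | h
        · exact key _ _ h a'.2 h'
        · exact key _ _ h a.2 h'.symm
    have h1 := Nat.card_le_card_of_injective j hj
    rw [Finite.card_option, Nat.card_prod, Nat.card_fin] at h1
    have hm₀ : ν o₀.out = o₀.out := by rw [ho₀]; exact hν₀
    have h2 : Nat.card P = Nat.card P' + 1 := by
      rw [← Finite.card_option]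
      exact Nat.card_congr ((Equiv.optionSubtypeNe (⟨o₀, hm₀⟩ : P)).symm.trans
        (Equiv.optionCongr (Equiv.subtypeEquivRight fun o => by simp [Subtype.ext_iff])))
    have := hr.two_le
    rw [h2, mul_add, mul_one, mul_comm]
    omega
  refine le_trans (Nat.mul_le_mul_left r ?_) hP
  -- `γ`-fixed operators and the block `i`
  have hUS : IsUnit S := IsUnit.of_pow_eq_one hSr hr.ne_zero
  have hSVA : ∀ A, S * V * A = permEnd e γ A * (S * V) := by
    intro A
    rw [hγ, map_mul, Module.End.mul_apply, mul_assoc, mul_eq_permEnd_mul e hV, ← mul_assoc,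
      mul_eq_permEnd_mul e hS, mul_assoc]
  let R := LinearMap.range (eigProj r ζ S i)
  obtain ⟨c, hc⟩ : ∃ c : F, V * eigProj r ζ S i = c • eigProj r ζ S i := by
    by_cases hR : R = ⊥
    · exact ⟨0, by rw [LinearMap.range_eq_bot.1 hR, mul_zero, smul_zero]⟩
    obtain ⟨x, hx, hx0⟩ := Submodule.exists_mem_ne_zero_of_ne_bot hR
    obtain ⟨φ, hφ⟩ := Module.Projective.exists_dual_ne_zero F hx0
    refine ⟨(φ x)⁻¹ * φ (eigProj r ζ S i (V x)), LinearMap.ext fun y => ?_⟩
    set P₀ := eigProj r ζ S i
    let A : Module.End F M := P₀ * (LinearMap.smulRight ((φ x)⁻¹ • φ) (P₀ y)) * P₀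
    have hSA : Commute S A := by
      refine commute_of_commute_eigProj hζ hrF hSr fun k => ?_
      simp only [A, ← mul_assoc]
      by_cases hk : k = i
      · subst hk; simp only [P₀, hp.idem, mul_assoc]
      · simp only [P₀, hp.ortho k i hk, zero_mul, mul_assoc, hp.ortho i k (Ne.symm hk), mul_zero]
    have h := LinearMap.congr_fun (hi A hSA) x
    have hPy : P₀ (P₀ y) = P₀ y := by rw [← Module.End.mul_apply, hp.idem]
    have hPx : P₀ x = x := hp.apply_mem i hx
    simp only [A, Module.End.mul_apply, hPx, LinearMap.smulRight_apply,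
      LinearMap.smul_apply, smul_eq_mul, inv_mul_cancel₀ hφ, one_smul, hPy, map_smul] at h
    exact h
  let Z := fixedSpace α
  have hZ : ∀ A, A ∈ Z ↔ S * V * A = A * (S * V) := fun A => by
    rw [mem_fixedSpace_zpowers e γ, hSVA]
    exact ⟨fun h => by rw [h], fun h => (hUS.mul hVu).mul_right_cancel h⟩
  have hfree : ∀ b, ν b ≠ b → ∀ g : Γ, g • b = b → g = 1 := by
    intro b hb g hg
    obtain ⟨k, hk⟩ := hnat g
    have hgb : (γ ^ k) b = b := by rw [← hk]; exact hg
    have hmod : ∀ (ρ : Equiv.Perm B) (q n : ℕ), ρ ^ q = 1 → (ρ ^ n) b = b → n.Coprime q →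
        1 < q → ρ b = b := by
      intro ρ q n hρ h hnq hq
      obtain ⟨m, -, hm⟩ := Nat.exists_mul_mod_eq_one_of_coprime hnq hq
      have h4 := Equiv.Perm.pow_apply_eq_self_of_apply_eq_self h m
      rw [← pow_mul, ← Nat.mod_add_div (n * m) q, hm, pow_add, pow_mul, hρ, one_pow, mul_one,
        pow_one] at h4
      exact h4
    have hlk : l ∣ k := by
      by_contra hlk
      refine hb (hmod ν l (r * k) hνl ?_ (Nat.Coprime.mul_left hrl
        (hl.coprime_iff_not_dvd.2 hlk).symm) hl.one_lt)
      have h3 := Equiv.Perm.pow_apply_eq_self_of_apply_eq_self hgb r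
      rw [← pow_mul, hγpow, mul_comm k r, pow_mul, hπr, one_pow, one_mul] at h3
      exact h3
    have hrk : r ∣ k := by
      by_contra hrk
      apply hb
      have hπb : π b = b := hmod π r k hπr (by
        obtain ⟨q, rfl⟩ := hlk
        rwa [hγpow, pow_mul ν, hνl, one_pow, mul_one] at hgb)
        (hr.coprime_iff_not_dvd.2 hrk).symm hr.one_lt
      rw [(hfix b).1 hπb, hν₀]
    refine Subtype.ext ?_
    rw [hk]
    exact orderOf_dvd_iff_pow_eq_one.1 (by rw [hoγ]; exact hrl.mul_dvd_of_dvd_of_dvd hrk hlk)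
  have hfib : ∀ o : Q, ν o.out ≠ o.out → Nat.card {b : B // (⟦b⟧ : Q) = o} = r * l := by
    intro o ho
    have h2 : Nat.card {b : B // (⟦b⟧ : Q) = o} = Nat.card (MulAction.orbit Γ o.out) :=
      Nat.card_congr (Equiv.subtypeEquivRight fun b' => by
        constructor
        · intro h
          rw [← Quotient.out_eq o] at h
          exact Quotient.exact h
        · intro h
          rw [← Quotient.out_eq o]
          exact Quotient.sound h)
    have hst : Nat.card (MulAction.stabilizer Γ o.out) = 1 := by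
      rw [Subgroup.card_eq_one, eq_bot_iff]
      exact fun g hg => hfree _ ho g hg
    have h3 := Nat.card_congr (MulAction.orbitProdStabilizerEquivGroup Γ o.out)
    rw [Nat.card_prod, hst, mul_one, Nat.card_zpowers, hoγ] at h3
    rw [h2, h3]
  by_cases hlF : (l : F) = 0
  · -- characteristic `l`: the projection on the block kills the free orbits
    let πi : Module.End F M →ₗ[F] Module.End F M :=
      LinearMap.mulLeft F (eigProj r ζ S i) ∘ₗ LinearMap.mulRight F (eigProj r ζ S i)
    have hπi : ∀ A, πi A = eigProj r ζ S i * (A * eigProj r ζ S i) := fun A => rfl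
    set P₀ := eigProj r ζ S i with hP₀
    have hcS : S * P₀ = ζ ^ (i : ℕ) • P₀ := mul_eigProj hζ hSr i
    have hcomm : Commute P₀ (S * V) :=
      commute_eigProj ((Commute.refl S).mul_right hSV) i
    by_cases hP0 : P₀ = 0
    · have : blockDim r ζ S i = 0 := by
        show Module.finrank F (LinearMap.range P₀) = 0
        rw [hP0, LinearMap.range_zero, finrank_bot]
      rw [this]; simp
    have hγP : S * V * P₀ = (ζ ^ (i : ℕ) * c) • P₀ := by
      rw [mul_assoc, hc, mul_smul_comm, hcS, smul_smul, mul_comm]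
    have hne : ζ ^ (i : ℕ) * c ≠ 0 := by
      intro h0
      rw [h0, zero_smul] at hγP
      exact hP0 ((hUS.mul hVu).mul_left_cancel (hγP.trans (mul_zero _).symm))
    have hinv : ∀ A, πi (permEnd e γ A) = πi A := by
      intro A
      have hA := hSVA A
      have h1 : P₀ * (S * V * A) * P₀ = P₀ * (permEnd e γ A * (S * V)) * P₀ := by rw [hA]
      have h2 : P₀ * (S * V * A) * P₀ = (ζ ^ (i : ℕ) * c) • πi A := by
        rw [← mul_assoc P₀, hcomm.eq, hπi, hγP]
        simp only [mul_assoc, smul_mul_assoc]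
      have h3 : P₀ * (permEnd e γ A * (S * V)) * P₀ = (ζ ^ (i : ℕ) * c) • πi (permEnd e γ A) := by
        rw [mul_assoc, mul_assoc (permEnd e γ A), hγP, hπi, mul_smul_comm, mul_smul_comm]
      rw [h2, h3] at h1
      exact (smul_right_injective _ hne h1).symm
    have hπg : ∀ (g : Γ) A, πi (α g A) = πi A := by
      intro g
      obtain ⟨k, hk⟩ := hnat g
      show ∀ A, πi (permEnd e (g : Equiv.Perm B) A) = πi A
      rw [hk]
      clear hk
      induction k with
      | zero => intro A; rw [pow_zero, map_one]; rfl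
      | succ k ih => intro A; rw [pow_succ', map_mul, Module.End.mul_apply, hinv, ih]
    have h1 := finrank_map_fixedSpace_le e α hperm πi hπg
    let Y := Z.map πi
    have hY : Module.finrank F (Module.End F (LinearMap.range P₀)) ≤ Module.finrank F Y := by
      let f : Module.End F (LinearMap.range P₀) →ₗ[F] Module.End F M :=
        { toFun := fun g => (LinearMap.range P₀).subtype ∘ₗ g ∘ₗ P₀.rangeRestrict
          map_add' := fun a b => LinearMap.ext fun x => by simp
          map_smul' := fun a b => LinearMap.ext fun x => by simp }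
      have hl' : ∀ g, P₀ * f g = f g := fun g =>
        LinearMap.ext fun x => hp.apply_mem i (g _).2
      have hr' : ∀ g, f g * P₀ = f g := fun g => LinearMap.ext fun x => by
        have : P₀.rangeRestrict (P₀ x) = P₀.rangeRestrict x :=
          Subtype.ext (hp.apply_mem i (LinearMap.mem_range_self _ _))
        simp [f, Module.End.mul_apply, this]
      have hmem : ∀ g, f g ∈ Y := fun g => by
        refine ⟨f g, (hZ _).2 ?_, by rw [hπi, hr', hl']⟩
        calc S * V * f g = S * V * P₀ * f g := by rw [mul_assoc (S * V), hl']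
          _ = (ζ ^ (i : ℕ) * c) • f g := by rw [hγP, smul_mul_assoc, hl']
          _ = f g * (S * V * P₀) := by rw [hγP, mul_smul_comm, hr']
          _ = f g * P₀ * (S * V) := by rw [← hcomm.eq, mul_assoc]
          _ = f g * (S * V) := by rw [hr']
      refine LinearMap.finrank_le_finrank_of_injective (f := f.codRestrict Y hmem) fun a b h => ?_
      refine LinearMap.ext fun x => Subtype.ext ?_
      have h2 := LinearMap.congr_fun (congrArg Subtype.val h) (x : M)
      have hx : P₀.rangeRestrict (x : M) = x := Subtype.ext (hp.apply_mem i x.2)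
      simpa [f, hx] using h2
    rw [Module.finrank_linearMap, ← sq] at hY
    refine hY.trans (h1.trans (Nat.card_le_card_of_injective (fun o => (⟨o.1, ?_⟩ : P))
      fun a b h => Subtype.ext (congrArg (fun x : P => x.1) h)))
    by_contra hne'
    apply o.2
    rw [hfib _ hne', Nat.cast_mul, hlF, mul_zero]
  · -- coprime characteristic: count in the two eigenspaces
    have : NeZero (l : F) := ⟨hlF⟩
    have : NeZero l := ⟨hl.ne_zero⟩
    obtain ⟨ξ, hξ⟩ := HasEnoughRootsOfUnity.exists_primitiveRoot F l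
    by_cases hP0 : eigProj r ζ S i = 0
    · have : blockDim r ζ S i = 0 := by
        show Module.finrank F (LinearMap.range (eigProj r ζ S i)) = 0
        rw [hP0, LinearMap.range_zero, finrank_bot]
      rw [this]; simp
    -- normalise `V`
    have hVl : ∀ m A, V ^ m * A = permEnd e (ν ^ m) A * V ^ m := by
      intro m
      induction m with
      | zero => intro A; simp
      | succ m ih =>
        intro A
        rw [pow_succ', mul_assoc, ih, ← mul_assoc, mul_eq_permEnd_mul e hV, mul_assoc,
          pow_succ' ν, map_mul, Module.End.mul_apply]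
    obtain ⟨k, hk⟩ : ∃ k : F, V ^ l = k • 1 := by
      obtain ⟨y, hy⟩ : ∃ y : M, y ≠ 0 := by
        by_contra! h
        exact hP0 (LinearMap.ext fun y => h _)
      obtain ⟨φ, hφ⟩ := Module.Projective.exists_dual_ne_zero F hy
      refine ⟨(φ y)⁻¹ * φ ((V ^ l) y), LinearMap.ext fun x => ?_⟩
      have h := LinearMap.congr_fun (hVl l (LinearMap.smulRight ((φ y)⁻¹ • φ) x)) y
      rw [hνl, map_one] at h
      simpa [Module.End.mul_apply, inv_mul_cancel₀ hφ] using h
    have hk0 : k ≠ 0 := fun h0 => hP0 (by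
      have h := hVu.pow l
      rw [hk, h0, zero_smul] at h
      have h01 : (0 : Module.End F M) = 1 := isUnit_zero_iff.1 h
      rw [← one_mul (eigProj r ζ S i), ← h01, zero_mul])
    obtain ⟨κ, hκ⟩ := IsAlgClosed.exists_pow_nat_eq k⁻¹ hl.pos
    have hκ0 : κ ≠ 0 := fun h0 => inv_ne_zero hk0 (by rw [← hκ, h0, zero_pow hl.ne_zero])
    obtain ⟨W, hW⟩ : ∃ W, W = κ • V := ⟨_, rfl⟩
    have hWl : W ^ l = 1 := by rw [hW, smul_pow, hκ, hk, smul_smul, inv_mul_cancel₀ hk0, one_smul]
    have hWu : IsUnit W := IsUnit.of_pow_eq_one hWl hl.ne_zero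
    have hWA : ∀ A, W * A = permEnd e ν A * W := fun A => by
      rw [hW, smul_mul_assoc, mul_eq_permEnd_mul e hV, mul_smul_comm]
    have hSW : Commute S W := by rw [hW]; exact hSV.smul_right κ
    have hf := isBlockSystem_eigProj hξ hlF hWl
    let q : Fin r × Fin l → Module.End F M := fun x => eigProj r ζ S x.1 * eigProj l ξ W x.2
    have hpf : ∀ j a, Commute (eigProj r ζ S j) (eigProj l ξ W a) := fun j a =>
      (commute_eigProj (commute_eigProj hSW j).symm a).symm
    have hq : IsBlockSystem q := by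
      refine ⟨fun x => ?_, fun x y hxy => ?_, ?_⟩
      · show eigProj r ζ S x.1 * _ * (eigProj r ζ S x.1 * _) = _
        rw [(hpf x.1 x.2).symm.mul_mul_mul_comm, hp.idem, hf.idem]
      · show eigProj r ζ S x.1 * _ * (eigProj r ζ S y.1 * _) = _
        rw [(hpf y.1 x.2).symm.mul_mul_mul_comm]
        by_cases h1 : x.1 = y.1
        · rw [hf.ortho _ _ fun h => hxy (Prod.ext h1 h), mul_zero]
        · rw [hp.ortho _ _ h1, zero_mul]
      · rw [Fintype.sum_prod_type]
        simp only [q, ← Finset.mul_sum, hf.sum, mul_one, hp.sum]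
    let n : Fin r × Fin l → ℕ := fun x => Module.finrank F (LinearMap.range (q x))
    -- membership in the two spaces
    obtain ⟨a, -, ha⟩ := Nat.exists_mul_mod_eq_one_of_coprime hrl.symm hr.one_lt
    obtain ⟨b, -, hb⟩ := Nat.exists_mul_mod_eq_one_of_coprime hrl hl.one_lt
    have hπγ : π = γ ^ (l * a) := by
      rw [hγpow, pow_mul ν, hνl, one_pow, mul_one]
      conv_rhs => rw [← Nat.mod_add_div (l * a) r, ha, pow_add, pow_mul, hπr, one_pow, mul_one,
        pow_one]
    have hνγ : ν = γ ^ (r * b) := by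
      rw [hγpow, pow_mul π, hπr, one_pow, one_mul]
      conv_rhs => rw [← Nat.mod_add_div (r * b) l, hb, pow_add, pow_mul, hνl, one_pow, mul_one,
        pow_one]
    have hgen : ∀ g : Γ, g ∈ Subgroup.zpowers (⟨γ, Subgroup.mem_zpowers γ⟩ : Γ) := by
      rintro ⟨g, hg⟩
      obtain ⟨m, rfl⟩ := Subgroup.mem_zpowers_iff.1 hg
      exact ⟨m, Subtype.ext (by simp)⟩
    let ξu : Fˣ := Units.mk0 ξ (hξ.ne_zero hl.ne_zero)
    have hξu : orderOf ξu ∣ orderOf (⟨γ, Subgroup.mem_zpowers γ⟩ : Γ) := by
      rw [← Subgroup.orderOf_coe, hoγ]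
      refine (orderOf_dvd_of_pow_eq_one (Units.ext ?_)).trans (Dvd.intro_left r rfl)
      simp [ξu, hξ.pow_eq_one]
    let χ : Γ →* F := (Units.coeHom F).comp (monoidHomOfForallMemZpowers hgen hξu)
    have hχγ : χ ⟨γ, Subgroup.mem_zpowers γ⟩ = ξ := by
      show ((monoidHomOfForallMemZpowers hgen hξu _ : Fˣ) : F) = ξ
      rw [monoidHomOfForallMemZpowers_apply_gen]
      rfl
    have hZq : ∀ A, A ∈ Z ↔ ∀ x, q x * A = A * q x := by
      intro A
      rw [mem_fixedSpace_zpowers e γ]
      constructor
      · intro h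
        have hpow : ∀ m, permEnd e (γ ^ m) A = A := fun m => by
          induction m with
          | zero => rw [pow_zero, map_one]; rfl
          | succ m ih => rw [pow_succ', map_mul, Module.End.mul_apply, ih, h]
        have h1 : Commute S A := by
          rw [commute_iff_permEnd e hr.pos hSr hS, hπγ]; exact hpow _
        have h2 : Commute W A := by
          rw [commute_iff_eq, hWA, hνγ, hpow]
        exact fun x => ((commute_eigProj h1 x.1).mul_left (commute_eigProj h2 x.2)).eq
      · intro h
        have h1 : Commute S A := by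
          refine commute_of_commute_eigProj hζ hrF hSr fun j => ?_
          rw [← mul_one (eigProj r ζ S j), ← hf.sum, Finset.mul_sum, Finset.sum_mul, Finset.mul_sum]
          exact Finset.sum_congr rfl fun a _ => h (j, a)
        have h2 : Commute W A := by
          refine commute_of_commute_eigProj hξ hlF hWl fun a => ?_
          rw [← one_mul (eigProj l ξ W a), ← hp.sum, Finset.sum_mul, Finset.sum_mul, Finset.mul_sum]
          exact Finset.sum_congr rfl fun j _ => h (j, a)
        rw [commute_iff_permEnd e hr.pos hSr hS] at h1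
        rw [hγ, map_mul, Module.End.mul_apply,
          show permEnd e ν A = A from hWu.mul_right_cancel (by rw [← hWA, h2.eq]), h1]
    have hZdim : Module.finrank F Z = ∑ x, n x ^ 2 := hq.finrank_commutant Z hZq
    have hXdim : Module.finrank F (charSpace α χ) ≤ ∑ x, n x * n (x.1, x.2 + 1) := by
      refine hq.finrank_le_sum_mul _ (fun x => (x.1, x.2 + 1)) fun A hA x y hxy => ?_
      rw [mem_charSpace] at hA
      have hpow : ∀ m : ℕ, permEnd e (γ ^ m) A = ξ ^ m • A := fun m => by
        have h := hA (⟨γ, Subgroup.mem_zpowers γ⟩ ^ m)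
        rw [map_pow, map_pow, hχγ] at h
        rw [map_pow]
        exact h
      have h1 : Commute S A := by
        rw [commute_iff_permEnd e hr.pos hSr hS, hπγ, hpow, pow_mul, hξ.pow_eq_one, one_pow,
          one_smul]
      have h2 : W * A = ξ • (A * W) := by
        rw [hWA, hνγ, hpow, ← Nat.mod_add_div (r * b) l, hb, pow_add, pow_mul, hξ.pow_eq_one,
          one_pow, mul_one, pow_one, smul_mul_assoc]
      show eigProj r ζ S y.1 * eigProj l ξ W y.2 * A *
        (eigProj r ζ S x.1 * eigProj l ξ W x.2) = 0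
      by_cases hj : y.1 = x.1
      swap
      · have hc : Commute (eigProj r ζ S x.1) (eigProj l ξ W y.2 * A) :=
          (hpf x.1 y.2).mul_right (commute_eigProj h1 x.1)
        calc eigProj r ζ S y.1 * eigProj l ξ W y.2 * A * (eigProj r ζ S x.1 * eigProj l ξ W x.2)
            = eigProj r ζ S y.1 * ((eigProj l ξ W y.2 * A) * eigProj r ζ S x.1) *
              eigProj l ξ W x.2 := by simp only [mul_assoc]
          _ = eigProj r ζ S y.1 * (eigProj r ζ S x.1 * (eigProj l ξ W y.2 * A)) *
              eigProj l ξ W x.2 := by rw [hc.eq]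
          _ = 0 := by rw [← mul_assoc (eigProj r ζ S y.1), hp.ortho _ _ hj, zero_mul, zero_mul]
      · have hW1 : W * (A * eigProj l ξ W x.2) =
            ξ ^ ((x.2 : ℕ) + 1) • (A * eigProj l ξ W x.2) := by
          rw [← mul_assoc, h2, smul_mul_assoc, mul_assoc, mul_eigProj hξ hWl, mul_smul_comm,
            smul_smul, pow_succ']
        have hW2 : eigProj l ξ W y.2 * W = ξ ^ (y.2 : ℕ) • eigProj l ξ W y.2 := by
          rw [(commute_eigProj (Commute.refl W) y.2).eq, mul_eigProj hξ hWl]
        have h3 : (ξ ^ (y.2 : ℕ) - ξ ^ ((x.2 : ℕ) + 1)) •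
            (eigProj l ξ W y.2 * (A * eigProj l ξ W x.2)) = 0 := by
          rw [sub_smul, ← smul_mul_assoc, ← hW2, mul_assoc, hW1, mul_smul_comm, sub_self]
        rw [smul_eq_zero] at h3
        rcases h3 with h3 | h3
        · exfalso
          apply hxy
          refine Prod.ext hj (Fin.ext ?_)
          rw [Fin.val_add, Fin.val_one']
          have hm := sub_eq_zero.1 h3
          rw [← Nat.mod_add_div ((x.2 : ℕ) + 1) l, pow_add, pow_mul, hξ.pow_eq_one, one_pow,
            mul_one] at hm
          rw [hξ.pow_inj y.2.2 (Nat.mod_lt _ hl.pos) hm, Nat.add_mod_mod]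
        · rw [(hpf x.1 x.2).eq]
          calc eigProj r ζ S y.1 * eigProj l ξ W y.2 * A * (eigProj l ξ W x.2 * eigProj r ζ S x.1)
              = eigProj r ζ S y.1 * (eigProj l ξ W y.2 * (A * eigProj l ξ W x.2)) *
                eigProj r ζ S x.1 := by simp only [mul_assoc]
            _ = 0 := by rw [h3, mul_zero, zero_mul]
    -- the orbits
    have hZQ : Module.finrank F Z = Nat.card Q := finrank_fixedSpace e α hperm
    have hXge : Nat.card {o : Q // ν o.out ≠ o.out} ≤ Module.finrank F (charSpace α χ) := by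
      have := Fintype.ofFinite Γ
      refine le_trans ?_ (card_le_finrank_charSpace e α hperm χ fun b' => ?_)
      · refine Nat.card_le_card_of_injective (fun o => ⟨o.1, fun g hg => ?_⟩) fun a b h =>
          Subtype.ext (congrArg (fun z : {o : Q // ∀ g : Γ, g • o.out = o.out → χ g = 1} => z.1) h)
        rw [hfree _ o.2 g hg, map_one]
      · intro h0
        obtain ⟨c', hc'⟩ := Subgroup.card_subgroup_dvd_card (MulAction.stabilizer Γ b')
        have hrlF : ((r * l : ℕ) : F) ≠ 0 := by
          rw [Nat.cast_mul]; exact mul_ne_zero hrF hlF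
        rw [← hoγ, ← Nat.card_zpowers, hc', Nat.cast_mul, h0, zero_mul] at hrlF
        exact hrlF rfl
    have hsplit : Nat.card Q = Nat.card P + Nat.card {o : Q // ν o.out ≠ o.out} := by
      rw [← Nat.card_sum]
      exact Nat.card_congr (Equiv.sumCompl _).symm
    -- the row of the block `i`
    obtain ⟨a₀, ha₀⟩ : ∃ a₀, ∀ a, q (i, a) = if a = a₀ then eigProj r ζ S i else 0 := by
      have hWP : W * eigProj r ζ S i = (κ * c) • eigProj r ζ S i := by
        rw [hW, smul_mul_assoc, hc, smul_smul]
      have hWk : ∀ m, W ^ m * eigProj r ζ S i = (κ * c) ^ m • eigProj r ζ S i := fun m => by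
        induction m with
        | zero => simp
        | succ m ih => rw [pow_succ', mul_assoc, ih, mul_smul_comm, hWP, smul_smul, pow_succ]
      have hone : (κ * c) ^ l = 1 := by
        have h := hWk l
        rw [hWl, one_mul] at h
        exact smul_left_injective F hP0 (h.symm.trans (one_smul F _).symm)
      obtain ⟨a₀, ha₀, ha₀'⟩ := hξ.eq_pow_of_pow_eq_one hone
      refine ⟨⟨a₀, ha₀⟩, fun a => ?_⟩
      show eigProj r ζ S i * eigProj l ξ W a = _
      have h3 : ξ ^ (a : ℕ) • (eigProj r ζ S i * eigProj l ξ W a) =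
          (κ * c) • (eigProj r ζ S i * eigProj l ξ W a) := by
        rw [← smul_mul_assoc (κ * c), ← hWP, mul_assoc, (hpf i a).eq, ← mul_assoc,
          mul_eigProj hξ hWl, smul_mul_assoc]
      rw [← ha₀', ← sub_eq_zero, ← sub_smul, smul_eq_zero, sub_eq_zero] at h3
      have hzero : ∀ b : Fin l, b ≠ ⟨a₀, ha₀⟩ → eigProj r ζ S i * eigProj l ξ W b = 0 := by
        intro b hb
        have h4 : ξ ^ (b : ℕ) • (eigProj r ζ S i * eigProj l ξ W b) =
            (κ * c) • (eigProj r ζ S i * eigProj l ξ W b) := by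
          rw [← smul_mul_assoc (κ * c), ← hWP, mul_assoc, (hpf i b).eq, ← mul_assoc,
            mul_eigProj hξ hWl, smul_mul_assoc]
        rw [← ha₀', ← sub_eq_zero, ← sub_smul, smul_eq_zero, sub_eq_zero] at h4
        exact h4.resolve_left fun h => hb (Fin.ext (hξ.pow_inj b.2 ha₀ h))
      split_ifs with hEq
      · subst hEq
        conv_rhs => rw [← mul_one (eigProj r ζ S i), ← hf.sum, Finset.mul_sum]
        exact (Finset.sum_eq_single _ (fun b _ hb => hzero b hb)
          (fun h => absurd (Finset.mem_univ _) h)).symm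
      · exact hzero a hEq
    have hrow : ∀ a, n (i, a) = if a = a₀ then blockDim r ζ S i else 0 := fun a => by
      show Module.finrank F (LinearMap.range (q (i, a))) = _
      rw [ha₀]
      by_cases h : a = a₀
      · rw [if_pos h, if_pos h]; rfl
      · rw [if_neg h, if_neg h, LinearMap.range_zero, finrank_bot]
    have hkey : blockDim r ζ S i ^ 2 + ∑ x, n x * n (x.1, x.2 + 1) ≤ ∑ x, n x ^ 2 := by
      have hcs : ∀ j, ∑ a : Fin l, n (j, a) * n (j, a + 1) ≤ ∑ a : Fin l, n (j, a) ^ 2 := by
        intro j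
        have h2 : 2 * ∑ a : Fin l, n (j, a) * n (j, a + 1) ≤
            ∑ a : Fin l, n (j, a) ^ 2 + ∑ a : Fin l, n (j, a + 1) ^ 2 := by
          rw [← Finset.sum_add_distrib, Finset.mul_sum]
          exact Finset.sum_le_sum fun a _ => by
            rw [← mul_assoc]; exact two_mul_le_add_sq _ _
        have h3 : ∑ a : Fin l, n (j, a + 1) ^ 2 = ∑ a : Fin l, n (j, a) ^ 2 :=
          Equiv.sum_comp (Equiv.addRight (1 : Fin l)) (fun a => n (j, a) ^ 2)
        omega
      rw [Fintype.sum_prod_type, Fintype.sum_prod_type, ← Finset.add_sum_erase _ _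
        (Finset.mem_univ i), ← Finset.add_sum_erase _ _ (Finset.mem_univ i), ← add_assoc]
      refine Nat.add_le_add ?_ (Finset.sum_le_sum fun j _ => hcs j)
      have h0 : ∀ a : Fin l, n (i, a) * n (i, a + 1) = 0 := by
        intro a
        rw [hrow, hrow]
        split_ifs with h1 h2
        · exfalso
          have hone : (1 : Fin l) = 0 := by
            have := h2.trans h1.symm
            exact add_left_cancel (this.trans (add_zero a).symm)
          have := congrArg Fin.val hone
          rw [Fin.val_one', Fin.val_zero, Nat.mod_eq_of_lt hl.one_lt] at this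
          exact one_ne_zero this
        all_goals simp
      rw [Finset.sum_eq_zero fun a _ => h0 a, add_zero]
      calc blockDim r ζ S i ^ 2 = n (i, a₀) ^ 2 := by rw [hrow, if_pos rfl]
        _ ≤ _ := Finset.single_le_sum (f := fun a => n (i, a) ^ 2) (fun a _ => Nat.zero_le _)
          (Finset.mem_univ a₀)
    omega

/-- An endomorphism of a space of dimension at most two commutes with at least that many
independent endomorphisms. -/
theorem finrank_le_finrank_commEnd {V' : Type*} [AddCommGroup V'] [Module F V']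
    [FiniteDimensional F V'] (u : Module.End F V') (hV' : Module.finrank F V' ≤ 2) :
    Module.finrank F V' ≤ Module.finrank F (commEnd u) := by
  rcases Nat.lt_or_ge (Module.finrank F V') 2 with h | h
  · rcases Nat.eq_zero_or_pos (Module.finrank F V') with h0 | h0
    · omega
    · have : Nontrivial V' := Module.finrank_pos_iff.1 h0
      have h1 : 1 ≤ Module.finrank F (commEnd u) :=
        Module.finrank_pos_iff_exists_ne_zero.2 ⟨⟨1, mem_commEnd.2 (Commute.one_right u)⟩,
          fun hh => one_ne_zero (α := Module.End F V') (congrArg Subtype.val hh)⟩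
      omega
  · have h2 : Module.finrank F V' = 2 := le_antisymm hV' h
    have : Nontrivial V' := Module.finrank_pos_iff.1 (show 0 < Module.finrank F V' by omega)
    by_cases hu : ∃ k : F, u = k • 1
    · obtain ⟨k, rfl⟩ := hu
      have : commEnd (k • (1 : Module.End F V')) = ⊤ :=
        eq_top_iff.2 fun A _ => mem_commEnd.2 ((Commute.one_left A).smul_left k)
      rw [this, finrank_top, Module.finrank_linearMap, h2]
      norm_num
    · let v : Fin 2 → commEnd u :=
        ![⟨1, mem_commEnd.2 (Commute.one_right u)⟩, ⟨u, mem_commEnd.2 (Commute.refl u)⟩]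
      have hv : LinearIndependent F v := by
        rw [linearIndependent_fin2]
        refine ⟨fun h0 => hu ⟨0, ?_⟩, fun a ha => ?_⟩
        · rw [zero_smul]; exact congrArg Subtype.val h0
        · have ha' : a • u = 1 := congrArg Subtype.val ha
          have ha0 : a ≠ 0 := fun h0 => one_ne_zero (α := Module.End F V') (by
            rw [← ha', h0, zero_smul])
          exact hu ⟨a⁻¹, by rw [← ha', smul_smul, inv_mul_cancel₀ ha0, one_smul]⟩
      have := hv.fintype_card_le_finrank
      simp at this
      omega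

/-- If all blocks have dimension at most two and the commuting permutation is semiregular of
order `d`, then `d r ≤ N + 1`. -/
theorem mul_le_of_semiregular (hr : r.Prime) (hζ : IsPrimitiveRoot ζ r) (hrF : (r : F) ≠ 0)
    (hSr : S ^ r = 1) (hS : ∀ b, S * e b = e (π b) * S) (hπr : π ^ r = 1)
    (hfix : ∀ b, π b = b ↔ b = b₀) (hd : r.Coprime d) (hd0 : 0 < d) (hμd : orderOf μ = d)
    (hU : ∀ b, U * e b = e (μ b) * U) (hUu : IsUnit U) (hπμ : Commute π μ) (hSU : Commute S U)
    (hsemi : ∀ k, ¬ d ∣ k → ∀ b, (μ ^ k) b = b → b = b₀)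
    (hN : 1 < Module.finrank F M) (h2 : ∀ j, blockDim r ζ S j ≤ 2) :
    d * r ≤ Module.finrank F M + 1 := by
  classical
  have := Fintype.ofFinite B
  have hp := isBlockSystem_eigProj hζ hrF hSr
  have hπ1 : π ≠ 1 := by
    intro h
    have hsub : ∀ b, b = b₀ := fun b => (hfix b).1 (by rw [h]; rfl)
    have h1 : Nat.card B = 1 := by
      rw [Nat.card_eq_one_iff_unique]
      exact ⟨⟨fun x y => (hsub x).trans (hsub y).symm⟩, ⟨b₀⟩⟩
    rw [card_eq_sq e] at h1
    have := (Nat.pow_eq_one.1 h1).resolve_right two_ne_zero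
    omega
  have hoπ : orderOf π = r := (hr.eq_one_or_self_of_dvd _ (orderOf_dvd_of_pow_eq_one hπr)).resolve_left
    fun h => hπ1 (orderOf_eq_one_iff.1 h)
  have hoγ : orderOf (π * μ) = r * d := by
    rw [hπμ.orderOf_mul_eq_mul_orderOf_of_coprime (by rw [hoπ, hμd]; exact hd), hoπ, hμd]
  have hμd' : μ ^ d = 1 := by rw [← hμd, pow_orderOf_eq_one]
  have hμ₀ : μ b₀ = b₀ := (hfix _).1 (by
    rw [← Equiv.Perm.mul_apply, hπμ.eq, Equiv.Perm.mul_apply, (hfix b₀).2 rfl])
  let Γ := Subgroup.zpowers (π * μ)
  have hcount : Nat.card (MulAction.orbitRel.Quotient Γ B) * (r * d) =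
      Nat.card B + (r * d - 1) := by
    have h := card_orbits_mul_of_uniform (Γ := Γ) (B := B) 1 fun g hg => ?_
    · rw [Nat.card_zpowers, hoγ, mul_one] at h
      exact h
    obtain ⟨k, hk⟩ := (isOfFinOrder_of_finite (π * μ)).mem_zpowers_iff_mem_range_orderOf.1 g.2 |>
      fun h => (Finset.mem_image.1 h) |> fun ⟨k, _, hk⟩ =>
        (⟨k, hk⟩ : ∃ k : ℕ, (π * μ) ^ k = (g : Equiv.Perm B))
    rw [Nat.card_eq_one_iff_unique]
    have hkey : ∀ b, g • b = b → b = b₀ := by
      intro b hb
      have hb' : ((π * μ) ^ k) b = b := by rw [hk]; exact hb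
      by_cases hdk : d ∣ k
      · obtain ⟨q, rfl⟩ := hdk
        have hq : ¬ r ∣ d * q := by
          intro hrq
          apply hg
          refine Subtype.ext ?_
          rw [← hk]
          exact orderOf_dvd_iff_pow_eq_one.1 (by
            rw [hoγ]; exact hd.mul_dvd_of_dvd_of_dvd hrq (dvd_mul_right d q))
        rw [hπμ.mul_pow, pow_mul μ, hμd', one_pow, mul_one] at hb'
        obtain ⟨m, -, hm⟩ :=
          Nat.exists_mul_mod_eq_one_of_coprime (hr.coprime_iff_not_dvd.2 hq).symm hr.one_lt
        have h4 := Equiv.Perm.pow_apply_eq_self_of_apply_eq_self hb' m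
        rw [← pow_mul, ← Nat.mod_add_div (d * q * m) r, hm, pow_add, pow_mul π r, hπr, one_pow,
          mul_one, pow_one] at h4
        exact (hfix b).1 h4
      · refine hsemi (r * k) (fun h => hdk ((Nat.Coprime.dvd_mul_left hd.symm).1 h)) b ?_
        have h3 := Equiv.Perm.pow_apply_eq_self_of_apply_eq_self hb' r
        rw [← pow_mul, hπμ.mul_pow, mul_comm k r, pow_mul π, hπr, one_pow, one_mul] at h3
        exact h3
    have hγ₀ : g • b₀ = b₀ := by
      show (g : Equiv.Perm B) b₀ = b₀
      rw [← hk]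
      exact Equiv.Perm.pow_apply_eq_self_of_apply_eq_self (by
        rw [Equiv.Perm.mul_apply, hμ₀, (hfix b₀).2 rfl]) k
    exact ⟨⟨fun x y => Subtype.ext ((hkey _ x.2).trans (hkey _ y.2).symm)⟩, ⟨⟨b₀, hγ₀⟩⟩⟩
  have hdim : Module.finrank F M ≤ Nat.card (MulAction.orbitRel.Quotient Γ B) := by
    rw [← finrank_fixedSpace e ((permEnd e).comp Γ.subtype) fun g b => permEnd_apply e _ b,
      ← sum_blockDim hζ hrF hSr]
    have hUp : ∀ j, ∀ x ∈ LinearMap.range (eigProj r ζ S j),
        U x ∈ LinearMap.range (eigProj r ζ S j) := fun j x hx => ⟨U x, by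
      rw [← Module.End.mul_apply, (commute_eigProj hSU j).eq, Module.End.mul_apply,
        hp.apply_mem j hx]⟩
    refine le_trans (Finset.sum_le_sum fun j _ =>
      finrank_le_finrank_commEnd (U.restrict (hUp j)) (h2 j)) (hp.sum_le_finrank _ _ fun g => ?_)
    rw [mem_fixedSpace_zpowers, map_mul, Module.End.mul_apply]
    set A := ∑ j, (LinearMap.range (eigProj r ζ S j)).subtype ∘ₗ (g j).1 ∘ₗ
      (eigProj r ζ S j).rangeRestrict
    have hA1 : ∀ j, eigProj r ζ S j * A = A * eigProj r ζ S j := fun j =>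
      (hp.mul_sum_extend (fun i => (g i).1) j).trans (hp.sum_extend_mul (fun i => (g i).1) j).symm
    have hA2 : U * A = A * U := by
      refine LinearMap.ext fun x => ?_
      simp only [A, Module.End.mul_apply, LinearMap.sum_apply, map_sum, LinearMap.comp_apply,
        Submodule.coe_subtype]
      refine Finset.sum_congr rfl fun j _ => ?_
      have h3 : (eigProj r ζ S j).rangeRestrict (U x) =
          (U.restrict (hUp j)) ((eigProj r ζ S j).rangeRestrict x) := Subtype.ext (by
        show eigProj r ζ S j (U x) = U (eigProj r ζ S j x)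
        rw [← Module.End.mul_apply, (commute_eigProj hSU j).eq]
        rfl)
      rw [h3]
      exact congrArg Subtype.val
        (LinearMap.congr_fun (mem_commEnd.1 (g j).2).eq ((eigProj r ζ S j).rangeRestrict x))
    rw [show permEnd e μ A = A from hUu.mul_right_cancel (by rw [← mul_eq_permEnd_mul e hU, hA2]),
      (commute_iff_permEnd e hr.pos hSr hS A).1 (commute_of_commute_eigProj hζ hrF hSr hA1)]
  have h3 := Nat.mul_le_mul_right (r * d) hdim
  rw [hcount, card_eq_sq e] at h3
  have hrd : 0 < r * d := Nat.mul_pos hr.pos hd0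
  by_contra hlt
  rw [mul_comm d r] at hlt
  have h4 : Module.finrank F M + 2 ≤ r * d := by omega
  have h5 : Module.finrank F M * (r * d) ≥ Module.finrank F M * (r * d - 1) + 2 := by
    have : Module.finrank F M * (r * d) = Module.finrank F M * (r * d - 1) + Module.finrank F M := by
      conv_lhs => rw [show r * d = (r * d - 1) + 1 by omega]
      ring
    omega
  nlinarith [h3, h4]

end CfsgLib.Turull73
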