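import Cfsg.Agent.Turull73.Lift
import Cfsg.Agent.Turull73.Count

/-!
# A fixed type with fixed-point-free action on `E / R`

* `card_quot_of_no_fixed`: without fixed vectors `|E : R| = (r - 1)²`.
* `le_finrank_range_sub_one`: for `|E : R|` odd the rank of `s - 1` is at least `r`.
* `trivial_of_no_fixed`, `trivial_or_inversion`: what a coprime automorphism commuting with `σ` and
  fixing the type can induce on `E / R`.
-/

set_option autoImplicit false

open scoped commutatorElement

namespace CfsgLib.Turull73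

variable {F E M W : Type*} [Field F] [AddCommGroup M] [Module F M] [AddCommGroup W] [Module F W]
  [Group E]

theorem eigProj_apply_of_eigen {r : ℕ} {ζ : F} {T : Module.End F M} (hζ : IsPrimitiveRoot ζ r)
    (hrF : (r : F) ≠ 0) (j : Fin r) {x : M} (hx : T x = ζ ^ (j : ℕ) • x) :
    eigProj r ζ T j x = x := by
  have hr : 0 < r := Fin.pos j
  have hpow : ∀ k, (T ^ k) x = (ζ ^ (j : ℕ)) ^ k • x := fun k => by
    induction k with
    | zero => simp
    | succ k ih => rw [pow_succ', Module.End.mul_apply, ih, map_smul, hx, smul_smul, pow_succ]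
  rw [eigProj, LinearMap.smul_apply, LinearMap.sum_apply, Finset.sum_congr rfl fun k _ => ?_,
    Finset.sum_const, Finset.card_range, ← Nat.cast_smul_eq_nsmul F, smul_smul, inv_mul_cancel₀ hrF,
    one_smul]
  rw [LinearMap.smul_apply, hpow, smul_smul, ← pow_mul, ← mul_pow,
    inv_mul_cancel₀ (hζ.ne_zero hr.ne'), one_pow, one_smul]

theorem toEquiv_pow {G : Type*} [Group G] (f : MulAut G) : ∀ n : ℕ, f.toEquiv ^ n = (f ^ n).toEquiv
  | 0 => rfl
  | n + 1 => by rw [pow_succ', pow_succ', toEquiv_pow f n]; rfl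

/-- The hypotheses on a fixed type. -/
structure FixedType (E : Type*) [Group E] (F : Type*) [Field F] (r : ℕ) where
  ω : E → F
  σ : MulAut E
  isType : IsType ω
  hcen : ∀ a b c : E, Commute ⁅a, b⁆ c
  hE : (Nat.card E : F) ≠ 0
  hr : r.Prime
  hrE : ¬ r ∣ Nat.card E
  hrF : (r : F) ≠ 0
  hσ : σ ^ r = 1
  hσω : ∀ g, ω (σ g) = ω g
  fpf : ∀ g, ω (g⁻¹ * σ g) ≠ 0 → ω g ≠ 0

namespace FixedType

variable {r : ℕ} (D : FixedType E F r)

theorem fix_iff (b : E ⧸ D.isType.supp) :
    (D.isType.quotAut D.σ D.hσω).toEquiv b = b ↔ b = 1 := by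
  induction b using QuotientGroup.induction_on with | H g => ?_
  constructor
  · intro h
    exact (QuotientGroup.eq_one_iff g).2 (D.fpf g (QuotientGroup.eq.1 h.symm))
  · intro h
    rw [h]
    exact map_one (D.isType.quotAut D.σ D.hσω)

variable [Fintype E] [IsAlgClosed F]

include D in
theorem exists_root : ∃ ζ : F, IsPrimitiveRoot ζ r := by
  have : NeZero (r : F) := ⟨D.hrF⟩
  have : NeZero r := ⟨D.hr.ne_zero⟩
  exact HasEnoughRootsOfUnity.exists_primitiveRoot F r

/-- Everything attached to an irreducible representation: lifts of `σ` and of a commuting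
automorphism, and the embeddings in a representation `ρW` with compatible operators. -/
theorem exists_data [FiniteDimensional F W] [Nontrivial W] {ρW : E →* Module.End F W}
    (hρW : IsRepOf ρW D.ω) {s : Module.End F W} (hsr : s ^ r = 1)
    (hs : ∀ g w, s (ρW g w) = ρW (D.σ g) (s w)) {α : MulAut E} {d : ℕ} (hd : 0 < d)
    (hrd : r.Coprime d) (hdE : d.Coprime (Nat.card E)) (hα : α ^ d = 1) (hσα : Commute D.σ α)
    (hαω : ∀ g, D.ω (α g) = D.ω g) {ζ : F} (hζ : IsPrimitiveRoot ζ r) :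
    ∃ (M : Submodule F W) (S U : Module.End F M)
      (e : Module.Basis (E ⧸ D.isType.supp) F (Module.End F M)),
      Nontrivial M ∧ S ^ r = 1 ∧ U ^ d = 1 ∧ Commute S U ∧
      (∀ b, S * e b = e ((D.isType.quotAut D.σ D.hσω).toEquiv b) * S) ∧
      (∀ b, U * e b = e ((D.isType.quotAut α hαω).toEquiv b) * U) ∧
      Nat.card (E ⧸ D.isType.supp) = Module.finrank F M ^ 2 ∧
      ∃ i : Fin r,
        ((∀ w, s w = w → w = 0) → blockDim r ζ S i = 0) ∧
        (∀ t : Module.End F W, (∀ g w, t (ρW g w) = ρW (α g) (t w)) →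
          (∀ w, s w = w → t w = w) → ∀ A, Commute S A →
          U * A * eigProj r ζ S i = A * U * eigProj r ζ S i) ∧
        Module.finrank F M ≤
          Module.finrank F (LinearMap.range (s - 1)) + blockDim r ζ S i := by
  classical
  have hr := D.hr
  obtain ⟨M, hM, ρ, hρ, hirr⟩ := exists_irreducible ρW hρW
  have hrE : r.Coprime (Nat.card E) := hr.coprime_iff_not_dvd.2 D.hrE
  obtain ⟨S, U, e, hSr, hUd, hSU, hS, hU, heS, heU⟩ :=
    exists_lifts D.isType D.hcen D.hE hρ hirr hr.pos hd hrd hrE hdE D.hσ hα hσα D.hσω hαω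
  obtain ⟨Ψ, hΨ, -⟩ := exists_algHom D.isType D.hcen D.hE hρ hirr hρW
  let e₀ := endBasis D.isType D.hcen D.hE hρ hirr
  have he₀ : ∀ b, e₀ b = ρ b.out := endBasis_apply D.isType D.hcen D.hE hρ hirr
  -- twisting through `Ψ`
  have htwist : ∀ (T : Module.End F M) (n : ℕ) (β : MulAut E) (t : Module.End F W), 0 < n →
      T ^ n = 1 → (∀ g, T * ρ g = ρ (β g) * T) → (∀ g w, t (ρW g w) = ρW (β g) (t w)) →
      ∀ A, t * Ψ A = Ψ (T * A * T ^ (n - 1)) * t := by
    intro T n β t hn hT hTρ ht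
    have : LinearMap.mulLeft F t ∘ₗ Ψ.toLinearMap = LinearMap.mulRight F t ∘ₗ Ψ.toLinearMap ∘ₗ
        LinearMap.mulRight F (T ^ (n - 1)) ∘ₗ LinearMap.mulLeft F T := e₀.ext fun b => by
      simp only [LinearMap.comp_apply, LinearMap.mulLeft_apply, LinearMap.mulRight_apply,
        AlgHom.toLinearMap_apply, he₀]
      rw [hTρ, mul_assoc (ρ _), ← pow_succ', Nat.sub_add_cancel hn, hT, mul_one, hΨ, hΨ]
      exact LinearMap.ext fun w => ht _ w
    exact fun A => LinearMap.congr_fun this A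
  have hsΨ := htwist S r D.σ s hr.pos hSr hS hs
  obtain ⟨μ, hμ⟩ : ∃ μ, μ = Ψ (S ^ (r - 1)) * s := ⟨_, rfl⟩
  have hSinv : S ^ (r - 1) * S = 1 := by rw [← pow_succ, Nat.sub_add_cancel hr.pos, hSr]
  have hSinv' : S * S ^ (r - 1) = 1 := by rw [← pow_succ', Nat.sub_add_cancel hr.pos, hSr]
  have hsS : Commute s (Ψ (S ^ (r - 1))) := by
    rw [commute_iff_eq, hsΨ, hSinv', one_mul]
  have hμr : μ ^ r = 1 := by
    rw [hμ, hsS.symm.mul_pow, hsr, mul_one, ← map_pow, ← pow_mul, mul_comm, pow_mul, hSr, one_pow,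
      map_one]
  have hμΨ : ∀ A, Commute μ (Ψ A) := fun A => by
    rw [commute_iff_eq, hμ, mul_assoc, hsΨ, ← mul_assoc, ← mul_assoc, ← map_mul, ← map_mul,
      ← mul_assoc, ← mul_assoc, hSinv, one_mul]
  have hsμ : s = Ψ S * μ := by rw [hμ, ← mul_assoc, ← map_mul, hSinv', map_one, one_mul]
  have hp := isBlockSystem_eigProj hζ D.hrF hμr
  obtain ⟨a, ha⟩ : ∃ a : Fin r, LinearMap.range (eigProj r ζ μ a) ≠ ⊥ := by
    by_contra! h
    obtain ⟨w, hw⟩ := exists_ne (0 : W)
    apply hw
    rw [← hp.sum_apply w]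
    exact Finset.sum_eq_zero fun a _ => by rw [LinearMap.range_eq_bot.1 (h a)]; rfl
  obtain ⟨T, hTinj, hTmem, hTA⟩ := exists_embedding hirr D.isType D.hcen D.hE hρ hρW Ψ hΨ ha
    (fun g w hw => ⟨ρW g w, by
      rw [← hΨ, ← Module.End.mul_apply, (commute_eigProj (hμΨ (ρ g)) a).eq, Module.End.mul_apply,
        hp.apply_mem a hw]⟩)
  have hμT : ∀ m, μ (T m) = ζ ^ (a : ℕ) • T m := fun m => by
    conv_lhs => rw [← hp.apply_mem a (hTmem m)]
    rw [← Module.End.mul_apply, mul_eigProj hζ hμr, LinearMap.smul_apply,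
      hp.apply_mem a (hTmem m)]
  have hsT : ∀ m, s (T m) = ζ ^ (a : ℕ) • T (S m) := fun m => by
    rw [hsμ, Module.End.mul_apply, hμT, map_smul, hTA]
  let i : Fin r := ⟨(r - a) % r, Nat.mod_lt _ hr.pos⟩
  have hai : ζ ^ (a : ℕ) * ζ ^ (i : ℕ) = 1 := by
    show ζ ^ (a : ℕ) * ζ ^ ((r - (a : ℕ)) % r) = 1
    rw [← pow_eq_pow_mod _ hζ.pow_eq_one, ← pow_add, Nat.add_sub_cancel' a.2.le, hζ.pow_eq_one]
  have hpS := isBlockSystem_eigProj hζ D.hrF hSr
  have hfix : ∀ m ∈ LinearMap.range (eigProj r ζ S i), s (T m) = T m := fun m hm => by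
    have : S m = ζ ^ (i : ℕ) • m := by
      conv_lhs => rw [← hpS.apply_mem i hm]
      rw [← Module.End.mul_apply, mul_eigProj hζ hSr, LinearMap.smul_apply, hpS.apply_mem i hm]
    rw [hsT, this, map_smul, smul_smul, hai, one_smul]
  have hmem : ∀ A, Commute S A → ∀ m ∈ LinearMap.range (eigProj r ζ S i),
      A m ∈ LinearMap.range (eigProj r ζ S i) := fun A hA m hm => ⟨A m, by
    rw [← Module.End.mul_apply, (commute_eigProj hA i).eq, Module.End.mul_apply,
      hpS.apply_mem i hm]⟩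
  refine ⟨M, S, U, e, hM, hSr, hUd, hSU, heS, heU,
    card_quot_eq D.isType D.hcen D.hE hρ hirr, i, fun hC => ?_, fun t ht htC A hA => ?_, ?_⟩
  · show Module.finrank F (LinearMap.range (eigProj r ζ S i)) = 0
    rw [Submodule.finrank_eq_zero, eq_bot_iff]
    intro m hm
    exact (Submodule.mem_bot F).2 (hTinj (by rw [hC _ (hfix m hm), map_zero]))
  · have htΨ := htwist U d α t hd hUd hU ht
    have hkey : ∀ m ∈ LinearMap.range (eigProj r ζ S i), A m = (U * A * U ^ (d - 1)) m := by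
      intro m hm
      apply hTinj
      have h := LinearMap.congr_fun (htΨ A) (T m)
      rw [Module.End.mul_apply, Module.End.mul_apply, ← hTA, htC _ (hfix _ (hmem A hA m hm)),
        htC _ (hfix m hm), ← hTA] at h
      exact h
    refine LinearMap.ext fun x => ?_
    set m := eigProj r ζ S i x
    show U (A m) = A (U m)
    rw [hkey _ (hmem U hSU m (LinearMap.mem_range_self _ _)), Module.End.mul_apply,
      Module.End.mul_apply, ← Module.End.mul_apply (U ^ (d - 1)), ← pow_succ,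
      Nat.sub_add_cancel hd, hUd]
    rfl
  · let R : Module.End F M := ζ ^ (a : ℕ) • S - 1
    have hker : LinearMap.ker R ≤ LinearMap.range (eigProj r ζ S i) := by
      intro m hm
      refine ⟨m, eigProj_apply_of_eigen hζ D.hrF i ?_⟩
      have h : ζ ^ (a : ℕ) • S m = m := sub_eq_zero.1 hm
      conv_rhs => rw [← h, smul_smul, mul_comm, hai, one_smul]
    have hrange : Module.finrank F (LinearMap.range R) ≤
        Module.finrank F (LinearMap.range (s - 1)) := by
      let T' : LinearMap.range R →ₗ[F] LinearMap.range (s - 1) :=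
        (T ∘ₗ (LinearMap.range R).subtype).codRestrict _ (by
          rintro ⟨_, m, rfl⟩
          refine ⟨T m, ?_⟩
          show s (T m) - T m = T (ζ ^ (a : ℕ) • S m - m)
          rw [hsT, map_sub, map_smul])
      refine LinearMap.finrank_le_finrank_of_injective (f := T') fun x y h => Subtype.ext
        (hTinj (congrArg Subtype.val h))
    have h1 := LinearMap.finrank_range_add_finrank_ker R
    have h2 : Module.finrank F (LinearMap.ker R) ≤ blockDim r ζ S i := Submodule.finrank_mono hker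
    omega

variable [FiniteDimensional F W] [Nontrivial W] {ρW : E →* Module.End F W}
  (hρW : IsRepOf ρW D.ω) {s : Module.End F W} (hsr : s ^ r = 1)
  (hs : ∀ g w, s (ρW g w) = ρW (D.σ g) (s w))
include hρW hsr hs

theorem card_quot_of_no_fixed (hB : Nat.card (E ⧸ D.isType.supp) ≠ 1)
    (hC : ∀ w, s w = w → w = 0) : Nat.card (E ⧸ D.isType.supp) = (r - 1) ^ 2 := by
  obtain ⟨ζ, hζ⟩ := D.exists_root
  obtain ⟨M, S, U, e, hM, hSr, -, -, heS, -, hcard, i, hi, -, -⟩ :=
    D.exists_data hρW hsr hs (α := 1) Nat.one_pos (Nat.coprime_one_right r)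
      (Nat.coprime_one_left _) (one_pow 1) (Commute.one_right _) (fun _ => rfl) hζ
  obtain ⟨-, -, hz, -⟩ := blockDim_bounds e D.hr hζ D.hrF hSr heS
    (by rw [toEquiv_pow, D.isType.quotAut_pow_eq_one D.σ D.hσω D.hσ]; rfl)
    D.fix_iff
  have hN : 1 < Module.finrank F M := by
    have := Module.finrank_pos (R := F) (M := M)
    rcases Nat.lt_or_ge 1 (Module.finrank F M) with h | h
    · exact h
    · exfalso
      apply hB
      rw [hcard, le_antisymm h this, one_pow]
  rw [hcard, ← hz ⟨i, hi hC⟩ hN, Nat.add_sub_cancel]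

theorem le_finrank_range_sub_one (hB : Nat.card (E ⧸ D.isType.supp) ≠ 1)
    (hodd : Odd (Nat.card (E ⧸ D.isType.supp))) (hr2 : r ≠ 2) :
    r ≤ Module.finrank F (LinearMap.range (s - 1)) := by
  obtain ⟨ζ, hζ⟩ := D.exists_root
  obtain ⟨M, S, U, e, hM, hSr, -, -, heS, -, hcard, i, -, -, hle⟩ :=
    D.exists_data hρW hsr hs (α := 1) Nat.one_pos (Nat.coprime_one_right r)
      (Nat.coprime_one_left _) (one_pow 1) (Commute.one_right _) (fun _ => rfl) hζ
  obtain ⟨hb, -, -, hge⟩ := blockDim_bounds e D.hr hζ D.hrF hSr heS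
    (by rw [toEquiv_pow, D.isType.quotAut_pow_eq_one D.σ D.hσω D.hσ]; rfl)
    D.fix_iff
  rw [hcard] at hodd hB
  have hN : 1 < Module.finrank F M := by
    have := Module.finrank_pos (R := F) (M := M)
    rcases Nat.lt_or_ge 1 (Module.finrank F M) with h | h
    · exact h
    · exact absurd (by rw [le_antisymm h this, one_pow]) hB
  have hNodd : Odd (Module.finrank F M) := (Nat.odd_pow_iff two_ne_zero).1 hodd
  have hrodd : Odd r := D.hr.odd_of_ne_two hr2
  rw [Nat.odd_iff] at hNodd hrodd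
  have hN2 : r + 2 ≤ Module.finrank F M := by
    rcases hge hN with h | h <;> omega
  by_contra hlt
  have h2 : Module.finrank F M + 1 ≤ r + blockDim r ζ S i := by omega
  have h3 : r * (Module.finrank F M + 1) ≤ r * (r + blockDim r ζ S i) := Nat.mul_le_mul_left r h2
  have h4 := (hb i).1
  have h5 := D.hr.two_le
  obtain ⟨q, hq⟩ := Nat.le.dest h5
  subst hq
  rw [show 2 + q - 1 = q + 1 by omega] at h4
  nlinarith [h3, h4, hN2]

variable {α : MulAut E} {d : ℕ} (hd : 0 < d) (hrd : r.Coprime d)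
  (hdE : d.Coprime (Nat.card E)) (hα : α ^ d = 1) (hσα : Commute D.σ α)
  (hαω : ∀ g, D.ω (α g) = D.ω g)
include hd hrd hdE hα hσα

/-- If the irreducible representation has dimension `r - 1`, a commuting automorphism of coprime
order is trivial on `E / R`. -/
theorem quotAut_eq_one_of_finrank (hN : Nat.card (E ⧸ D.isType.supp) = (r - 1) ^ 2) :
    D.isType.quotAut α hαω = 1 := by
  obtain ⟨ζ, hζ⟩ := D.exists_root
  obtain ⟨M, S, U, e, hM, hSr, hUd, hSU, heS, heU, hcard, -⟩ :=
    D.exists_data hρW hsr hs hd hrd hdE hα hσα hαω hζ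
  have hπr : (D.isType.quotAut D.σ D.hσω).toEquiv ^ r = 1 := by
    rw [toEquiv_pow, D.isType.quotAut_pow_eq_one D.σ D.hσω D.hσ]; rfl
  obtain ⟨-, h1, -, -⟩ := blockDim_bounds e D.hr hζ D.hrF hSr heS hπr D.fix_iff
  have hN' : Module.finrank F M + 1 = r := by
    rw [hcard] at hN
    rw [Nat.pow_left_injective two_ne_zero hN, Nat.sub_add_cancel D.hr.pos]
  have hcomm := D.isType.quotAut_commute D.hσω hαω hσα
  have := eq_one_of_blockDim_le_one e D.hr hζ D.hrF hSr heS hrd
    (μ := (D.isType.quotAut α hαω).toEquiv)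
    (by rw [toEquiv_pow, D.isType.quotAut_pow_eq_one α hαω hα]; rfl) heU
    (IsUnit.of_pow_eq_one hUd hd.ne') hπr
    (Equiv.ext fun b => congrArg (fun f : MulAut (E ⧸ D.isType.supp) => f b) hcomm.eq) hSU (h1 hN')
  exact MulEquiv.ext fun b => congrArg (fun f : Equiv.Perm (E ⧸ D.isType.supp) => f b) this

theorem trivial_of_no_fixed (hC : ∀ w, s w = w → w = 0) : D.isType.quotAut α hαω = 1 := by
  by_cases hB : Nat.card (E ⧸ D.isType.supp) = 1
  · have : Subsingleton (E ⧸ D.isType.supp) := (Nat.card_eq_one_iff_unique.1 hB).1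
    exact MulEquiv.ext fun b => Subsingleton.elim _ _
  · exact D.quotAut_eq_one_of_finrank hρW hsr hs hd hrd hdE hα hσα hαω
      (D.card_quot_of_no_fixed hρW hsr hs hB hC)

end FixedType

end CfsgLib.Turull73
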