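import Cfsg.Agent.Turull73.Fixed

/-!
# The action of the layer below on the types of the first moved layer

* `top_of_U`: the layer below covers `Vᵢ₊₁` by commutators.
* `U_mem_Fix`, `not_all_trivial`: it fixes the fixed types and is not trivial on their `Q / R`.
* `exists_fixed_ne_one_zero`, `exists_fixed_ne_one_succ`: `σ` has fixed vectors above.
-/

set_option autoImplicit false

open scoped commutatorElement

namespace CfsgLib.Turull73

open FittingLength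

variable {G : Type*} [Group G] [Finite G]

namespace Frame

variable (F : Frame G)

theorem IsU.coprime {i j : ℕ} {u : G} (hu : F.IsU i u) (hne : F.p i ≠ F.p j) :
    (orderOf u).Coprime (F.p j) := by
  obtain ⟨k, hk⟩ := hu.2.2
  rw [hk]
  exact coprime_prime_pow (F.p_prime i) (F.p_prime j) hne

theorem commute_permΩ {i : ℕ} {g h : G} (hgh : g * h = h * g) (ω : F.Ω i) :
    F.permΩ i g (F.permΩ i h ω) = F.permΩ i h (F.permΩ i g ω) := by
  rw [← Equiv.Perm.mul_apply, ← map_mul, hgh, map_mul, Equiv.Perm.mul_apply]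

/-- The layer below covers `Vᵢ₊₁` by commutators. -/
theorem top_of_U {i : ℕ} (hi : i < F.S.t) (htriv : ∀ k ≤ i, F.STriv k)
    {T : Subgroup (F.V (i + 1))}
    (h : ∀ u, F.IsU i u → ∀ v, F.actV (i + 1) u v * v⁻¹ ∈ T) : T = ⊤ := by
  set T₁ := (T.comap (F.mkV (i + 1))).map (F.E (i + 1)).subtype
  have hle : F.E (i + 1) ≤ T₁ := by
    refine F.E_le_of_commutator hi (fun m hm => ⟨⟨m, F.M_le_E (i + 1) hm⟩, ?_, rfl⟩)
      fun x hx e he => ⟨⟨⁅x, e⁆, F.commutator_mem_E x he⟩, ?_, rfl⟩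
    · show F.mkV (i + 1) _ ∈ T
      rw [F.mkV_eq_one.2 hm]
      exact T.one_mem
    · obtain ⟨u, hu, hxu⟩ := F.exists_cover hi.le htriv x hx
      have hact : F.actV (i + 1) u = F.actV (i + 1) x := by
        rw [← F.ρQ_mk i ⟨u, hu.2.1⟩, ← F.ρQ_mk i ⟨x, hx⟩]
        congr 1
        have h1 := (QuotientGroup.eq (a := (⟨x, hx⟩ : F.E i)) (b := ⟨u, hu.2.1⟩)
          (s := (F.N i).subgroupOf (F.E i))).2 hxu
        exact h1.symm
      show F.mkV (i + 1) _ ∈ T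
      rw [← F.actV_mul_inv x ⟨e, he⟩, ← hact]
      exact h u hu _
  refine eq_top_iff.2 fun v _ => ?_
  obtain ⟨e, rfl⟩ := F.mkV_surjective (i + 1) v
  obtain ⟨e', he', hee⟩ := hle e.2
  rwa [Subtype.ext (hee : (e' : G) = e)] at he'

theorem actQ_of_U {i : ℕ} (hi : i + 1 ≤ F.S.t) {u : G} (hu : F.IsU i u) {q : F.Q (i + 1)}
    (hq : F.toV (i + 1) q = 1) : F.actQ (i + 1) u q = q := by
  obtain ⟨e, rfl⟩ := F.mkQ_surjective (i + 1) q
  exact F.actQ_eq_self.2 ((F.layer hi).centralA i rfl u (F.E_le_D (by omega) hu.2.1)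
    (hu.coprime F (F.p_ne (by omega))) e (F.mkV_eq_one.1 hq))

/-- The layer below fixes the fixed types. -/
theorem U_mem_Fix {i : ℕ} (hi : i + 1 < F.S.t) (hfpf : F.Fpf (i + 1)) {ω : F.Ω (i + 1)}
    (hs : F.S.s ∈ F.Fix ω) {u : G} (hu : F.IsU i u) : u ∈ F.Fix ω := by
  refine F.permΩ_eq_self.1 (F.eq_of_fixed hfpf hi (F.permΩ_eq_self.1 ?_) hs fun q hq => ?_)
  · rw [F.commute_permΩ (F.mem_C.1 (hu.mem_C F)).2, F.permΩ_eq_self.2 hs]
  · rw [permΩ_apply, (MulEquiv.symm_apply_eq _).2 (F.actQ_of_U hi.le hu hq).symm]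

/-- The layer below is not trivial on the quotient by the radical of a fixed type. -/
theorem not_all_trivial {i : ℕ} (hi : i + 1 < F.S.t) (htriv : ∀ k ≤ i, F.STriv k)
    (hfpf : F.Fpf (i + 1)) {ω : F.Ω (i + 1)} (hs : F.S.s ∈ F.Fix ω) (hne : ∃ q, ω.1 q ≠ 1)
    (h : ∀ u (huω : u ∈ F.Fix ω), F.IsU i u → F.onB ω ⟨u, huω⟩ = 1) : False := by
  refine F.supp_ne_top hfpf hs hne (F.eq_top_of_map (F.top_of_U (by omega) htriv fun u hu v => ?_))
  obtain ⟨q, rfl⟩ := F.toV_surjective (i + 1) v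
  rw [← toV_actQ, mul_comm, ← map_inv, ← map_mul]
  have h1 := congrArg (fun f : MulAut (F.Q (i + 1) ⧸ ω.2.1.supp) => f q)
    (h u (F.U_mem_Fix hi hfpf hs hu) hu)
  exact Subgroup.mem_map_of_mem _ ((QuotientGroup.eq (s := ω.2.1.supp)).1 h1.symm)

theorem exists_ne_one (i : ℕ) : ∃ q : F.Q i, q ≠ 1 := by
  obtain ⟨v, hv⟩ := F.V_nontrivial i
  obtain ⟨q, rfl⟩ := F.toV_surjective i v
  exact ⟨q, fun h => hv (by rw [h, map_one])⟩

/-- With no fixed vector above, some fixed type is non-trivial. -/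
theorem exists_fixed_type {j : ℕ} (hj : j < F.S.t)
    (hall : ∀ v : F.V (j + 1), F.actV (j + 1) F.S.s v = v → v = 1) :
    ∃ ω : F.Ω j, F.S.s ∈ F.Fix ω ∧ ∃ q, ω.1 q ≠ 1 := by
  obtain ⟨q, hq⟩ := F.exists_ne_one j
  obtain ⟨ω, hω⟩ := F.exists_Ω_ne_one hj hq
  refine ⟨ω, ?_, q, hω⟩
  by_contra hmov
  obtain ⟨φ, hφ, hφ0⟩ := F.exists_fixed_of_moved hj hmov
  exact hφ0 (F.dual_fixed_eq_zero hφ fun v hv => by rw [hall v hv, ofMul_one, map_zero])

theorem exists_fixed_ne_one_zero (ht : 1 < F.S.t) (hfpf : F.Fpf 0) :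
    ∃ v : F.V 1, F.actV 1 F.S.s v = v ∧ v ≠ 1 := by
  by_contra! hall
  obtain ⟨ω, hs, hne⟩ := F.exists_fixed_type (j := 0) (by omega) hall
  refine F.supp_ne_top hfpf hs hne (eq_top_iff.2 fun g _ => (ω.2.1.mem g).2 fun h => ?_)
  have h1 : ⁅g, h⁆ = 1 := by
    obtain ⟨e, he⟩ := F.mkQ_surjective 0 ⁅g, h⁆
    have h2 := F.toV_commutator g h
    rw [← he, toV_mk, F.mkV_eq_one] at h2
    rw [← he, F.mkQ_eq_one]
    exact F.M_zero_le_N (by omega) h2
  rw [h1, ω.2.1.one]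

theorem exists_fixed_ne_one_succ {i : ℕ} (hi : i + 1 < F.S.t) (htriv : ∀ k ≤ i, F.STriv k)
    (hfpf : F.Fpf (i + 1)) :
    ∃ v : F.V (i + 2), F.actV (i + 2) F.S.s v = v ∧ v ≠ 1 := by
  by_contra! hall
  obtain ⟨ω, hs, hne⟩ := F.exists_fixed_type hi hall
  refine F.not_all_trivial hi htriv hfpf hs hne fun u huω hu =>
    F.onB_eq_one_of_no_fixed hfpf hi hs (fun w _ hw => ?_) (hu.mem_C F) huω
      (hu.coprime F (F.p_ne (by omega)))
  exact F.dual_fixed_eq_zero hw fun v hv => by rw [hall v hv, ofMul_one, map_zero]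

end Frame

end CfsgLib.Turull73
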