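import Cfsg.Agent.Turull73.Bad

/-!
# The inductive chain

A good layer gives a good layer above it, and a good layer below the top gives a non-trivial
element in the residual `t - 2` of the fixed points.
-/

set_option autoImplicit false

open scoped commutatorElement

namespace CfsgLib.Turull73

open FittingLength

variable {G : Type*} [Group G] [Finite G]

namespace Frame

variable (F : Frame G)

theorem C_le_X : F.C ≤ F.S.X := inf_le_left

theorem nilRes_C_le (i : ℕ) : nilRes F.C i ≤ F.C := nilRes_le _ _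

theorem commutator_s_eq_one {g : G} (hg : g ∈ F.C) : ⁅F.S.s, g⁆ = 1 :=
  commutatorElement_eq_one_iff_mul_comm.2 (F.mem_C.1 hg).2

theorem actQ_of_mem_C {i : ℕ} {e : F.E i} (he : (e : G) ∈ F.C) :
    F.actQ i F.S.s (F.mkQ i e) = F.mkQ i e :=
  F.actQ_eq_self.2 (by rw [F.commutator_s_eq_one he]; exact one_mem _)

theorem actV_of_mem_C {i : ℕ} {e : F.E i} (he : (e : G) ∈ F.C) :
    F.actV i F.S.s (F.mkV i e) = F.mkV i e :=
  F.actV_eq_self.2 (by rw [F.commutator_s_eq_one he]; exact one_mem _)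

theorem exists_C_lift {i : ℕ} {v : F.V i} (hv : F.actV i F.S.s v = v) :
    ∃ c : F.E i, (c : G) ∈ F.C ∧ F.mkV i c = v := by
  obtain ⟨e, rfl⟩ := F.mkV_surjective i v
  obtain ⟨c, hc, hec⟩ := F.exists_mem_C ((F.M_le_E i).trans (F.E_le_X i)) (F.E_le_X i e.2)
    (F.actV_eq_self.1 hv)
  have hcE : c ∈ F.E i := by simpa using (F.E i).mul_mem e.2 (F.M_le_E i hec)
  refine ⟨⟨c, hcE⟩, hc, (QuotientGroup.eq.2 ?_).symm⟩
  exact hec

theorem commutator_mem_E {j : ℕ} (y : G) {c : G} (hc : c ∈ F.E j) : ⁅y, c⁆ ∈ F.E j := by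
  rw [commutatorElement_def]
  exact (F.E j).mul_mem ((F.isLayer j).hEn.conj_mem c hc y) ((F.E j).inv_mem hc)

/-- The commutator with a lift, in `Vᵢ`. -/
theorem actV_mul_inv {j : ℕ} (y : G) (c : F.E j) :
    F.actV j y (F.mkV j c) * (F.mkV j c)⁻¹ =
      F.mkV j ⟨⁅y, (c : G)⁆, F.commutator_mem_E y c.2⟩ := by
  rw [← map_inv]
  show F.mkV j ⟨y * c * y⁻¹, (F.isLayer j).hEn.conj_mem c c.2 y⟩ * F.mkV j c⁻¹ = _
  rw [← map_mul]
  rfl

/-- An element of a residual of `C` acting on a layer of another prime. -/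
theorem exists_res_succ {a i j : ℕ} (hij : F.p i ≠ F.p j) {y : G} (hy : y ∈ nilRes F.C a)
    (hyp : ∃ k, orderOf y = F.p i ^ k) {c : F.E j} (hc : (c : G) ∈ F.C) :
    ∃ z : F.E j, (z : G) ∈ nilRes F.C (a + 1) ∧ (∃ k, orderOf (z : G) = F.p j ^ k) ∧
      F.mkV j z = F.actV j y (F.mkV j c) * (F.mkV j c)⁻¹ := by
  obtain ⟨k, hk⟩ := hyp
  have hyC := F.nilRes_C_le a hy
  have hnorm : y ∈ Subgroup.normalizer ((F.E j ⊓ F.C : Subgroup G) : Set G) :=
    Subgroup.inf_normalizer_le_normalizer_inf ⟨by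
      rw [Subgroup.normalizer_eq_top_iff.2 (inferInstance : (F.E j).Normal)]; trivial,
      Subgroup.le_normalizer hyC⟩
  obtain ⟨z, hz, hzM⟩ := exists_mem_nilRes_succ (L₀ := F.M j) (L := F.E j ⊓ F.C) inf_le_right hy
    hnorm ((coprime_card_map (N := F.M j) (F.p_prime j)
      (fun e he => ((F.isLayer j).qgroup e he).imp fun _ h => F.N_le_M j h)
      (hk ▸ coprime_prime_pow (F.p_prime i) (F.p_prime j) hij)).coprime_dvd_right
        (Subgroup.card_dvd_of_le (Subgroup.map_mono inf_le_left)))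
    (show (c : G) ∈ F.E j ⊓ F.C from ⟨c.2, hc⟩)
  obtain ⟨z', hz', hz'p, hzz'⟩ := F.exists_pPart j hz.2.1
  refine ⟨⟨z', (Subgroup.zpowers_le.2 hz.2.1) hz'⟩, (Subgroup.zpowers_le.2 hz.1) hz', hz'p, ?_⟩
  rw [F.actV_mul_inv]
  refine QuotientGroup.eq.2 ?_
  show z'⁻¹ * ⁅y, (c : G)⁆ ∈ F.M j
  rw [show z'⁻¹ * ⁅y, (c : G)⁆ = (z⁻¹ * z')⁻¹ * (z⁻¹ * ⁅y, (c : G)⁆) by group]
  exact (F.M j).mul_mem ((F.M j).inv_mem (F.N_le_M j hzz')) hzM

/-- The layer `f` is good. -/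
def Good (f : ℕ) : Prop :=
  f < F.S.t ∧ ∃ d : F.E f, (d : G) ∈ nilRes F.C (f - 2) ∧ (∃ k, orderOf (d : G) = F.p f ^ k) ∧
    ∃ c, F.actV (f + 1) F.S.s c = c ∧ ∃ g ∈ comSub (F.actQ f F.S.s),
      F.ρQ f g (F.ρQ f (F.mkQ f d) c * c⁻¹) ≠ F.ρQ f (F.mkQ f d) c * c⁻¹

theorem good_of_not_bad {j : ℕ} (hj : j < F.S.t) {z : F.E j}
    (hz : (z : G) ∈ nilRes F.C (j - 2)) (hzp : ∃ k, orderOf (z : G) = F.p j ^ k) {ω : F.Ω j}
    (hnb : ¬ F.bad ω) (hx : F.mkV j z ∉ F.Kω ω) : F.Good j := by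
  obtain ⟨c, hc, g, hg, hgc⟩ := F.moved_of_not_bad hj hnb (d := F.mkQ j z)
    (F.actQ_of_mem_C (F.nilRes_C_le _ hz)) fun h => hx (F.toV_mem_Kω (q := F.mkQ j z) h)
  exact ⟨hj, z, hz, hzp, c, hc, g, hg, hgc⟩

theorem good_succ {f : ℕ} (h : F.Good f) (hf : f + 1 < F.S.t) : F.Good (f + 1) := by
  obtain ⟨hft, d, hd, hdp, c₀, hc₀, g, hg, hgc⟩ := h
  have hne : F.p f ≠ F.p (f + 1) := F.p_ne hft
  have hV : ∀ v : Additive (F.V (f + 1)), Nat.card (F.Q f) • v = 0 → v = 0 := fun v hv =>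
    congrArg Additive.ofMul (eq_one_of_coprime_pow
      (F.card_Q_coprime ((Nat.coprime_primes (F.p_prime _) (F.p_prime _)).2 hne.symm)).symm
      (k := v.toMul) (congrArg Additive.toMul hv) (F.pow_p _ _))
  obtain ⟨c, hc, ω, hnb, hcK⟩ := (F.stepData hf).main F.S.hr (F.not_r_dvd_Q f) hV (F.stepData_hA hf)
    (d := F.mkQ f d) (F.actQ_of_mem_C (F.nilRes_C_le _ hd)) (c₀ := Additive.ofMul c₀)
    (congrArg Additive.ofMul hc₀) (g := g) hg (fun h => hgc (by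
      have h2 := congrArg Additive.toMul h
      simpa [stepData, toEnd_apply, div_eq_mul_inv] using h2))
  obtain ⟨ĉ, hĉC, hĉ⟩ := F.exists_C_lift (v := c.toMul)
    (congrArg Additive.toMul hc : F.actV (f + 1) F.S.s c.toMul = c.toMul)
  obtain ⟨z, hz, hzp, hzV⟩ := F.exists_res_succ hne hd hdp hĉC
  refine F.good_of_not_bad hf (nilRes_le_of_le _ (by omega) hz) hzp hnb fun hmem => hcK ?_
  show F.actV (f + 1) (d : G) c.toMul / c.toMul ∈ F.Kω ω
  rw [hzV, hĉ] at hmem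
  rwa [div_eq_mul_inv]

theorem ne_bot_of_good_top {f : ℕ} (h : F.Good f) (hf : f + 1 = F.S.t) :
    nilRes F.C (F.S.t - 2) ≠ ⊥ := by
  obtain ⟨-, d, hd, hdp, c, hc, g, -, hgc⟩ := h
  obtain ⟨ĉ, hĉC, rfl⟩ := F.exists_C_lift hc
  obtain ⟨z, hz, -, hzV⟩ := F.exists_res_succ (F.p_ne (by omega)) hd hdp hĉC
  intro hbot
  apply hgc
  have h1 : (z : G) ∈ (⊥ : Subgroup G) := hbot ▸ nilRes_le_of_le _ (by omega) hz
  rw [ρQ_mk, ← hzV, F.mkV_eq_one.2 (by rw [Subgroup.mem_bot.1 h1]; exact one_mem _), map_one]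

theorem ne_bot_of_good {f : ℕ} (h : F.Good f) : nilRes F.C (F.S.t - 2) ≠ ⊥ := by
  obtain ⟨k, hk⟩ := Nat.exists_eq_add_of_lt h.1
  induction k generalizing f with
  | zero => exact F.ne_bot_of_good_top h (by omega)
  | succ k ih => exact ih (F.good_succ h (by omega)) (by omega)

end Frame

end CfsgLib.Turull73
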