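import Cfsg.Agent.Turull73.Lift

/-!
# The pairing of a type on `E / R` and the norm of an automorphism
-/

set_option autoImplicit false

open scoped commutatorElement

namespace CfsgLib.Turull73

namespace IsType

variable {F E : Type*} [Field F] [Group E] {ω : E → F} (hω : IsType ω)

instance quotCommGroup : CommGroup (E ⧸ hω.supp) :=
  { (inferInstance : Group (E ⧸ hω.supp)) with mul_comm := hω.quot_comm }

/-- The pairing on `E / R`. -/
noncomputable def pair (a b : E ⧸ hω.supp) : F := ω ⁅a.out, b.out⁆

variable (hcen : ∀ a b c : E, Commute ⁅a, b⁆ c)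
include hcen

theorem comm_eq_of_mk_eq {x x' : E} (h : (x : E ⧸ hω.supp) = x') (y : E) :
    ω ⁅x, y⁆ = ω ⁅x', y⁆ := by
  have hmem := QuotientGroup.eq.1 h
  rw [show x' = x * (x⁻¹ * x') by group, hω.comm_mul_left hcen, (hω.mem _).1 hmem y, mul_one]

theorem pair_mk (x y : E) : hω.pair (x : E ⧸ hω.supp) (y : E ⧸ hω.supp) = ω ⁅x, y⁆ := by
  have hswap : ∀ a b : E, ω ⁅a, b⁆ = (ω ⁅b, a⁆)⁻¹ := fun a b => by
    rw [← hω.inv (hω.comm b a), commutatorElement_inv]
  rw [pair, hω.comm_eq_of_mk_eq hcen (QuotientGroup.out_eq' _), hswap,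
    hω.comm_eq_of_mk_eq hcen (QuotientGroup.out_eq' _), ← hswap]

theorem pair_mul_left (a b c : E ⧸ hω.supp) :
    hω.pair (a * b) c = hω.pair a c * hω.pair b c := by
  induction a using QuotientGroup.induction_on with | H x => ?_
  induction b using QuotientGroup.induction_on with | H y => ?_
  induction c using QuotientGroup.induction_on with | H z => ?_
  rw [← QuotientGroup.mk_mul, hω.pair_mk hcen, hω.pair_mk hcen, hω.pair_mk hcen,
    hω.comm_mul_left hcen]

theorem pair_mul_right (a b c : E ⧸ hω.supp) :
    hω.pair a (b * c) = hω.pair a b * hω.pair a c := by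
  induction a using QuotientGroup.induction_on with | H x => ?_
  induction b using QuotientGroup.induction_on with | H y => ?_
  induction c using QuotientGroup.induction_on with | H z => ?_
  rw [← QuotientGroup.mk_mul, hω.pair_mk hcen, hω.pair_mk hcen, hω.pair_mk hcen,
    hω.comm_mul_right hcen]

/-- The pairing with a fixed first argument. -/
noncomputable def pairHom (a : E ⧸ hω.supp) : (E ⧸ hω.supp) →* F where
  toFun := hω.pair a
  map_one' := by
    induction a using QuotientGroup.induction_on with | H x => ?_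
    rw [← QuotientGroup.mk_one, hω.pair_mk hcen, commutatorElement_one_right, hω.one]
  map_mul' := hω.pair_mul_right hcen a

/-- The pairing as a homomorphism. -/
noncomputable def pairing : (E ⧸ hω.supp) →* (E ⧸ hω.supp) →* F where
  toFun := hω.pairHom hcen
  map_one' := MonoidHom.ext fun b => by
    induction b using QuotientGroup.induction_on with | H y => ?_
    show hω.pair 1 _ = 1
    rw [← QuotientGroup.mk_one, hω.pair_mk hcen, commutatorElement_one_left, hω.one]
  map_mul' a b := MonoidHom.ext fun c => hω.pair_mul_left hcen a b c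

theorem pairing_apply (a b : E ⧸ hω.supp) : hω.pairing hcen a b = hω.pair a b := rfl

theorem pair_self (a : E ⧸ hω.supp) : hω.pair a a = 1 := by
  induction a using QuotientGroup.induction_on with | H x => ?_
  rw [hω.pair_mk hcen, commutatorElement_self, hω.one]

theorem pair_swap (a b : E ⧸ hω.supp) : hω.pair a b = (hω.pair b a)⁻¹ := by
  induction a using QuotientGroup.induction_on with | H x => ?_
  induction b using QuotientGroup.induction_on with | H y => ?_
  rw [hω.pair_mk hcen, hω.pair_mk hcen, ← hω.inv (hω.comm y x), commutatorElement_inv]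

theorem eq_one_of_pair (a : E ⧸ hω.supp) (h : ∀ b, hω.pair a b = 1) : a = 1 := by
  induction a using QuotientGroup.induction_on with | H x => ?_
  refine (QuotientGroup.eq_one_iff x).2 ((hω.mem x).2 fun y => ?_)
  rw [← hω.pair_mk hcen]
  exact h _

theorem pair_pow_card [Finite E] (a b : E ⧸ hω.supp) : hω.pair a b ^ Nat.card E = 1 := by
  induction a using QuotientGroup.induction_on with | H x => ?_
  induction b using QuotientGroup.induction_on with | H y => ?_
  rw [hω.pair_mk hcen]
  exact hω.pow_card (hω.comm x y)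

theorem pair_quotAut {α : MulAut E} (hα : ∀ g, ω (α g) = ω g) (a b : E ⧸ hω.supp) :
    hω.pair (hω.quotAut α hα a) (hω.quotAut α hα b) = hω.pair a b := by
  induction a using QuotientGroup.induction_on with | H x => ?_
  induction b using QuotientGroup.induction_on with | H y => ?_
  rw [hω.quotAut_mk, hω.quotAut_mk, hω.pair_mk hcen, hω.pair_mk hcen, ← map_commutatorElement, hα]

end IsType

section Norm

variable {B : Type*} [CommGroup B]

/-- The norm of an automorphism. -/
def normHom (v : MulAut B) (l : ℕ) : B →* B where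
  toFun b := ∏ c ∈ Finset.range l, (v ^ c) b
  map_one' := by simp
  map_mul' a b := by rw [← Finset.prod_mul_distrib]; simp

theorem normHom_apply (v : MulAut B) (l : ℕ) (b : B) :
    normHom v l b = ∏ c ∈ Finset.range l, (v ^ c) b := rfl

theorem normHom_map {v : MulAut B} {l : ℕ} (hv : v ^ l = 1) (b : B) :
    normHom v l (v b) = normHom v l b := by
  have h1 := Finset.prod_range_succ' (fun c => (v ^ c) b) l
  have h2 := Finset.prod_range_succ (fun c => (v ^ c) b) l
  rw [h1, hv, pow_zero] at h2
  rw [normHom_apply, normHom_apply, ← mul_right_cancel h2]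
  exact Finset.prod_congr rfl fun c _ => by rw [pow_succ, MulAut.mul_apply]

theorem map_normHom {v : MulAut B} {l : ℕ} (hv : v ^ l = 1) (b : B) :
    v (normHom v l b) = normHom v l b := by
  conv_rhs => rw [← normHom_map hv b]
  rw [normHom_apply, normHom_apply, map_prod]
  exact Finset.prod_congr rfl fun c _ => by
    rw [← MulAut.mul_apply, ← pow_succ', pow_succ, MulAut.mul_apply]

theorem pow_apply_of_fixed {v : MulAut B} {b : B} (hb : v b = b) : ∀ c : ℕ, (v ^ c) b = b
  | 0 => rfl
  | c + 1 => by rw [pow_succ', MulAut.mul_apply, pow_apply_of_fixed hb c, hb]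

theorem normHom_fixed {v : MulAut B} (l : ℕ) {b : B} (hb : v b = b) :
    normHom v l b = b ^ l := by
  rw [normHom_apply, Finset.prod_congr rfl fun c _ => pow_apply_of_fixed hb c, Finset.prod_const,
    Finset.card_range]

theorem mul_inv_mem_ker {v : MulAut B} {l : ℕ} (hv : v ^ l = 1) (b : B) :
    b * (v b)⁻¹ ∈ (normHom v l).ker := by
  rw [MonoidHom.mem_ker, map_mul, map_inv, normHom_map hv, mul_inv_cancel]

theorem mul_pow_inv_mem_ker {v : MulAut B} {l : ℕ} (hv : v ^ l = 1) (b : B) (c : ℕ) :
    b * ((v ^ c) b)⁻¹ ∈ (normHom v l).ker := by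
  have : ∀ c, normHom v l ((v ^ c) b) = normHom v l b := fun c => by
    induction c with
    | zero => rfl
    | succ c ih => rw [pow_succ', MulAut.mul_apply, normHom_map hv, ih]
  rw [MonoidHom.mem_ker, map_mul, map_inv, this, mul_inv_cancel]

end Norm

namespace IsType

variable {F E : Type*} [Field F] [Group E] [Finite E] {ω : E → F} (hω : IsType ω)
  (hcen : ∀ a b c : E, Commute ⁅a, b⁆ c) {α : MulAut E} (hα : ∀ g, ω (α g) = ω g) {l : ℕ}
  (hl : hω.quotAut α hα ^ l = 1) (hlE : l.Coprime (Nat.card E))
include hcen hl hlE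

/-- Fixed points are orthogonal to the kernel of the norm. -/
theorem pair_fixed_ker {g b : E ⧸ hω.supp} (hb : hω.quotAut α hα b = b)
    (hg : g ∈ (normHom (hω.quotAut α hα) l).ker) : hω.pair g b = 1 := by
  set v := hω.quotAut α hα with hv
  have h1 : ∀ c, hω.pair ((v ^ c) g) b = hω.pair g b := fun c => by
    induction c with
    | zero => rfl
    | succ c ih =>
      conv_lhs => rw [← hb, pow_succ', MulAut.mul_apply]
      rw [hω.pair_quotAut hcen hα, ih]
  refine eq_one_of_coprime_pow hlE ?_ (hω.pair_pow_card hcen g b)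
  have h2 : hω.pairing hcen (normHom v l g) b = hω.pair g b ^ l := by
    rw [normHom_apply, map_prod, MonoidHom.finsetProd_apply,
      Finset.prod_congr rfl fun c _ => (hω.pairing_apply hcen _ b).trans (h1 c), Finset.prod_const,
      Finset.card_range]
  rw [← h2, MonoidHom.mem_ker.1 hg, map_one]
  rfl

/-- The pairing is non-degenerate on the kernel of the norm. -/
theorem eq_one_of_pair_ker {g : E ⧸ hω.supp} (hg : g ∈ (normHom (hω.quotAut α hα) l).ker)
    (h : ∀ k ∈ (normHom (hω.quotAut α hα) l).ker, hω.pair g k = 1) : g = 1 := by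
  set v := hω.quotAut α hα with hv
  refine hω.eq_one_of_pair hcen g fun b => ?_
  refine eq_one_of_coprime_pow hlE ?_ (hω.pair_pow_card hcen g b)
  rw [← hω.pair_fixed_ker hcen hα hl hlE (map_normHom hl b) hg, ← hω.pairing_apply hcen,
    ← hω.pairing_apply hcen, normHom_apply, map_prod, ← Finset.card_range l, ← Finset.prod_const,
    Finset.card_range]
  refine Finset.prod_congr rfl fun c _ => ?_
  calc hω.pairing hcen g b = hω.pairing hcen g (b * ((v ^ c) b)⁻¹ * (v ^ c) b) := by
        rw [inv_mul_cancel_right]
    _ = hω.pair g (b * ((v ^ c) b)⁻¹) * hω.pairing hcen g ((v ^ c) b) := by rw [map_mul]; rfl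
    _ = hω.pairing hcen g ((v ^ c) b) := by rw [h _ (mul_pow_inv_mem_ker hl b c), one_mul]

end IsType

end CfsgLib.Turull73
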