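import Cfsg.Agent.Turull73.Inversion
import Cfsg.Agent.Turull73.NormKernel

/-!
# The exceptional types

If a fixed type `ω` of a `q`-group has no fixed vector or `σ` is trivial on `E / R`, then a group
`A = [A,σ]` of coprime order acting on `E / R` compatibly with the pairing acts trivially.
-/

set_option autoImplicit false

open scoped commutatorElement

namespace CfsgLib.Turull73

section Dual

variable {K V : Type*} [Field K] [AddCommGroup V] {p : ℕ} [Fact p.Prime] [CharP K p]

/-- The additive maps into a field of characteristic `p` separate the points of an elementary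
abelian `p`-group. -/
theorem exists_addHom_ne_zero (hV : ∀ v : V, p • v = 0) {v : V} (hv : v ≠ 0) :
    ∃ φ : V →+ K, φ v ≠ 0 := by
  letI := AddCommGroup.zmodModule (n := p) (G := V) hV
  letI := ZMod.algebra K p
  obtain ⟨f, hf⟩ := Module.Projective.exists_dual_ne_zero (ZMod p) hv
  refine ⟨(algebraMap (ZMod p) K).toAddMonoidHom.comp f.toAddMonoidHom, ?_⟩
  show algebraMap (ZMod p) K (f v) ≠ 0
  exact (map_ne_zero _).2 hf

/-- `|V| = p ^ dim Hom(V, K)`. -/
theorem card_eq_pow_finrank_addHom [Finite V] (hV : ∀ v : V, p • v = 0) :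
    Nat.card V = p ^ Module.finrank K (V →+ K) := by
  letI := AddCommGroup.zmodModule (n := p) (G := V) hV
  letI := ZMod.algebra K p
  have := Module.Finite.of_finite (R := ZMod p) (M := V)
  let e : (V →ₗ[ZMod p] K) ≃ₗ[K] (V →+ K) :=
    { toFun := LinearMap.toAddMonoidHom
      invFun := fun f => f.toZModLinearMap p
      map_add' := fun _ _ => rfl
      map_smul' := fun _ _ => rfl
      left_inv := fun _ => rfl
      right_inv := fun _ => rfl }
  rw [← e.finrank_eq, Module.finrank_linearMap, Module.finrank_self, mul_one,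
    Module.natCard_eq_pow_finrank (K := ZMod p) (V := V), Nat.card_zmod]

instance finite_addHom [Finite V] : FiniteDimensional K (V →+ K) := by
  let f : (V →+ K) →ₗ[K] (V → K) :=
    { toFun := fun φ v => φ v
      map_add' := fun _ _ => rfl
      map_smul' := fun _ _ => rfl }
  exact Module.Finite.of_injective f fun a b h => AddMonoidHom.ext fun v => congrFun h v

end Dual

section Action

variable {K B A : Type*} [Field K] [CommGroup B] [Group A]

/-- The dual of an action on an abelian group. -/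
noncomputable def dualRep (β : A →* MulAut B) : A →* Module.End K (Additive B →+ K) where
  toFun a :=
    { toFun := fun φ => φ.comp (β a⁻¹).toMonoidHom.toAdditive
      map_add' := fun _ _ => rfl
      map_smul' := fun _ _ => rfl }
  map_one' := LinearMap.ext fun φ => AddMonoidHom.ext fun v => by simp
  map_mul' a b := LinearMap.ext fun φ => AddMonoidHom.ext fun v => by simp

theorem dualRep_apply (β : A →* MulAut B) (a : A) (φ : Additive B →+ K) (b : B) :
    dualRep β a φ (Additive.ofMul b) = φ (Additive.ofMul (β a⁻¹ b)) := rfl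

theorem dualRep_eq_one [Finite B] {p : ℕ} [Fact p.Prime] [CharP K p] (hB : ∀ b : B, b ^ p = 1)
    {β : A →* MulAut B} {a : A} (h : dualRep (K := K) β a = 1) : β a = 1 := by
  have hinv : β a⁻¹ = 1 := by
    refine MulEquiv.ext fun b => ?_
    by_contra hb
    obtain ⟨φ, hφ⟩ := exists_addHom_ne_zero (K := K) (p := p) (V := Additive B)
      (fun v => hB v.toMul) (v := Additive.ofMul (β a⁻¹ b) - Additive.ofMul b) (by
        rw [sub_ne_zero]; exact fun h' => hb (Additive.ofMul.injective h'))
    apply hφ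
    rw [map_sub, ← dualRep_apply, h]
    exact sub_self _
  rw [← inv_inv a, map_inv, hinv, inv_one]

end Action

/-- Two orbits of independent vectors bound the rank of `T - 1` from below. -/
theorem two_mul_le_finrank_range_sub_one {K W' : Type*} [Field K] [AddCommGroup W'] [Module K W']
    [FiniteDimensional K W'] {r : ℕ} (hr0 : 0 < r) (T : Module.End K W')
    (v : Fin r ⊕ Fin r → W') (hv : LinearIndependent K v)
    (hl : ∀ j : Fin r, v (.inl j) = (T ^ (j : ℕ)) (v (.inl ⟨0, hr0⟩)))
    (hr' : ∀ j : Fin r, v (.inr j) = (T ^ (j : ℕ)) (v (.inr ⟨0, hr0⟩))) :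
    2 * (r - 1) ≤ Module.finrank K (LinearMap.range (T - 1)) := by
  classical
  let z : Fin r := ⟨0, hr0⟩
  have htel : ∀ (j : ℕ) (w : W'), (T ^ j) w - w ∈ LinearMap.range (T - 1) := fun j w => by
    induction j with
    | zero => simp
    | succ j ih =>
      have h2 : (T ^ (j + 1)) w - w = (T - 1) ((T ^ j) w) + ((T ^ j) w - w) := by
        rw [pow_succ', Module.End.mul_apply, LinearMap.sub_apply, Module.End.one_apply]
        abel
      rw [h2]
      exact Submodule.add_mem _ (LinearMap.mem_range_self _ _) ih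
  let ι := {j : Fin r // j ≠ z} ⊕ {j : Fin r // j ≠ z}
  let u : ι → LinearMap.range (T - 1) := Sum.elim
    (fun j => ⟨v (.inl j.1) - v (.inl z), by rw [hl j.1]; exact htel _ _⟩)
    (fun j => ⟨v (.inr j.1) - v (.inr z), by rw [hr' j.1]; exact htel _ _⟩)
  have hu : LinearIndependent K u := by
    refine Fintype.linearIndependent_iff.2 fun c hc => ?_
    let C : Fin r ⊕ Fin r → K := Sum.elim
      (fun j => if h : j = z then -∑ i, c (.inl i) else c (.inl ⟨j, h⟩))
      (fun j => if h : j = z then -∑ i, c (.inr i) else c (.inr ⟨j, h⟩))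
    have hsum : ∀ (c' : {j : Fin r // j ≠ z} → K) (v' : Fin r → W'),
        (∑ j, (if h : j = z then -∑ i, c' i else c' ⟨j, h⟩) • v' j) =
          ∑ i, c' i • (v' i.1 - v' z) := by
      intro c' v'
      rw [← Fintype.sum_subtype_add_sum_subtype (fun j => j ≠ z)]
      have h1 : (∑ i : {j : Fin r // j ≠ z},
          (if h : (i : Fin r) = z then -∑ i, c' i else c' ⟨i, h⟩) • v' i) =
          ∑ i : {j : Fin r // j ≠ z}, c' i • v' i.1 :=
        Finset.sum_congr rfl fun i _ => by rw [dif_neg i.2]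
      have h2 : (∑ i : {j : Fin r // ¬ j ≠ z},
          (if h : (i : Fin r) = z then -∑ i, c' i else c' ⟨i, h⟩) • v' i) =
          (-∑ i, c' i) • v' z := by
        rw [Fintype.sum_eq_single (⟨z, by simp⟩ : {j : Fin r // ¬ j ≠ z})
          fun i hi => absurd (Subtype.ext (not_not.1 i.2)) hi, dif_pos rfl]
      rw [h1, h2]
      rw [neg_smul, Finset.sum_smul, ← sub_eq_add_neg, ← Finset.sum_sub_distrib]
      simp only [smul_sub]
    have hzero : ∑ x, C x • v x = 0 := by
      rw [Fintype.sum_sum_type]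
      simp only [C, Sum.elim_inl, Sum.elim_inr]
      rw [hsum, hsum]
      have hc' := congrArg Subtype.val hc
      rw [Fintype.sum_sum_type] at hc'
      simpa [u] using hc'
    have hC0 := Fintype.linearIndependent_iff.1 hv C hzero
    rintro (i | i)
    · simpa [C, dif_neg i.2] using hC0 (.inl i.1)
    · simpa [C, dif_neg i.2] using hC0 (.inr i.1)
  have h := hu.fintype_card_le_finrank
  rw [Fintype.card_sum, Fintype.card_subtype_compl, Fintype.card_fin,
    Fintype.card_subtype_eq] at h
  omega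

theorem finrank_range_restrict_sub_one_le {K W' : Type*} [Field K] [AddCommGroup W'] [Module K W']
    [FiniteDimensional K W'] (T : Module.End K W') (U : Submodule K W')
    (hTU : ∀ w ∈ U, T w ∈ U) :
    Module.finrank K (LinearMap.range ((T.restrict hTU : Module.End K U) - (1 : Module.End K U))) ≤
      Module.finrank K (LinearMap.range (T - 1)) := by
  set R : Module.End K U := (T.restrict hTU : Module.End K U) - (1 : Module.End K U) with hR
  let f : LinearMap.range R →ₗ[K] LinearMap.range (T - 1) :=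
    (U.subtype ∘ₗ (LinearMap.range R).subtype).codRestrict _ (by
      rintro ⟨_, m, rfl⟩
      exact ⟨m.1, rfl⟩)
  exact LinearMap.finrank_le_finrank_of_injective (f := f) fun x y h => by
    have h2 : ((x.1 : U) : W') = ((y.1 : U) : W') :=
      congrArg (fun z : LinearMap.range (T - 1) => (z : W')) h
    exact Subtype.ext (Subtype.ext h2)

section Exceptional

variable {F E W A : Type*} [Field F] [IsAlgClosed F] [AddCommGroup W] [Module F W]
  [FiniteDimensional F W] [Group E] [Finite E] [Group A] [Finite A]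

set_option maxHeartbeats 1000000 in
theorem eq_one_of_bad {r : ℕ} (hr : r.Prime) {ω : E → F} (hω : IsType ω)
    (hcenE : ∀ a b c : E, Commute ⁅a, b⁆ c) (hEF : (Nat.card E : F) ≠ 0) (hrF : (r : F) ≠ 0)
    (hrE : ¬ r ∣ Nat.card E) {q : ℕ} (hq : q.Prime) (hEq : IsPGroup q E)
    (hEexp : ∀ g : E, ω (g ^ q) ≠ 0)
    {σ : MulAut E} (hσ : σ ^ r = 1) (hσω : ∀ g, ω (σ g) = ω g)
    {ρ : E →* Module.End F W} {s : Module.End F W} (hsr : s ^ r = 1)
    (hs : ∀ g w, s (ρ g w) = ρ (σ g) (s w)) (hne : typeSpace ρ ω ≠ ⊥)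
    (hbad : (∀ g, ω (g⁻¹ * σ g) ≠ 0) ∨ ∀ w ∈ typeSpace ρ ω, s w = w → w = 0)
    (hcenA : ∀ a b c : A, Commute ⁅a, b⁆ c) {σA : MulAut A} (hσA : σA ^ r = 1)
    (hrA : ¬ r ∣ Nat.card A) (hqA : ¬ q ∣ Nat.card A) (hA : comSub σA = ⊤)
    (β : A →* MulAut (E ⧸ hω.supp)) (hβ : ∀ a x y, hω.pair (β a x) (β a y) = hω.pair x y)
    (hβσ : ∀ a b, hω.quotAut σ hσω (β a b) = β (σA a) (hω.quotAut σ hσω b)) :
    β = 1 := by
  classical
  have := Fintype.ofFinite E
  set π := hω.quotAut σ hσω with hπdef
  have hπr : π ^ r = 1 := hω.quotAut_pow_eq_one σ hσω hσ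
  by_cases htriv : ∀ g, ω (g⁻¹ * σ g) ≠ 0
  · -- `σ` acts trivially on `E / R`
    have hπ1 : ∀ b, π b = b := by
      intro b
      induction b using QuotientGroup.induction_on with | H g => ?_
      exact ((QuotientGroup.eq (s := hω.supp)).2 (htriv g)).symm
    have hle : comSub σA ≤ β.ker := comSub_le fun a => by
      rw [MonoidHom.mem_ker, map_mul, map_inv, inv_mul_eq_one]
      refine MulEquiv.ext fun b => ?_
      have := hβσ a b
      rwa [hπ1, hπ1] at this
    rw [hA] at hle
    exact MonoidHom.ext fun a => hle (Subgroup.mem_top a)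
  have hC := hbad.resolve_left htriv
  have hrcop : r.Coprime (Nat.card E) := hr.coprime_iff_not_dvd.2 hrE
  have hrB : r.Coprime (Nat.card (E ⧸ hω.supp)) :=
    hrcop.coprime_dvd_right (Subgroup.card_quotient_dvd_card _)
  -- the restriction to the kernel of the norm
  set Nm := normHom π r with hNm
  let H : Subgroup E := Nm.ker.comap (QuotientGroup.mk' hω.supp)
  have hHσ : ∀ g ∈ H, σ g ∈ H := fun g hg => by
    show Nm (π (g : E ⧸ hω.supp)) = 1
    rw [hNm, normHom_map hπr]
    exact hg
  have hnd : ∀ g ∈ H, (∀ h ∈ H, ω ⁅g, h⁆ = 1) → ω g ≠ 0 := fun g hg hperp =>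
    (QuotientGroup.eq_one_iff g).1 (hω.eq_one_of_pair_ker hcenE hσω hπr hrcop hg fun k hk => by
      induction k using QuotientGroup.induction_on with | H y => ?_
      rw [hω.pair_mk hcenE]
      exact hperp y hk)
  have hfpfH : ∀ g ∈ H, ω (g⁻¹ * σ g) ≠ 0 → ω g ≠ 0 := fun g hg h => by
    refine (QuotientGroup.eq_one_iff (N := hω.supp) g).1 ?_
    have hfix : π (g : E ⧸ hω.supp) = (g : E ⧸ hω.supp) := (QuotientGroup.eq.2 h).symm
    have h2 := normHom_fixed r hfix
    rw [show normHom π r (g : E ⧸ hω.supp) = 1 from hg] at h2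
    exact eq_one_of_coprime_pow hrB h2.symm pow_card_eq_one'
  let D : FixedType H F r :=
    { ω := fun g => ω g
      σ := restrictAut H σ hHσ
      isType := hω.restrict H hnd
      hcen := fun a b c => Subtype.ext (hcenE a b c).eq
      hE := card_supp_ne hEF H
      hr := hr
      hrE := fun h => hrE (h.trans (Subgroup.card_subgroup_dvd_card H))
      hrF := hrF
      hσ := MulEquiv.ext fun g => Subtype.ext (by rw [restrictAut_pow, hσ]; rfl)
      hσω := fun g => hσω g
      fpf := fun g hg => hfpfH g g.2 hg }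
  let T := typeSpace ρ ω
  have : Nontrivial T := Submodule.nontrivial_iff_ne_bot.2 hne
  let ρT : H →* Module.End F T :=
    { toFun := fun g => (ρ g).restrict fun w hw => map_mem_typeSpace hω hw _
      map_one' := LinearMap.ext fun x => Subtype.ext (by simp)
      map_mul' := fun a b => LinearMap.ext fun x => Subtype.ext (by simp [ρ_mul_apply]) }
  have hρT : IsRepOf ρT D.ω := fun g hg => LinearMap.ext fun x => Subtype.ext (mem_typeSpace.1 x.2 g hg)
  have hsT : ∀ w ∈ T, s w ∈ T := fun w hw => by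
    have h := map_mem_typeSpace_comp σ s hs hw
    rwa [show (fun g => ω (σ.symm g)) = ω from funext fun g => by
      conv_rhs => rw [← σ.apply_symm_apply g]
      rw [hσω]] at h
  have hsT' : (s.restrict hsT) ^ r = 1 := LinearMap.ext fun x => Subtype.ext (by
    rw [Module.End.pow_restrict r]
    show (s ^ r) x.1 = _
    rw [hsr]; rfl)
  let ψ : H →* Nm.ker := ((QuotientGroup.mk' hω.supp).comp H.subtype).codRestrict Nm.ker
    fun g => g.2
  have hcard : Nat.card (H ⧸ D.isType.supp) = Nat.card Nm.ker := by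
    have hsurj : Function.Surjective ψ := by
      rintro ⟨b, hb⟩
      obtain ⟨g, rfl⟩ := QuotientGroup.mk'_surjective hω.supp b
      exact ⟨⟨g, hb⟩, Subtype.ext rfl⟩
    have hk : ψ.ker = D.isType.supp := by
      ext g
      rw [MonoidHom.mem_ker, ← Subtype.coe_inj]
      exact QuotientGroup.eq_one_iff (g : E)
    rw [← hk]
    exact Nat.card_congr (QuotientGroup.quotientKerEquivOfSurjective ψ hsurj).toEquiv
  obtain ⟨g₀, hg₀⟩ : ∃ g, ω (g⁻¹ * σ g) = 0 := by
    push Not at htriv; exact htriv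
  have hKne : Nat.card Nm.ker ≠ 1 := by
    intro h1
    have hsub := (Nat.card_eq_one_iff_unique.1 h1).1
    have h2 := mul_inv_mem_ker hπr (g₀ : E ⧸ hω.supp)
    have h3 : (g₀ : E ⧸ hω.supp) * (π (g₀ : E ⧸ hω.supp))⁻¹ = 1 :=
      congrArg Subtype.val (hsub.elim (⟨_, h2⟩ : Nm.ker) 1)
    exact (QuotientGroup.eq (s := hω.supp)).1 (mul_inv_eq_one.1 h3) hg₀
  have hK : Nat.card Nm.ker = (r - 1) ^ 2 := by
    rw [← hcard]
    refine D.card_quot_of_no_fixed hρT hsT' (fun g w => Subtype.ext (hs g w)) (hcard ▸ hKne)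
      fun w hw => Subtype.ext (hC w w.2 (congrArg Subtype.val hw))
  -- `q = 2`
  have := Fact.mk hq
  obtain ⟨k, hk⟩ := IsPGroup.iff_card.1 ((hEq.to_quotient hω.supp).to_subgroup Nm.ker)
  have hr2 : r ≠ 2 := by
    intro h
    rw [h] at hK
    exact hKne hK
  have hq2 : q = 2 := by
    have h2 : 2 ∣ Nat.card Nm.ker := by
      rw [hK, sq]
      obtain ⟨j, hj⟩ := hr.odd_of_ne_two hr2
      exact (show 2 ∣ r - 1 from ⟨j, by omega⟩).mul_right _
    rw [hk] at h2
    exact ((Nat.prime_dvd_prime_iff_eq Nat.prime_two hq).1 (Nat.prime_two.dvd_of_dvd_pow h2)).symm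
  subst hq2
  have hBexp : ∀ b : E ⧸ hω.supp, b ^ 2 = 1 := fun b => by
    induction b using QuotientGroup.induction_on with | H g => ?_
    rw [← QuotientGroup.mk_pow, QuotientGroup.eq_one_iff]
    exact hEexp g
  let K := AlgebraicClosure (ZMod 2)
  have hA2 : (Nat.card A : K) ≠ 0 := fun h => hqA ((CharP.cast_eq_zero_iff K 2 _).1 h)
  have hr2K : (r : K) ≠ 0 := fun h => hr2
    ((Nat.prime_dvd_prime_iff_eq Nat.prime_two hr).1 ((CharP.cast_eq_zero_iff K 2 _).1 h)).symm
  let Wd := Additive (E ⧸ hω.supp) →+ K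
  let s' : Module.End K Wd :=
    { toFun := fun φ => φ.comp π.symm.toMonoidHom.toAdditive
      map_add' := fun _ _ => rfl
      map_smul' := fun _ _ => rfl }
  let ρA : A →* Module.End K Wd := dualRep β
  have hs'apply : ∀ (φ : Wd) b, s' φ (Additive.ofMul b) = φ (Additive.ofMul (π.symm b)) :=
    fun _ _ => rfl
  have hext : ∀ φ ψ' : Wd, (∀ b : E ⧸ hω.supp, φ (Additive.ofMul b) = ψ' (Additive.ofMul b)) →
      φ = ψ' := fun φ ψ' h => AddMonoidHom.ext fun v => h v.toMul
  have hs' : ∀ a w, s' (ρA a w) = ρA (σA a) (s' w) := fun a φ => hext _ _ fun b => by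
    rw [hs'apply, dualRep_apply, dualRep_apply, hs'apply]
    congr 2
    apply π.injective
    rw [π.apply_symm_apply, hβσ, π.apply_symm_apply, map_inv]
  have hs'pow : ∀ (n : ℕ) (φ : Wd) b, (s' ^ n) φ (Additive.ofMul b) =
      φ (Additive.ofMul ((π⁻¹ ^ n) b)) := by
    intro n
    induction n with
    | zero => intro φ b; rfl
    | succ n ih => intro φ b; rw [pow_succ, Module.End.mul_apply, ih, hs'apply, pow_succ']; rfl
  have hs'r : s' ^ r = 1 := LinearMap.ext fun φ => hext _ _ fun b => by
    rw [hs'pow, inv_pow, hπr, inv_one]; rfl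
  -- the rank of `s' - 1`
  have hrank : Module.finrank K (LinearMap.range (s' - 1)) ≤ r - 1 := by
    let res : Wd →ₗ[K] (Additive Nm.ker →+ K) :=
      { toFun := fun φ => φ.comp Nm.ker.subtype.toAdditive
        map_add' := fun _ _ => rfl
        map_smul' := fun _ _ => rfl }
    let diff : (E ⧸ hω.supp) →* Nm.ker :=
      { toFun := fun b => ⟨π.symm b * b⁻¹, by
          have h1 := mul_inv_mem_ker hπr (π.symm b)
          rwa [π.apply_symm_apply] at h1⟩
        map_one' := Subtype.ext (by simp)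
        map_mul' := fun a b => Subtype.ext (by
          show π.symm (a * b) * (a * b)⁻¹ = π.symm a * a⁻¹ * (π.symm b * b⁻¹)
          rw [map_mul, mul_inv, mul_mul_mul_comm]) }
    let ext' : (Additive Nm.ker →+ K) →ₗ[K] Wd :=
      { toFun := fun φ => φ.comp diff.toAdditive
        map_add' := fun _ _ => rfl
        map_smul' := fun _ _ => rfl }
    have hfac : s' - 1 = ext' ∘ₗ res := LinearMap.ext fun φ => hext _ _ fun b => by
      show s' φ (Additive.ofMul b) - φ (Additive.ofMul b) = φ (Additive.ofMul (π.symm b * b⁻¹))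
      rw [hs'apply, ofMul_mul, ofMul_inv, map_add, map_neg, sub_eq_add_neg]
    rw [hfac]
    refine (Submodule.finrank_mono (LinearMap.range_comp_le_range res ext')).trans
      ((LinearMap.finrank_range_le ext').trans ?_)
    set m := Module.finrank K (Additive Nm.ker →+ K)
    have hm : Nat.card Nm.ker = 2 ^ m := card_eq_pow_finrank_addHom (K := K) (p := 2)
      (V := Additive Nm.ker) fun v => Subtype.ext (hBexp v.toMul.1)
    rw [hK] at hm
    obtain ⟨c, -, hc⟩ := (Nat.dvd_prime_pow Nat.prime_two).1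
      (show r - 1 ∣ 2 ^ m from hm ▸ dvd_pow_self (r - 1) two_ne_zero)
    rw [hc, ← pow_mul] at hm
    have hmc : c * 2 = m := Nat.pow_right_injective le_rfl hm
    rw [hc, ← hmc]
    rcases c with _ | c
    · simp
    · have := Nat.lt_two_pow_self (n := c)
      rw [pow_succ]; omega
  have hrlt : r - 1 < r := Nat.sub_lt hr.pos one_pos
  have := Fintype.ofFinite A
  by_contra hβ1
  -- a non-trivial type of `A`
  obtain ⟨a₀, ha₀⟩ : ∃ a, ρA a ≠ 1 := by
    by_contra! h
    exact hβ1 (MonoidHom.ext fun a => dualRep_eq_one (K := K) (p := 2) hBexp (h a))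
  obtain ⟨τ, hτ, hτne, hτa⟩ := exists_isType_ne_one hcenA hA2 ha₀
  -- no non-trivial type is fixed
  have hmoved : ∀ τ' : A → K, IsType τ' → typeSpace ρA τ' ≠ ⊥ → (∀ a, τ' (σA a) = τ' a) →
      ∀ a, τ' a = 1 := by
    intro τ' hτ' hne' hfix
    have hfpf : ∀ g, τ' (g⁻¹ * σA g) ≠ 0 → τ' g ≠ 0 := by
      intro g hg
      rw [hτ'.mem]
      intro h
      have hle : comSub σA ≤ ((hτ'.pairing hcenA (g : A ⧸ hτ'.supp)).comp
          (QuotientGroup.mk' hτ'.supp)).ker := comSub_le fun x => by
        show hτ'.pair (g : A ⧸ hτ'.supp) ((x⁻¹ * σA x : A) : A ⧸ hτ'.supp) = 1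
        have h1 : (g : A ⧸ hτ'.supp) = ((σA g : A) : A ⧸ hτ'.supp) := QuotientGroup.eq.2 hg
        rw [hτ'.pair_mk hcenA, hτ'.comm_mul_right hcenA, hτ'.comm_eq_of_mk_eq hcenA h1 (σA x),
          ← map_commutatorElement, hfix, ← hτ'.comm_mul_right hcenA, inv_mul_cancel,
          commutatorElement_one_right, hτ'.one]
      rw [hA] at hle
      have := hle (Subgroup.mem_top h)
      rwa [MonoidHom.mem_ker, MonoidHom.comp_apply, IsType.pairing_apply,
        QuotientGroup.mk'_apply, hτ'.pair_mk hcenA] at this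
    let D' : FixedType A K r :=
      { ω := τ', σ := σA, isType := hτ', hcen := hcenA, hE := hA2, hr := hr, hrE := hrA
        hrF := hr2K, hσ := hσA, hσω := hfix, fpf := hfpf }
    by_cases hB' : Nat.card (A ⧸ hτ'.supp) = 1
    · have hsub := (Nat.card_eq_one_iff_unique.1 hB').1
      have hall : ∀ a, τ' a ≠ 0 := fun a =>
        (QuotientGroup.eq_one_iff a).1 (hsub.elim (a : A ⧸ hτ'.supp) 1)
      have hle : comSub σA ≤ ({
          carrier := {a | τ' a = 1}
          one_mem' := hτ'.one
          mul_mem' := fun {a b} ha hb => by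
            simp only [Set.mem_ofPred_eq] at *
            rw [hτ'.mul a b (hall a), ha, hb, mul_one]
          inv_mem' := fun {a} ha => by
            simp only [Set.mem_ofPred_eq] at *
            rw [hτ'.inv (hall a), ha, inv_one] } : Subgroup A) := comSub_le fun x => by
        show τ' (x⁻¹ * σA x) = 1
        rw [hτ'.mul _ _ (hall _), hτ'.inv (hall x), hfix, inv_mul_cancel₀ (hall x)]
      rw [hA] at hle
      exact fun a => hle (Subgroup.mem_top a)
    · exfalso
      let U := typeSpace ρA τ'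
      have : Nontrivial U := Submodule.nontrivial_iff_ne_bot.2 hne'
      let ρU : A →* Module.End K U :=
        { toFun := fun g => (ρA g).restrict fun w hw => map_mem_typeSpace hτ' hw _
          map_one' := LinearMap.ext fun x => Subtype.ext (by simp)
          map_mul' := fun a b => LinearMap.ext fun x => Subtype.ext (by simp [ρ_mul_apply]) }
      have hρU : IsRepOf ρU D'.ω := fun g hg => LinearMap.ext fun x => Subtype.ext (mem_typeSpace.1 x.2 g hg)
      have hsU : ∀ w ∈ U, s' w ∈ U := fun w hw => by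
        have h := map_mem_typeSpace_comp σA s' hs' hw
        rwa [show (fun g => τ' (σA.symm g)) = τ' from funext fun g => by
          conv_rhs => rw [← σA.apply_symm_apply g]
          rw [hfix]] at h
      have hodd : Odd (Nat.card (A ⧸ hτ'.supp)) :=
        Odd.of_dvd_nat (Nat.odd_iff.2 (Nat.two_dvd_ne_zero.1 hqA))
          (Subgroup.card_quotient_dvd_card _)
      let sU : Module.End K U := s'.restrict hsU
      have hle := D'.le_finrank_range_sub_one hρU (s := sU)
        (LinearMap.ext fun x => Subtype.ext (by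
          rw [Module.End.pow_restrict r]; show (s' ^ r) x.1 = _; rw [hs'r]; rfl))
        (fun g w => Subtype.ext (hs' g w)) hB' hodd hr2
      exact absurd ((hle.trans (finrank_range_restrict_sub_one_le s' U hsU)).trans hrank)
        (by omega)
  have hτmov : ¬ ∀ a, τ (σA a) = τ a := fun h => hτa (hmoved τ hτ hτne h a₀)
  -- the types in the orbit of `τ`
  let tj : ℕ → A → K := fun j a => τ ((σA ^ j).symm a)
  have htj : ∀ j, IsType (tj j) := fun j => hτ.comp (σA ^ j).symm
  have htjS : ∀ j, ∀ w ∈ typeSpace ρA τ, (s' ^ j) w ∈ typeSpace ρA (tj j) := fun j w hw =>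
    map_mem_typeSpace_comp (σA ^ j) (s' ^ j) (pow_comm σA s' hs' j) hw
  have hperiod : ∀ τ' : A → K, ∀ j, j < r → j ≠ 0 → (∀ a, τ' ((σA ^ j) a) = τ' a) →
      ∀ a, τ' (σA a) = τ' a := by
    intro τ' j hj hj0 h
    have hmul : ∀ m a, τ' ((σA ^ (j * m)) a) = τ' a := by
      intro m
      induction m with
      | zero => simp
      | succ m ih => intro a; rw [Nat.mul_succ, pow_add, MulAut.mul_apply, ih, h]
    obtain ⟨m, -, hm⟩ := Nat.exists_mul_mod_eq_one_of_coprime
      (hr.coprime_iff_not_dvd.2 (Nat.not_dvd_of_pos_of_lt (Nat.pos_of_ne_zero hj0) hj)).symm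
      hr.one_lt
    intro a
    have h1 := hmul m a
    rw [← Nat.mod_add_div (j * m) r, hm, pow_add, pow_mul, hσA, one_pow, mul_one, pow_one] at h1
    exact h1
  have htjne : ∀ i j : Fin r, i ≠ j → tj i ≠ tj j := by
    intro i j hij heq
    wlog hlt : (i : ℕ) < j generalizing i j
    · exact this j i (Ne.symm hij) heq.symm
        (lt_of_le_of_ne (not_lt.1 hlt) fun h => hij (Fin.ext h.symm))
    refine hτmov (hperiod τ ((j : ℕ) - i) (by omega) (by omega) fun a => ?_)
    have h1 := congrFun heq ((σA ^ (j : ℕ)) a)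
    simp only [tj, MulEquiv.symm_apply_apply] at h1
    rw [← h1]
    congr 1
    apply (σA ^ (i : ℕ)).injective
    rw [MulEquiv.apply_symm_apply, ← MulAut.mul_apply, ← pow_add,
      Nat.add_sub_cancel' (Nat.le_of_lt hlt)]
  -- no room for two orbits of vectors
  have hr3 : 3 ≤ r := by have := hr.two_le; omega
  have hsmall : ∀ (v : Fin r ⊕ Fin r → Wd), LinearIndependent K v →
      (∀ j : Fin r, v (.inl j) = (s' ^ (j : ℕ)) (v (.inl ⟨0, hr.pos⟩))) →
      (∀ j : Fin r, v (.inr j) = (s' ^ (j : ℕ)) (v (.inr ⟨0, hr.pos⟩))) → False := by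
    intro v hv hl hr'
    have h := two_mul_le_finrank_range_sub_one hr.pos s' v hv hl hr'
    omega
  -- independence
  have hcardne : ∀ (τ' : A → K) (hτ' : IsType τ'), (Nat.card hτ'.supp : K) ≠ 0 :=
    fun τ' hτ' => card_supp_ne hA2 _
  obtain ⟨w₀, hw₀, hw₀0⟩ := Submodule.exists_mem_ne_zero_of_ne_bot hτne
  have hinjpow : ∀ j, Function.Injective (s' ^ j : Module.End K Wd) := fun j =>
    ((Module.End.isUnit_iff _).1 ((IsUnit.of_pow_eq_one hs'r hr.ne_zero).pow j)).1
  have hprojorbit : ∀ (i : Fin r) (f : Fin r → K) (v : Wd), v ∈ typeSpace ρA τ →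
      proj ρA (tj i) (∑ j : Fin r, f j • (s' ^ (j : ℕ)) v) =
        (f i * (Nat.card (htj i).supp : K)) • (s' ^ (i : ℕ)) v := by
    intro i f v hv
    rw [map_sum, Fintype.sum_eq_single i fun j hj => ?_]
    · rw [map_smul, proj_of_mem (htj i) (htjS i v hv), smul_smul]
    · rw [map_smul, proj_eq_zero (htj i) (htj j) (htjne i j (Ne.symm hj)) (htjS j v hv), smul_zero]
  have hone : ∀ v ∈ typeSpace ρA τ, ∃ k : K, v = k • w₀ := by
    intro v hv
    by_contra hvne
    refine hsmall (Sum.elim (fun j => (s' ^ (j : ℕ)) w₀) fun j => (s' ^ (j : ℕ)) v) ?_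
      (fun j => by simp) (fun j => by simp)
    rw [Fintype.linearIndependent_iff]
    intro c hc
    rw [Fintype.sum_sum_type] at hc
    simp only [Sum.elim_inl, Sum.elim_inr] at hc
    have key : ∀ i : Fin r, c (.inl i) = 0 ∧ c (.inr i) = 0 := by
      intro i
      have h := congrArg (proj ρA (tj i)) hc
      rw [map_add, map_zero, hprojorbit i (fun j => c (.inl j)) w₀ hw₀,
        hprojorbit i (fun j => c (.inr j)) v hv, mul_comm (c (.inl i)), mul_comm (c (.inr i)),
        mul_smul, mul_smul, ← smul_add, smul_eq_zero] at h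
      replace h := h.resolve_left (hcardne _ (htj i))
      rw [← map_smul, ← map_smul, ← map_add, ← map_zero (s' ^ (i : ℕ) : Module.End K Wd)] at h
      replace h := hinjpow i h
      by_cases hc2 : c (.inr i) = 0
      · rw [hc2, zero_smul, add_zero] at h
        exact ⟨(smul_eq_zero.1 h).resolve_right hw₀0, hc2⟩
      · exfalso
        apply hvne
        refine ⟨-((c (.inr i))⁻¹ * c (.inl i)), ?_⟩
        rw [neg_smul, mul_smul, ← smul_neg, ← eq_neg_of_add_eq_zero_right h, smul_smul,
          inv_mul_cancel₀ hc2, one_smul]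
    rintro (i | i)
    exacts [(key i).1, (key i).2]
  have horbit : ∀ τ' : A → K, IsType τ' → typeSpace ρA τ' ≠ ⊥ → (∃ a, τ' a ≠ 1) →
      ∃ j : Fin r, τ' = tj j := by
    intro τ' hτ' hne' hnt
    by_contra! hno
    have hmov' : ¬ ∀ a, τ' (σA a) = τ' a := fun h => by
      obtain ⟨a, ha⟩ := hnt
      exact ha (hmoved τ' hτ' hne' h a)
    obtain ⟨v, hv, hv0⟩ := Submodule.exists_mem_ne_zero_of_ne_bot hne'
    let uj : ℕ → A → K := fun j a => τ' ((σA ^ j).symm a)
    have huj : ∀ j, IsType (uj j) := fun j => hτ'.comp (σA ^ j).symm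
    have hujS : ∀ j, (s' ^ j) v ∈ typeSpace ρA (uj j) := fun j =>
      map_mem_typeSpace_comp (σA ^ j) (s' ^ j) (pow_comm σA s' hs' j) hv
    have hujne : ∀ i j : Fin r, i ≠ j → uj i ≠ uj j := by
      intro i j hij heq
      wlog hlt : (i : ℕ) < j generalizing i j
      · exact this j i (Ne.symm hij) heq.symm
          (lt_of_le_of_ne (not_lt.1 hlt) fun h => hij (Fin.ext h.symm))
      refine hmov' (hperiod τ' ((j : ℕ) - i) (by omega) (by omega) fun a => ?_)
      have h1 := congrFun heq ((σA ^ (j : ℕ)) a)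
      simp only [uj, MulEquiv.symm_apply_apply] at h1
      rw [← h1]
      congr 1
      apply (σA ^ (i : ℕ)).injective
      rw [MulEquiv.apply_symm_apply, ← MulAut.mul_apply, ← pow_add,
        Nat.add_sub_cancel' (Nat.le_of_lt hlt)]
    have hut : ∀ i j : Fin r, uj i ≠ tj j := by
      intro i j heq
      refine hno ⟨((j : ℕ) + (r - i)) % r, Nat.mod_lt _ hr.pos⟩ (funext fun a => ?_)
      show τ' a = τ ((σA ^ (((j : ℕ) + (r - i)) % r)).symm a)
      rw [← pow_eq_pow_mod _ hσA]
      have h1 := congrFun heq ((σA ^ (i : ℕ)) a)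
      simp only [uj, tj, MulEquiv.symm_apply_apply] at h1
      rw [h1]
      congr 1
      apply (σA ^ (j : ℕ)).injective
      rw [MulEquiv.apply_symm_apply]
      apply (σA ^ (r - (i : ℕ))).injective
      rw [← MulAut.mul_apply, ← pow_add, Nat.sub_add_cancel i.2.le, hσA, MulAut.one_apply,
        ← MulAut.mul_apply, ← pow_add, add_comm, MulEquiv.apply_symm_apply]
    refine hsmall (Sum.elim (fun j => (s' ^ (j : ℕ)) w₀) fun j => (s' ^ (j : ℕ)) v) ?_
      (fun j => by simp) (fun j => by simp)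
    rw [Fintype.linearIndependent_iff]
    intro c hc
    rw [Fintype.sum_sum_type] at hc
    simp only [Sum.elim_inl, Sum.elim_inr] at hc
    rintro (i | i)
    · have h := congrArg (proj ρA (tj i)) hc
      rw [map_add, map_zero, hprojorbit i (fun j => c (.inl j)) w₀ hw₀, map_sum,
        Finset.sum_eq_zero fun j _ => by
          rw [map_smul, proj_eq_zero (htj i) (huj j) (hut j i).symm (hujS j), smul_zero],
        add_zero, smul_eq_zero, mul_eq_zero] at h
      rcases h with (h | h) | h
      · exact h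
      · exact absurd h (hcardne _ (htj i))
      · exact absurd (hinjpow i (h.trans (map_zero _).symm)) hw₀0
    · have h := congrArg (proj ρA (uj i)) hc
      rw [map_add, map_zero, map_sum, Finset.sum_eq_zero fun j _ => by
          rw [map_smul, proj_eq_zero (huj i) (htj j) (hut i j) (htjS j w₀ hw₀), smul_zero],
        zero_add, map_sum, Fintype.sum_eq_single i fun j hj => by
          rw [map_smul, proj_eq_zero (huj i) (huj j) (hujne i j (Ne.symm hj)) (hujS j), smul_zero],
        map_smul, proj_of_mem (huj i) (hujS i), smul_eq_zero] at h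
      rcases h with h | h
      · exact h
      · rcases smul_eq_zero.1 h with h | h
        · exact absurd h (hcardne _ (huj i))
        · exact absurd (hinjpow i (h.trans (map_zero _).symm)) hv0
  -- the fixed vector with average zero
  obtain ⟨ψ₀, hψ₀⟩ : ∃ ψ₀ : Wd, ψ₀ = ∑ j : Fin r, (1 : K) • (s' ^ (j : ℕ)) w₀ := ⟨_, rfl⟩
  have hψne : ψ₀ ≠ 0 := by
    intro h
    have h1 := hprojorbit ⟨0, hr.pos⟩ (fun _ => 1) w₀ hw₀
    rw [← hψ₀, h, map_zero, eq_comm, smul_eq_zero, one_mul] at h1
    rcases h1 with h1 | h1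
    · exact hcardne _ (htj _) h1
    · simp at h1; exact hw₀0 h1
  have hψs : s' ψ₀ = ψ₀ := by
    rw [hψ₀, map_sum]
    have h1 := Finset.sum_range_succ' (fun j => (s' ^ j) w₀) r
    have h2 := Finset.sum_range_succ (fun j => (s' ^ j) w₀) r
    rw [h1, hs'r, pow_zero] at h2
    simp only [one_smul]
    rw [Fin.sum_univ_eq_sum_range (fun j => (s' ^ j) w₀) r,
      Fin.sum_univ_eq_sum_range (fun j => s' ((s' ^ j) w₀)) r, ← add_right_cancel h2]
    exact Finset.sum_congr rfl fun j _ => by rw [pow_succ', Module.End.mul_apply]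
  let avg : Module.End K Wd := ∑ a : A, ρA a
  have havg : ∀ φ, avg φ = ∑ a : A, ρA a φ := fun φ => LinearMap.sum_apply _ _ _
  have hψavg : avg ψ₀ = 0 := by
    rw [hψ₀, map_sum]
    refine Finset.sum_eq_zero fun j _ => ?_
    rw [map_smul, one_smul]
    have hproj : proj ρA (fun _ => (1 : K)) = avg := by simp [proj, avg]
    have hone' : IsType (fun _ : A => (1 : K)) :=
      ⟨rfl, fun _ _ _ => (mul_one _).symm, fun _ _ => one_ne_zero,
        fun _ => ⟨fun _ _ => rfl, fun _ => one_ne_zero⟩⟩
    rw [← hproj]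
    refine proj_eq_zero hone' (htj j) (fun h => hτa ?_) (htjS j w₀ hw₀)
    have h1 := congrFun h ((σA ^ (j : ℕ)) a₀)
    simp only [tj, MulEquiv.symm_apply_apply] at h1
    exact h1.symm
  have hX : ∀ φ : Wd, s' φ = φ → avg φ = 0 → ∃ k : K, φ = k • ψ₀ := by
    intro φ hφs hφavg
    obtain ⟨k, hk⟩ := hone _ (proj_mem hτ φ)
    refine ⟨(Nat.card hτ.supp : K)⁻¹ * k, sub_eq_zero.1 (eq_zero_of_proj (ρ := ρA) hcenA hA2
      fun τ' hτ' => ?_)⟩
    rw [map_sub, map_smul]
    by_cases hne' : typeSpace ρA τ' = ⊥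
    · have h1 := proj_mem (ρ := ρA) hτ' φ
      have h2 := proj_mem (ρ := ρA) hτ' ψ₀
      rw [hne', Submodule.mem_bot] at h1 h2
      rw [h1, h2, smul_zero, sub_zero]
    by_cases hnt : ∀ a, τ' a = 1
    · have hproj : proj ρA τ' = avg := by simp [proj, avg, hnt]
      rw [hproj, hφavg, hψavg, smul_zero, sub_zero]
    push Not at hnt
    obtain ⟨j, rfl⟩ := horbit τ' hτ' hne' hnt
    have hfixpow : ∀ (n : ℕ) (χ : Wd), s' χ = χ → (s' ^ n) χ = χ := fun n χ hχ => by
      induction n with
      | zero => rfl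
      | succ n ih => rw [pow_succ', Module.End.mul_apply, ih, hχ]
    have hequiv : ∀ χ : Wd, s' χ = χ → proj ρA (tj j) χ = (s' ^ (j : ℕ)) (proj ρA τ χ) := by
      intro χ hχ
      rw [proj_apply, proj_apply, map_sum]
      refine (Fintype.sum_equiv (σA ^ (j : ℕ)).toEquiv _ _ fun a => ?_).symm
      rw [map_smul, pow_comm σA s' hs', hfixpow _ χ hχ]
      simp [tj]
    rw [hequiv φ hφs, hequiv ψ₀ hψs, hk]
    have h1 := hprojorbit ⟨0, hr.pos⟩ (fun _ => 1) w₀ hw₀
    have h0 : tj ((⟨0, hr.pos⟩ : Fin r) : ℕ) = τ := funext fun a => by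
      show τ ((σA ^ 0).symm a) = τ a
      rw [pow_zero]; rfl
    have hsupp : ∀ (τ₁ τ₂ : A → K) (h₁ : IsType τ₁) (h₂ : IsType τ₂), τ₁ = τ₂ →
        (Nat.card h₁.supp : K) = Nat.card h₂.supp := by
      intro τ₁ τ₂ h₁ h₂ h; subst h; rfl
    have h1' : proj ρA τ ψ₀ = (Nat.card hτ.supp : K) • w₀ := by
      rw [← hψ₀, hsupp _ _ (htj _) hτ h0, one_mul, h0] at h1
      simpa using h1
    rw [h1', map_smul, map_smul, smul_smul, mul_comm (Nat.card hτ.supp : K)⁻¹ k,
      inv_mul_cancel_right₀ (hcardne τ hτ), sub_self]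
  -- the element `g`
  obtain ⟨v, hv⟩ : ∃ b, ψ₀ (Additive.ofMul b) ≠ 0 := by
    by_contra! h
    exact hψne (hext _ _ h)
  let Navg : (E ⧸ hω.supp) →* (E ⧸ hω.supp) :=
    { toFun := fun b => ∏ a : A, β a b
      map_one' := by simp
      map_mul' := fun a b => by rw [← Finset.prod_mul_distrib]; simp }
  have hNavg : ∀ b, Navg b = ∏ a : A, β a b := fun b => rfl
  have hNavgβ : ∀ (a : A) b, Navg (β a b) = Navg b := fun a b => by
    rw [hNavg, hNavg]
    exact Fintype.prod_equiv (Equiv.mulRight a) _ _ fun c => by simp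
  have havgapply : ∀ (φ : Wd) b, avg φ (Additive.ofMul b) = φ (Additive.ofMul (Navg b)) := by
    intro φ b
    rw [havg, AddMonoidHom.finsetSum_apply, hNavg, ofMul_prod, map_sum]
    exact Fintype.sum_equiv (Equiv.inv A) _ _ fun a => by rw [dualRep_apply]; simp
  have hψπ : ∀ b, ψ₀ (Additive.ofMul (π b)) = ψ₀ (Additive.ofMul b) := fun b => by
    have h1 := congrArg (fun f : Wd => f (Additive.ofMul (π b))) hψs
    rw [hs'apply, π.symm_apply_apply] at h1
    exact h1.symm
  have hNπ : ∀ b, Navg (π b) = π (Navg b) := fun b => by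
    rw [hNavg, hNavg, map_prod]
    refine (Fintype.prod_equiv σA.toEquiv _ _ fun a => ?_).symm
    exact hβσ a b
  set b' := v ^ Nat.card A * (Navg v)⁻¹ with hb'
  have hfixN : ∀ (a : A) b, β a (Navg b) = Navg b := fun a b => by
    rw [hNavg, map_prod]
    exact Fintype.prod_equiv (Equiv.mulLeft a) _ _ fun c => by simp
  have hNb' : Navg b' = 1 := by
    rw [hb', map_mul, map_pow, map_inv, hNavg (Navg v),
      Finset.prod_congr rfl fun a _ => hfixN a v, Finset.prod_const, Finset.card_univ,
      ← Nat.card_eq_fintype_card, mul_inv_cancel]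
  set g := Nm b' with hg
  have hgfix : π g = g := map_normHom hπr b'
  have hNavgg : Navg g = 1 := by
    have hNpow : ∀ c b, Navg ((π ^ c) b) = (π ^ c) (Navg b) := fun c => by
      induction c with
      | zero => intro b; rfl
      | succ c ih => intro b; rw [pow_succ', MulAut.mul_apply, hNπ, ih, MulAut.mul_apply]
    rw [hg, hNm, normHom_apply, map_prod]
    exact Finset.prod_eq_one fun c _ => by rw [hNpow, hNb', map_one]
  have hψg : ψ₀ (Additive.ofMul g) ≠ 0 := by
    have hψN : ∀ b, ψ₀ (Additive.ofMul (Navg b)) = 0 := fun b => by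
      rw [← havgapply, hψavg]; rfl
    have hψc : ∀ c b, ψ₀ (Additive.ofMul ((π ^ c) b)) = ψ₀ (Additive.ofMul b) := fun c => by
      induction c with
      | zero => intro b; rfl
      | succ c ih => intro b; rw [pow_succ', MulAut.mul_apply, hψπ, ih]
    rw [hg, hNm, normHom_apply, ofMul_prod, map_sum,
      Finset.sum_congr rfl fun c _ => hψc c b', Finset.sum_const, Finset.card_range, hb', ofMul_mul,
      ofMul_inv, ofMul_pow, map_add, map_neg, hψN, neg_zero, add_zero, map_nsmul, smul_smul,
      nsmul_eq_mul, Nat.cast_mul]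
    exact mul_ne_zero (mul_ne_zero hr2K hA2) hv
  -- `g` is in the radical
  have hgperp : ∀ h, hω.pair g h = 1 := by
    let Z : Subgroup (E ⧸ hω.supp) := (hω.pairing hcenE g).ker
    have hgK : ∀ e' ∈ Nm.ker, hω.pair g e' = 1 := fun e' he' => by
      rw [hω.pair_swap hcenE, hω.pair_fixed_ker hcenE hσω hπr hrcop hgfix he', inv_one]
    have hgA : ∀ h, (∀ a, β a h = h) → hω.pair g h = 1 := by
      intro h hh
      have h1 : hω.pairing hcenE (Navg g) h = hω.pair g h ^ Nat.card A := by
        rw [hNavg, map_prod, MonoidHom.finsetProd_apply]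
        have h2 : ∀ a, hω.pairing hcenE (β a g) h = hω.pair g h := fun a => by
          rw [hω.pairing_apply hcenE]
          conv_lhs => rw [← hh a]
          rw [hβ]
        rw [Finset.prod_congr rfl fun a _ => h2 a, Finset.prod_const, Finset.card_univ,
          Nat.card_eq_fintype_card]
      rw [hNavgg, map_one] at h1
      obtain ⟨e, he⟩ := IsPGroup.iff_card.1 hEq
      have hcop : (Nat.card A).Coprime (Nat.card E) := by
        rw [he]
        exact Nat.Coprime.pow_right _ (Nat.prime_two.coprime_iff_not_dvd.2 hqA).symm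
      exact eq_one_of_coprime_pow hcop h1.symm (hω.pair_pow_card hcenE g h)
    by_contra! hgh
    obtain ⟨h₀, hh₀⟩ := hgh
    have hh₀Z : h₀ ∉ Z := fun h => hh₀ h
    obtain ⟨φ₀, hφ₀⟩ := exists_addHom_ne_zero (K := K) (p := 2)
      (V := Additive ((E ⧸ hω.supp) ⧸ Z))
      (fun w => by
        obtain ⟨b, hb⟩ := QuotientGroup.mk_surjective w.toMul
        show Additive.ofMul (w.toMul ^ 2) = Additive.ofMul 1
        rw [← hb, ← QuotientGroup.mk_pow, hBexp, QuotientGroup.mk_one])
      (v := Additive.ofMul (h₀ : (E ⧸ hω.supp) ⧸ Z))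
      (fun h => hh₀Z ((QuotientGroup.eq_one_iff h₀).1 (Additive.ofMul.injective h)))
    let φ : Wd := φ₀.comp (QuotientGroup.mk' Z).toAdditive
    have hφZ : ∀ b ∈ Z, φ (Additive.ofMul b) = 0 := fun b hb => by
      show φ₀ (Additive.ofMul (b : (E ⧸ hω.supp) ⧸ Z)) = 0
      rw [(QuotientGroup.eq_one_iff b).2 hb]
      exact map_zero φ₀
    have hφs : s' φ = φ := hext _ _ fun b => by
      have h1 := mul_inv_mem_ker hπr (π.symm b)
      rw [π.apply_symm_apply] at h1
      have h2 := hφZ _ (show _ ∈ Z from hgK _ h1)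
      rw [ofMul_mul, ofMul_inv, map_add, map_neg, ← sub_eq_add_neg, sub_eq_zero] at h2
      rw [hs'apply, h2]
    have hφavg : avg φ = 0 := hext _ _ fun b => by
      rw [havgapply]
      exact hφZ _ (hgA _ fun a => hfixN a b)
    obtain ⟨k, hk⟩ := hX φ hφs hφavg
    have h3 : φ (Additive.ofMul g) = k * ψ₀ (Additive.ofMul g) := by rw [hk]; rfl
    rw [hφZ g (hω.pair_self hcenE g), eq_comm, mul_eq_zero] at h3
    have hk0 := h3.resolve_right hψg
    rw [hk0, zero_smul] at hk
    apply hφ₀
    show φ (Additive.ofMul h₀) = 0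
    rw [hk]
    rfl
  have h1 := hω.eq_one_of_pair hcenE g hgperp
  rw [h1] at hψg
  exact hψg (map_zero ψ₀)

end Exceptional

end CfsgLib.Turull73
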