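import Cfsg.Agent.Turull73.Below

/-!
# Types at a layer on which `σ` has no fixed point

* `eq_of_fixed`: a fixed type is determined by its values on the kernel of `Qⱼ → Vⱼ`.
* `onB_eq_one_of_no_fixed`, `onB_pm_one`: what a commuting element induces on `Q / R`.
* `exists_fixed_of_moved`, `moved_eq_one`: moved types.
-/

set_option autoImplicit false

open scoped commutatorElement

namespace CfsgLib.Turull73

section Twist

variable {Q : Type*} [Group Q]

/-- The twisted product `g (σ g) ⋯`. -/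
def twist (σ : MulAut Q) (g : Q) : ℕ → Q
  | 0 => 1
  | m + 1 => g * σ (twist σ g m)

theorem twist_mem (σ : MulAut Q) {H : Subgroup Q} (hH : ∀ x ∈ H, σ x ∈ H) {g : Q} (hg : g ∈ H) :
    ∀ m, twist σ g m ∈ H
  | 0 => H.one_mem
  | m + 1 => H.mul_mem hg (hH _ (twist_mem σ hH hg m))

theorem twist_succ (σ : MulAut Q) (g : Q) :
    ∀ m, twist σ g (m + 1) = twist σ g m * (σ ^ m) g
  | 0 => by simp [twist]
  | m + 1 => by
    show g * σ (twist σ g (m + 1)) = g * σ (twist σ g m) * (σ ^ (m + 1)) g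
    rw [twist_succ σ g m, map_mul, ← mul_assoc, pow_succ', MulAut.mul_apply]

theorem map_twist {σ : MulAut Q} {r : ℕ} (hσ : σ ^ r = 1) (g : Q) :
    σ (twist σ g r) = g⁻¹ * twist σ g r * g := by
  have h : g * σ (twist σ g r) = twist σ g r * g := by
    rw [show g * σ (twist σ g r) = twist σ g (r + 1) from rfl, twist_succ, hσ]
    rfl
  rw [mul_assoc, ← h, inv_mul_cancel_left]

theorem type_twist {F : Type*} [Field F] {ω : Q → F} (hω : IsType ω) {σ : MulAut Q}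
    (hσ : ∀ q, ω (σ q) = ω q) {g : Q} (hg : ω g ≠ 0) : ∀ m, ω (twist σ g m) = ω g ^ m
  | 0 => by rw [pow_zero]; exact hω.one
  | m + 1 => by
    show ω (g * σ (twist σ g m)) = _
    rw [hω.mul _ _ hg, hσ, type_twist hω hσ hg m, pow_succ']

theorem map_sum_pow_apply {K W : Type*} [Field K] [AddCommGroup W] [Module K W]
    {T : Module.End K W} {r : ℕ} (hT : T ^ r = 1) (w : W) :
    T (∑ k ∈ Finset.range r, (T ^ k) w) = ∑ k ∈ Finset.range r, (T ^ k) w := by
  have h1 := Finset.sum_range_succ' (fun k => (T ^ k) w) r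
  have h2 := Finset.sum_range_succ (fun k => (T ^ k) w) r
  rw [h1] at h2
  simp only [hT, pow_zero] at h2
  rw [map_sum, ← add_right_cancel h2]
  exact Finset.sum_congr rfl fun k _ => by rw [pow_succ', Module.End.mul_apply]

end Twist

variable {G : Type*} [Group G] [Finite G]

namespace Frame

variable (F : Frame G)

theorem r_coprime_orderOf {u : G} (hu : u ∈ F.S.X) : F.S.r.Coprime (orderOf u) :=
  F.S.hr.coprime_iff_not_dvd.2 fun h => F.S.hrX (h.trans (by
    rw [← Subgroup.orderOf_mk u hu]; exact orderOf_dvd_natCard _))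

theorem s_mem_Fix_of_pow {i : ℕ} {ω : F.Ω i} {k : ℕ} (hk : ¬ F.S.r ∣ k)
    (h : F.S.s ^ k ∈ F.Fix ω) : F.S.s ∈ F.Fix ω :=
  mem_of_pow_mem (((F.S.hr.coprime_iff_not_dvd).2 hk).coprime_dvd_left
    (orderOf_dvd_of_pow_eq_one F.S.hs)) h

theorem repG_mem_typeSpace {i : ℕ} (g : G) {ω : F.Ω i} {w : F.W (i + 1)}
    (hw : w ∈ typeSpace (F.rep i) ω.1) :
    F.repG (i + 1) g w ∈ typeSpace (F.rep i) (F.permΩ i g ω).1 :=
  map_mem_typeSpace_comp (F.actQ i g) (F.repG (i + 1) g) (F.repG_rep i g) hw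

theorem repG_mem_of_mem_Fix {i : ℕ} {g : G} {ω : F.Ω i} (hg : g ∈ F.Fix ω) {w : F.W (i + 1)}
    (hw : w ∈ typeSpace (F.rep i) ω.1) : F.repG (i + 1) g w ∈ typeSpace (F.rep i) ω.1 := by
  have := F.repG_mem_typeSpace g hw
  rwa [F.permΩ_eq_self.2 hg] at this

/-- A dual vector fixed by `σ` vanishing on the fixed vectors is zero. -/
theorem dual_fixed_eq_zero {i : ℕ} {φ : F.W i} (hφ : F.repG i F.S.s φ = φ)
    (h : ∀ v, F.actV i F.S.s v = v → φ (Additive.ofMul v) = 0) : φ = 0 := by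
  refine AddMonoidHom.ext fun v => ?_
  obtain ⟨v, rfl⟩ := Additive.ofMul.surjective v
  set π := F.actV i F.S.s
  have h0 := h (normHom π F.S.r v) (map_normHom (F.actV_pow_r i) v)
  have hπ : ∀ w, φ (Additive.ofMul (π w)) = φ (Additive.ofMul w) := fun w => by
    have h1 : φ (Additive.ofMul (F.actV i F.S.s⁻¹ (π w))) = φ (Additive.ofMul (π w)) := by
      conv_rhs => rw [← hφ]
      rfl
    rw [← h1, ← MulAut.mul_apply, ← map_mul, inv_mul_cancel, map_one]
    rfl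
  rw [normHom_apply, ofMul_prod, map_sum, Finset.sum_congr rfl (g := fun _ => φ (Additive.ofMul v))
    fun k _ => ?_, Finset.sum_const, Finset.card_range, nsmul_eq_mul] at h0
  · exact (mul_eq_zero.1 h0).resolve_left (F.r_ne_zero i)
  · induction k with
    | zero => rfl
    | succ k ih => rw [pow_succ', MulAut.mul_apply, hπ, ih (by grind)]

/-- An element commuting with `σ` and trivial on the fixed vectors is trivial on the fixed dual
vectors. -/
theorem repG_fix_dual {i : ℕ} {g : G} (hg : F.S.s * g = g * F.S.s)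
    (h : ∀ v, F.actV i F.S.s v = v → F.actV i g v = v) {φ : F.W i}
    (hφ : F.repG i F.S.s φ = φ) : F.repG i g φ = φ := by
  refine sub_eq_zero.1 (F.dual_fixed_eq_zero ?_ fun v hv => ?_)
  · rw [map_sub, ← Module.End.mul_apply, ← map_mul, hg, map_mul, Module.End.mul_apply, hφ]
  · show φ (Additive.ofMul (F.actV i g⁻¹ v)) - φ (Additive.ofMul v) = 0
    have h1 : F.actV i g⁻¹ v = v := by
      conv_lhs => rw [← h v hv, ← MulAut.mul_apply, ← map_mul, inv_mul_cancel, map_one]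
      rfl
    rw [h1, sub_self]

/-- `σ` has no fixed point but `1` on `Vⱼ`. -/
def Fpf (j : ℕ) : Prop := ∀ v : F.V j, F.actV j F.S.s v = v → v = 1

variable {j : ℕ} (hfpf : F.Fpf j)
include hfpf

theorem mem_of_stable {S : Subgroup (F.V j)} (hS : ∀ v ∈ S, F.actV j F.S.s v ∈ S) {v : F.V j}
    (hv : v⁻¹ * F.actV j F.S.s v ∈ S) : v ∈ S := by
  obtain ⟨c, hc, hvc⟩ := exists_fixed_of_stable_coset F.S.hr (F.actV j F.S.s) (F.actV_pow_r j)
    (F.not_r_dvd_V j) hS hv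
  rw [hfpf c hc, mul_one] at hvc
  simpa using hvc

theorem toV_twist_eq_one (q : F.Q j) :
    F.toV j (twist (F.actQ j F.S.s) q F.S.r) = 1 := hfpf _ (by
  rw [← F.toV_actQ, map_twist (F.actQ_pow_r j), map_mul, map_mul, map_inv, mul_comm _⁻¹,
    inv_mul_cancel_right])

theorem comSub_eq_top : comSub (F.actQ j F.S.s) = ⊤ := by
  refine F.eq_top_of_map (top_unique fun v _ => ?_)
  let δ : F.V j → F.V j := fun v => v⁻¹ * F.actV j F.S.s v
  have hinj : Function.Injective δ := fun a b hab => by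
    have h1 : F.actV j F.S.s (a * b⁻¹) = a * b⁻¹ := by
      have h2 : a⁻¹ * F.actV j F.S.s a = b⁻¹ * F.actV j F.S.s b := hab
      rw [inv_mul_eq_iff_eq_mul] at h2
      rw [map_mul, map_inv, h2]
      group
    exact mul_inv_eq_one.1 (hfpf _ h1)
  obtain ⟨w, hw⟩ := (Finite.injective_iff_surjective.1 hinj) v
  obtain ⟨q, rfl⟩ := F.toV_surjective j w
  refine ⟨_, mem_comSub (F.actQ j F.S.s) q, ?_⟩
  rw [map_mul, map_inv, toV_actQ]
  exact hw

theorem supp_ne_top {ω : F.Ω j} (hs : F.S.s ∈ F.Fix ω) (hne : ∃ q, ω.1 q ≠ 1) :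
    ω.2.1.supp ≠ ⊤ := by
  intro htop
  have hall : ∀ q, ω.1 q ≠ 0 := fun q => htop.ge (Subgroup.mem_top q)
  have hle : comSub (F.actQ j F.S.s) ≤ F.oneSub ω := comSub_le fun b => by
    show ω.1 (b⁻¹ * F.actQ j F.S.s b) = 1
    rw [ω.2.1.mul _ _ (hall _), hs b, ω.2.1.inv (hall b), inv_mul_cancel₀ (hall b)]
  obtain ⟨q, hq⟩ := hne
  rw [F.comSub_eq_top hfpf] at hle
  exact hq (hle (Subgroup.mem_top q))

omit hfpf in
theorem toV_mem_map_supp {ω : F.Ω j} {q : F.Q j}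
    (h : F.toV j q ∈ ω.2.1.supp.map (F.toV j)) : q ∈ ω.2.1.supp := by
  obtain ⟨g, hg, hgq⟩ := h
  rw [show q = g * (g⁻¹ * q) by group]
  exact Subgroup.mul_mem _ hg (F.type_ne_zero_of_toV ω (by rw [map_mul, map_inv, hgq, inv_mul_cancel]))

theorem fpf_supp {ω : F.Ω j} (hs : F.S.s ∈ F.Fix ω) {q : F.Q j}
    (h : ω.1 (q⁻¹ * F.actQ j F.S.s q) ≠ 0) : ω.1 q ≠ 0 := by
  refine F.toV_mem_map_supp (q := q) (F.mem_of_stable hfpf ?_ ?_)
  · rintro _ ⟨g, hg, rfl⟩
    rw [← toV_actQ]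
    exact Subgroup.mem_map_of_mem _ (show ω.1 (F.actQ j F.S.s g) ≠ 0 by rw [hs g]; exact hg)
  · rw [← toV_actQ, ← map_inv, ← map_mul]
    exact Subgroup.mem_map_of_mem _ h

/-- A fixed type is determined by its values on the kernel of `Qⱼ → Vⱼ`. -/
theorem eq_of_fixed (hj : j < F.S.t) {ω ω' : F.Ω j} (hs : F.S.s ∈ F.Fix ω) (hs' : F.S.s ∈ F.Fix ω')
    (h : ∀ q, F.toV j q = 1 → ω.1 q = ω'.1 q) : ω = ω' := by
  refine Subtype.ext (funext fun g => ?_)
  have hc : ∀ a b, ω.1 ⁅a, b⁆ = ω'.1 ⁅a, b⁆ := fun a b => h _ (F.toV_commutator a b)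
  have hiff : ω.1 g ≠ 0 ↔ ω'.1 g ≠ 0 := by rw [ω.2.1.mem, ω'.2.1.mem]; simp [hc]
  by_cases hg : ω.1 g = 0
  · rw [hg]
    exact (not_not.1 fun h' => hiff.2 h' hg).symm
  have hg' := hiff.1 hg
  have h1 := type_twist ω.2.1 hs hg F.S.r
  rw [h _ (F.toV_twist_eq_one hfpf g), type_twist ω'.2.1 hs' hg' F.S.r] at h1
  have hr : (ω.1 g / ω'.1 g) ^ F.S.r = 1 := by
    rw [div_pow, h1, div_self (pow_ne_zero _ hg)]
  have hN : (ω.1 g / ω'.1 g) ^ Nat.card (F.Q j) = 1 := by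
    rw [div_pow, ω.2.1.pow_card hg, ω'.2.1.pow_card hg', div_one]
  exact (div_eq_one_iff_eq hg').1
    (eq_one_of_coprime_pow (F.S.hr.coprime_iff_not_dvd.2 (F.not_r_dvd_Q j)) hr hN)

omit hfpf in
/-- The representation on a type space. -/
noncomputable def repT {i : ℕ} (ω : F.Ω i) :
    F.Q i →* Module.End (F.K (i + 1)) (typeSpace (F.rep i) ω.1) where
  toFun g := (F.rep i g).restrict fun _ hw => map_mem_typeSpace ω.2.1 hw _
  map_one' := LinearMap.ext fun x => Subtype.ext (by simp)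
  map_mul' a b := LinearMap.ext fun x => Subtype.ext (by simp [ρ_mul_apply])

omit hfpf in
theorem isRepOf_repT {i : ℕ} (ω : F.Ω i) : IsRepOf (W := typeSpace (F.rep i) ω.1) (F.repT ω) ω.1 := fun g hg =>
  LinearMap.ext fun x => Subtype.ext (mem_typeSpace.1 x.2 g hg)

omit hfpf in
/-- An element fixing a type as an operator on its space. -/
noncomputable def opT {i : ℕ} (ω : F.Ω i) (g : F.Fix ω) :
    Module.End (F.K (i + 1)) (typeSpace (F.rep i) ω.1) :=
  (F.repG (i + 1) g).restrict fun _ hw => F.repG_mem_of_mem_Fix g.2 hw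

omit hfpf in
theorem opT_repT {i : ℕ} (ω : F.Ω i) (g : F.Fix ω) (q : F.Q i) (x : typeSpace (F.rep i) ω.1) :
    F.opT ω g (F.repT ω q x) = F.repT ω (F.actQ i g q) (F.opT ω g x) :=
  Subtype.ext (F.repG_rep i g q x.1)

omit hfpf in
theorem opT_pow_r {i : ℕ} (ω : F.Ω i) (hs : F.S.s ∈ F.Fix ω) : F.opT ω ⟨F.S.s, hs⟩ ^ F.S.r = 1 := by
  refine LinearMap.ext fun x => Subtype.ext ?_
  rw [opT, Module.End.pow_restrict F.S.r]
  show (F.repG (i + 1) F.S.s ^ F.S.r) x.1 = _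
  rw [F.repG_pow_r]
  rfl

/-- The fixed type as a `FixedType`. -/
noncomputable def fixedType (hj : j < F.S.t) (ω : F.Ω j) (hs : F.S.s ∈ F.Fix ω) :
    FixedType (F.Q j) (F.K (j + 1)) F.S.r where
  ω := ω.1
  σ := F.actQ j F.S.s
  isType := ω.2.1
  hcen := F.hcen j
  hE := F.card_Q_ne_zero hj
  hr := F.S.hr
  hrE := F.not_r_dvd_Q j
  hrF := F.r_ne_zero _
  hσ := F.actQ_pow_r j
  hσω := hs
  fpf := fun _ h => F.fpf_supp hfpf hs h

theorem onB_eq_one_of_no_fixed (hj : j < F.S.t) {ω : F.Ω j} (hs : F.S.s ∈ F.Fix ω)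
    (hC : ∀ w ∈ typeSpace (F.rep j) ω.1, F.repG (j + 1) F.S.s w = w → w = 0) {u : G}
    (hu : u ∈ F.C) (huω : u ∈ F.Fix ω) (hcop : (orderOf u).Coprime (F.p j)) :
    F.onB ω ⟨u, huω⟩ = 1 := by
  classical
  have := Fintype.ofFinite (F.Q j)
  have : Nontrivial (typeSpace (F.rep j) ω.1) := Submodule.nontrivial_iff_ne_bot.2 ω.2.2
  exact (F.fixedType hfpf hj ω hs).trivial_of_no_fixed (F.isRepOf_repT ω) (F.opT_pow_r ω hs)
    (F.opT_repT ω ⟨F.S.s, hs⟩) (α := F.actQ j u) (d := orderOf u) (orderOf_pos u)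
    (F.r_coprime_orderOf (F.C_le_X hu)) (F.card_Q_coprime hcop)
    (by rw [← map_pow, pow_orderOf_eq_one, map_one])
    (show Commute _ _ from (Commute.map (show Commute F.S.s u from (F.mem_C.1 hu).2) _))
    huω fun w hw => Subtype.ext (hC w.1 w.2 (congrArg Subtype.val hw))

theorem onB_pm_one (hj : j < F.S.t) {ω : F.Ω j} (hs : F.S.s ∈ F.Fix ω) {u : G}
    (hu : u ∈ F.C) (huω : u ∈ F.Fix ω) (hcop : (orderOf u).Coprime (F.p j))
    (htC : ∀ w ∈ typeSpace (F.rep j) ω.1, F.repG (j + 1) F.S.s w = w → F.repG (j + 1) u w = w) :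
    F.onB ω ⟨u, huω⟩ = 1 ∨ ∀ b, F.onB ω ⟨u, huω⟩ b = b⁻¹ := by
  classical
  have := Fintype.ofFinite (F.Q j)
  have : Nontrivial (typeSpace (F.rep j) ω.1) := Submodule.nontrivial_iff_ne_bot.2 ω.2.2
  rcases (F.fixedType hfpf hj ω hs).trivial_or_inversion (F.isRepOf_repT ω) (F.opT_pow_r ω hs)
    (F.opT_repT ω ⟨F.S.s, hs⟩) (α := F.actQ j u) (d := orderOf u) (orderOf_pos u)
    (F.r_coprime_orderOf (F.C_le_X hu)) (F.card_Q_coprime hcop)
    (by rw [← map_pow, pow_orderOf_eq_one, map_one])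
    (show Commute _ _ from (Commute.map (show Commute F.S.s u from (F.mem_C.1 hu).2) _))
    huω (t := F.opT ω ⟨u, huω⟩) (F.opT_repT ω ⟨u, huω⟩)
    (fun w hw => Subtype.ext (htC w.1 w.2 (congrArg Subtype.val hw))) with h | h
  · refine Or.inl (MulEquiv.ext fun b => ?_)
    induction b using QuotientGroup.induction_on with | H g => ?_
    exact ((QuotientGroup.eq (s := ω.2.1.supp)).2 (h g)).symm
  · refine Or.inr fun b => ?_
    induction b using QuotientGroup.induction_on with | H g => ?_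
    rw [onB_mk, ← QuotientGroup.mk_inv]
    refine (QuotientGroup.eq (s := ω.2.1.supp)).2 ?_
    have h1 : g * F.actQ j u g ∈ ω.2.1.supp := h g
    simpa using inv_mem h1

omit hfpf

section Moved

variable {ω : F.Ω j}

theorem proj_repG_of_not_mem [Fintype (F.Q j)] {g : G} (hg : g ∉ F.Fix ω) {w : F.W (j + 1)}
    (hw : w ∈ typeSpace (F.rep j) ω.1) : proj (F.rep j) ω.1 (F.repG (j + 1) g w) = 0 :=
  proj_eq_zero ω.2.1 (F.permΩ j g ω).2.1
    (fun h => hg (F.permΩ_eq_self.1 (Subtype.ext h.symm))) (F.repG_mem_typeSpace g hw)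

theorem tr_fixed (i : ℕ) (w : F.W i) :
    F.repG i F.S.s (∑ k ∈ Finset.range F.S.r, F.repG i (F.S.s ^ k) w) =
      ∑ k ∈ Finset.range F.S.r, F.repG i (F.S.s ^ k) w := by
  simp only [map_pow]
  exact map_sum_pow_apply (F.repG_pow_r i) w

theorem proj_tr [Fintype (F.Q j)] (hmov : F.S.s ∉ F.Fix ω) {w : F.W (j + 1)}
    (hw : w ∈ typeSpace (F.rep j) ω.1) :
    proj (F.rep j) ω.1 (∑ k ∈ Finset.range F.S.r, F.repG (j + 1) (F.S.s ^ k) w) =
      (Nat.card ω.2.1.supp : F.K (j + 1)) • w := by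
  rw [map_sum, Finset.sum_eq_single 0 (fun k hk hk0 => F.proj_repG_of_not_mem (fun h => hmov
      (F.s_mem_Fix_of_pow (fun hd => hk0 (Nat.eq_zero_of_dvd_of_lt hd (Finset.mem_range.1 hk))) h))
      hw) (fun h => absurd (Finset.mem_range.2 F.S.hr.pos) h), pow_zero, map_one,
    Module.End.one_apply, proj_of_mem ω.2.1 hw]

/-- A moved type gives a fixed dual vector. -/
theorem exists_fixed_of_moved (hj : j < F.S.t) (hmov : F.S.s ∉ F.Fix ω) :
    ∃ φ : F.W (j + 1), F.repG (j + 1) F.S.s φ = φ ∧ φ ≠ 0 := by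
  classical
  have := Fintype.ofFinite (F.Q j)
  obtain ⟨w, hw, hw0⟩ := Submodule.exists_mem_ne_zero_of_ne_bot ω.2.2
  refine ⟨_, F.tr_fixed _ w, fun h0 => hw0 ?_⟩
  have h := F.proj_tr hmov hw
  rw [h0, map_zero, eq_comm, smul_eq_zero] at h
  exact h.resolve_left (card_supp_ne (F.card_Q_ne_zero hj) _)

/-- An element trivial on the fixed dual vectors moves nothing modulo the kernel of a moved
type. -/
theorem moved_eq_one (hj : j < F.S.t) (hmov : F.S.s ∉ F.Fix ω) {u : G} (hu : u ∈ F.C)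
    (htriv : ∀ φ : F.W (j + 1), F.repG (j + 1) F.S.s φ = φ → F.repG (j + 1) u φ = φ) (q : F.Q j) :
    ω.1 (q⁻¹ * F.actQ j u q) = 1 := by
  classical
  have := Fintype.ofFinite (F.Q j)
  have hN := card_supp_ne (F.card_Q_ne_zero hj) ω.2.1.supp
  have hcomm : Commute F.S.s u := (F.mem_C.1 hu).2
  have hfix : ∀ w ∈ typeSpace (F.rep j) ω.1, w ≠ 0 → u ∈ F.Fix ω ∧ F.repG (j + 1) u w = w := by
    intro w hw hw0
    have h := F.proj_tr hmov hw
    rw [← htriv _ (F.tr_fixed _ w), map_sum, map_sum] at h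
    have hk0 : ∀ k ∈ Finset.range F.S.r, k ≠ 0 →
        proj (F.rep j) ω.1 (F.repG (j + 1) u (F.repG (j + 1) (F.S.s ^ k) w)) = 0 := by
      intro k hk hk0
      show proj (F.rep j) ω.1 ((F.repG (j + 1) u * F.repG (j + 1) (F.S.s ^ k)) w) = 0
      rw [← map_mul]
      refine F.proj_repG_of_not_mem (fun hmem => hmov ?_) hw
      have h1 : (u * F.S.s ^ k) ^ F.S.r ∈ F.Fix ω := Subgroup.pow_mem _ hmem _
      rw [(hcomm.symm.pow_right k).mul_pow, ← pow_mul, mul_comm, pow_mul, F.S.hs, one_pow,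
        mul_one] at h1
      have huω : u ∈ F.Fix ω := mem_of_pow_mem (F.r_coprime_orderOf (F.C_le_X hu)).symm h1
      refine F.s_mem_Fix_of_pow (fun hd => hk0 (Nat.eq_zero_of_dvd_of_lt hd (Finset.mem_range.1 hk)))
        ((Subgroup.mul_mem_cancel_left _ huω).1 hmem)
    rw [Finset.sum_eq_single 0 hk0 (fun h => absurd (Finset.mem_range.2 F.S.hr.pos) h), pow_zero,
      map_one, Module.End.one_apply] at h
    have huω : u ∈ F.Fix ω := by
      by_contra hc
      rw [F.proj_repG_of_not_mem hc hw, eq_comm, smul_eq_zero] at h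
      exact hw0 (h.resolve_left hN)
    rw [proj_of_mem ω.2.1 (F.repG_mem_of_mem_Fix huω hw)] at h
    exact ⟨huω, smul_right_injective _ hN h⟩
  have hfix' : ∀ w ∈ typeSpace (F.rep j) ω.1, F.repG (j + 1) u w = w := fun w hw => by
    by_cases hw0 : w = 0
    · rw [hw0, map_zero]
    · exact (hfix w hw hw0).2
  obtain ⟨w, hw, hw0⟩ := Submodule.exists_mem_ne_zero_of_ne_bot ω.2.2
  refine type_eq_one ω.2.1 hw hw0 fun h => ?_
  have hw' := map_mem_typeSpace ω.2.1 hw h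
  have h1 := F.repG_rep j u q (F.rep j h w)
  rw [hfix' _ hw', hfix' _ (map_mem_typeSpace ω.2.1 hw' q)] at h1
  rw [ρ_mul_apply, ← h1, ρ_inv_apply]

end Moved

end Frame

end CfsgLib.Turull73
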