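import Cfsg.Agent.Turull73.Tower
import Cfsg.Agent.Turull73.Exceptional

/-!
# The sections of a tower as modules

For a tower of layers we form `Q i = Eᵢ / Nᵢ`, `V i = Eᵢ / Mᵢ`, the action of `Q i` on `V (i + 1)`
and on its dual over an algebraically closed field of the same characteristic.
-/

set_option autoImplicit false

open scoped commutatorElement

namespace CfsgLib.Turull73

open FittingLength

variable {G : Type*} [Group G]

/-- The action by conjugation on a section. -/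
def secAut (E N : Subgroup G) [E.Normal] [N.Normal] : G →* MulAut (E ⧸ N.subgroupOf E) where
  toFun g := QuotientGroup.congr _ _ (MulAut.conjNormal g) (by
    refine le_antisymm ?_ fun x hx => ⟨(MulAut.conjNormal g).symm x, ?_, ?_⟩
    · rintro _ ⟨x, hx, rfl⟩
      exact ‹N.Normal›.conj_mem _ hx g
    · rw [SetLike.mem_coe, Subgroup.mem_subgroupOf, MulAut.conjNormal_symm_apply]
      simpa using ‹N.Normal›.conj_mem _ hx g⁻¹
    · exact (MulAut.conjNormal g).apply_symm_apply x)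
  map_one' := MulEquiv.ext fun q => by
    induction q using QuotientGroup.induction_on with | H x => ?_
    show ((MulAut.conjNormal (1 : G) x : E) : E ⧸ N.subgroupOf E) = _
    rw [map_one]; rfl
  map_mul' g h := MulEquiv.ext fun q => by
    induction q using QuotientGroup.induction_on with | H x => ?_
    show ((MulAut.conjNormal (g * h) x : E) : E ⧸ N.subgroupOf E) =
      ((MulAut.conjNormal g (MulAut.conjNormal h x) : E) : E ⧸ N.subgroupOf E)
    rw [map_mul]; rfl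

theorem secAut_mk (E N : Subgroup G) [hE : E.Normal] [N.Normal] (g : G) (e : E) :
    secAut E N g (e : E ⧸ N.subgroupOf E) =
      ((⟨g * e * g⁻¹, hE.conj_mem e e.2 g⟩ : E) : E ⧸ N.subgroupOf E) := rfl

theorem secAut_eq_self_iff (E N : Subgroup G) [E.Normal] [N.Normal] (g : G) (e : E) :
    secAut E N g (e : E ⧸ N.subgroupOf E) = e ↔ ⁅g, (e : G)⁆ ∈ N := by
  rw [secAut_mk, QuotientGroup.eq_iff_div_mem, Subgroup.mem_subgroupOf, Subgroup.coe_div,
    div_eq_mul_inv, commutatorElement_def]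

variable [Finite G]

/-- A tower of layers over a minimal counterexample. -/
structure Frame (G : Type*) [Group G] [Finite G] where
  S : Setup G
  L : ℕ → LayerData G
  hT : Tower S L 0

namespace Frame

variable (F : Frame G)

/-- The layer at `min i t`. -/
def lay (i : ℕ) : LayerData G := F.L (min i F.S.t)

theorem isLayer (i : ℕ) : IsLayer F.S (min i F.S.t) (F.lay i) :=
  F.hT.layer _ (Nat.zero_le _) (min_le_right _ _)

theorem layer {i : ℕ} (hi : i ≤ F.S.t) : IsLayer F.S i (F.lay i) := by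
  have := F.isLayer i
  rwa [min_eq_left hi] at this

theorem link {i : ℕ} (hi : i < F.S.t) : Linked (F.lay i) (F.lay (i + 1)) := by
  have := F.hT.link i (Nat.zero_le _) hi
  rwa [lay, lay, min_eq_left hi.le, min_eq_left hi]

theorem lay_succ_of_le {i : ℕ} (hi : F.S.t ≤ i) : F.lay (i + 1) = F.lay i := by
  rw [lay, lay, min_eq_right hi, min_eq_right (hi.trans (Nat.le_succ i))]

/-- The prime of the `i`-th layer. -/
abbrev p (i : ℕ) : ℕ := (F.lay i).p
/-- The group `Eᵢ`. -/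
abbrev E (i : ℕ) : Subgroup G := (F.lay i).E
/-- The group `Mᵢ`. -/
abbrev M (i : ℕ) : Subgroup G := (F.lay i).M
/-- The group `Nᵢ`. -/
abbrev N (i : ℕ) : Subgroup G := (F.lay i).N

instance (i : ℕ) : (F.E i).Normal := (F.isLayer i).hEn
instance (i : ℕ) : (F.M i).Normal := (F.isLayer i).hMn
instance (i : ℕ) : (F.N i).Normal := (F.isLayer i).hNn
instance (i : ℕ) : Fact (F.p i).Prime := ⟨(F.isLayer i).hp⟩

theorem p_prime (i : ℕ) : (F.p i).Prime := (F.isLayer i).hp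

theorem p_ne {i : ℕ} (hi : i < F.S.t) : F.p i ≠ F.p (i + 1) := (F.link hi).hne

theorem N_le_M (i : ℕ) : F.N i ≤ F.M i := (F.isLayer i).hNM

theorem M_le_E (i : ℕ) : F.M i ≤ F.E i := (F.isLayer i).hME.le

theorem E_le_X (i : ℕ) : F.E i ≤ F.S.X := (F.isLayer i).hED.trans (nilRes_le _ _)

theorem E_le_D {i : ℕ} (hi : i ≤ F.S.t) : F.E i ≤ nilRes F.S.X i := (F.layer hi).hED

/-- The fixed points of `s` in `X`. -/
def C : Subgroup G := F.S.X ⊓ Subgroup.centralizer ({F.S.s} : Set G)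

theorem mem_C {g : G} : g ∈ F.C ↔ g ∈ F.S.X ∧ F.S.s * g = g * F.S.s := by
  rw [C, Subgroup.mem_inf, Subgroup.mem_centralizer_singleton_iff]
  exact and_congr_right fun _ => eq_comm

/-- A stable coset of a normal subgroup of `X` contains a fixed point. -/
theorem exists_mem_C {N₀ : Subgroup G} [N₀.Normal] (hN₀ : N₀ ≤ F.S.X) {e : G} (he : e ∈ F.S.X)
    (h : ⁅F.S.s, e⁆ ∈ N₀) : ∃ c ∈ F.C, e⁻¹ * c ∈ N₀ := by
  have hle : Subgroup.zpowers F.S.s ≤ cenMod (Subgroup.zpowers e) N₀ :=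
    Subgroup.zpowers_le.2 (mem_cenMod.2 fun x hx => by
      obtain ⟨k, rfl⟩ := Subgroup.mem_zpowers_iff.1 hx
      rw [← QuotientGroup.eq_one_iff (N := N₀)] at h ⊢
      change QuotientGroup.mk' N₀ _ = 1 at h ⊢
      rw [map_commutatorElement, commutatorElement_eq_one_iff_mul_comm] at h ⊢
      rw [map_zpow]
      exact ((show Commute (QuotientGroup.mk' N₀ F.S.s) (QuotientGroup.mk' N₀ e) from
        h).zpow_right k).eq)
  obtain ⟨c, hc, hec⟩ := Coprime.exists_fixed_mem_coset (A := Subgroup.zpowers F.S.s) (N := N₀)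
    (by rw [Subgroup.normalizer_eq_top_iff.2 ‹_›]; exact le_top)
    (by
      rw [Nat.card_zpowers]
      exact F.S.orderOf_s_coprime (Subgroup.card_dvd_of_le hN₀))
    (Or.inl (Group.isSolvable_of_comm fun a b => Std.Commutative.comm a b)) (k := e)
    fun a ha => by
      have h1 := mem_cenMod.1 (hle ha) e (Subgroup.mem_zpowers e)
      rw [show e⁻¹ * (a * e * a⁻¹) = e⁻¹ * ⁅a, e⁆ * e⁻¹⁻¹ by rw [commutatorElement_def]; group]
      exact ‹N₀.Normal›.conj_mem _ h1 _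
  refine ⟨c, F.mem_C.2 ⟨?_, ?_⟩, hec⟩
  · simpa using F.S.X.mul_mem he (hN₀ hec)
  · exact Subgroup.mem_centralizer_iff.1 hc _ (Subgroup.mem_zpowers _)

/-- An element of order prime to `pᵢ` trivial on `Eᵢ / Mᵢ` is trivial on `Eᵢ / Nᵢ`. -/
theorem mem_N_of_coprime {i : ℕ} {a : G} (hcop : (orderOf a).Coprime (F.p i))
    (h : ∀ e ∈ F.E i, ⁅a, e⁆ ∈ F.M i) : ∀ e ∈ F.E i, ⁅a, e⁆ ∈ F.N i := by
  have hL := F.isLayer i
  set f := QuotientGroup.mk' (F.N i)
  set T := F.E i ⊓ cenMod (Subgroup.zpowers a) (F.N i)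
  have hT : F.E i ≤ T := by
    refine hL.frat T (le_inf (hL.hNM.trans hL.hME.le) fun n hn => mem_cenMod.2 fun b _ => by
      rw [commutatorElement_def, mul_assoc, mul_assoc]
      exact (F.N i).mul_mem hn (by
        rw [← mul_assoc]; exact hL.hNn.conj_mem _ ((F.N i).inv_mem hn) b)) inf_le_left
      fun e he => ?_
    have := Subgroup.Normal.map hL.hMn f (QuotientGroup.mk'_surjective _)
    obtain ⟨c, hc, hec⟩ := Coprime.exists_fixed_mem_coset (A := Subgroup.zpowers (f a))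
      (N := (F.M i).map f) (by rw [Subgroup.normalizer_eq_top_iff.2 this]; exact le_top)
      (by
        rw [Nat.card_zpowers]
        exact coprime_card_map hL.hp (fun x hx => hL.qgroup x (hL.hME.le hx))
          (hcop.coprime_dvd_left (orderOf_map_dvd f a)))
      (Or.inl (Group.isSolvable_of_comm fun a b => Std.Commutative.comm a b)) (k := f e) (by
        intro b hb
        have hle : Subgroup.zpowers (f a) ≤ (cenMod (F.E i) (F.M i)).map f :=
          Subgroup.zpowers_le.2 (Subgroup.mem_map_of_mem f (mem_cenMod.2 h))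
        obtain ⟨b₀, hb₀, rfl⟩ := hle hb
        rw [← map_inv, ← map_inv, ← map_mul, ← map_mul, ← map_mul]
        refine Subgroup.mem_map_of_mem f ?_
        rw [show e⁻¹ * (b₀ * e * b₀⁻¹) = e⁻¹ * ⁅b₀, e⁆ * e⁻¹⁻¹ by
          rw [commutatorElement_def]; group]
        exact hL.hMn.conj_mem _ (mem_cenMod.1 hb₀ e he) _)
    obtain ⟨m, hm, hmc⟩ := hec
    have hcT : e * m ∈ T := by
      refine ⟨(F.E i).mul_mem he (hL.hME.le hm), mem_cenMod.2 fun b hb => ?_⟩
      rw [← QuotientGroup.eq_one_iff (N := F.N i)]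
      show f ⁅e * m, b⁆ = 1
      rw [map_commutatorElement, map_mul, hmc, mul_inv_cancel_left,
        commutatorElement_eq_one_iff_mul_comm]
      obtain ⟨k, rfl⟩ := Subgroup.mem_zpowers_iff.1 hb
      exact (Subgroup.mem_centralizer_iff.1 hc _
        (by rw [map_zpow]; exact zpow_mem (Subgroup.mem_zpowers _) k)).symm
    rw [show e = e * m * m⁻¹ by group]
    exact Subgroup.mul_mem_sup hcT ((F.M i).inv_mem hm)
  intro e he
  rw [← commutatorElement_inv]
  exact (F.N i).inv_mem (mem_cenMod.1 (hT he).2 a (Subgroup.mem_zpowers a))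

/-- A `p`-power order element in the same coset of `Nᵢ`. -/
theorem exists_pPart (i : ℕ) {z : G} (hz : z ∈ F.E i) :
    ∃ z', z' ∈ Subgroup.zpowers z ∧ (∃ k, orderOf z' = F.p i ^ k) ∧ z⁻¹ * z' ∈ F.N i := by
  obtain ⟨a, ha⟩ := (F.isLayer i).qgroup z hz
  set n := orderOf z
  set b := n.factorization (F.p i)
  obtain ⟨m, hm⟩ : ∃ m, m = n / F.p i ^ b := ⟨_, rfl⟩
  have hcop : (F.p i ^ b).Coprime m := by
    rw [hm]; exact (Nat.coprime_ordCompl (F.p_prime i) (orderOf_pos z).ne').pow_left b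
  have hn : F.p i ^ b * m = n := by rw [hm]; exact Nat.ordProj_mul_ordCompl_eq_self _ _
  have h1 := Nat.gcd_eq_gcd_ab (F.p i ^ b) m
  rw [hcop.gcd_eq_one] at h1
  refine ⟨z ^ ((m : ℤ) * Nat.gcdB (F.p i ^ b) m), zpow_mem (Subgroup.mem_zpowers z) _, ?_, ?_⟩
  · have h2 : (z ^ ((m : ℤ) * Nat.gcdB (F.p i ^ b) m)) ^ (F.p i ^ b) = 1 := by
      rw [← zpow_natCast, ← zpow_mul,
        show (m : ℤ) * Nat.gcdB (F.p i ^ b) m * ((F.p i ^ b : ℕ) : ℤ) =
          ((F.p i ^ b * m : ℕ) : ℤ) * Nat.gcdB (F.p i ^ b) m by push_cast; ring,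
        zpow_mul, zpow_natCast, hn, pow_orderOf_eq_one, one_zpow]
    obtain ⟨k, -, hk⟩ := (Nat.dvd_prime_pow (F.p_prime i)).1 (orderOf_dvd_of_pow_eq_one h2)
    exact ⟨k, hk⟩
  · have h3 : z⁻¹ * z ^ ((m : ℤ) * Nat.gcdB (F.p i ^ b) m) =
        (z ^ F.p i ^ b) ^ (-Nat.gcdA (F.p i ^ b) m) := by
      rw [← zpow_neg_one, ← zpow_add, ← zpow_natCast, ← zpow_mul]
      congr 1
      push_cast at h1 ⊢
      linarith
    rw [h3]
    refine (F.N i).zpow_mem (mem_of_pow_mem (m := F.p i ^ a) ?_ ?_) _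
    · exact (orderOf_pow_ordProj_coprime (F.p_prime i) (orderOf_pos z) le_rfl).pow_right a
    · rw [← pow_mul, mul_comm, pow_mul]
      exact (F.N i).pow_mem ha _

/-- The chief factor `Vᵢ = Eᵢ / Mᵢ`. -/
abbrev V (i : ℕ) := ↥(F.E i) ⧸ (F.M i).subgroupOf (F.E i)

/-- The section `Qᵢ = Eᵢ / Nᵢ`. -/
abbrev Q (i : ℕ) := ↥(F.E i) ⧸ (F.N i).subgroupOf (F.E i)

/-- The projection to `Vᵢ`. -/
abbrev mkV (i : ℕ) : F.E i →* F.V i := QuotientGroup.mk' _

/-- The projection to `Qᵢ`. -/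
abbrev mkQ (i : ℕ) : F.E i →* F.Q i := QuotientGroup.mk' _

theorem mkV_surjective (i : ℕ) : Function.Surjective (F.mkV i) := QuotientGroup.mk'_surjective _

theorem mkQ_surjective (i : ℕ) : Function.Surjective (F.mkQ i) := QuotientGroup.mk'_surjective _

theorem mkV_eq_one {i : ℕ} {e : F.E i} : F.mkV i e = 1 ↔ (e : G) ∈ F.M i :=
  QuotientGroup.eq_one_iff e

theorem mkQ_eq_one {i : ℕ} {e : F.E i} : F.mkQ i e = 1 ↔ (e : G) ∈ F.N i :=
  QuotientGroup.eq_one_iff e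

instance commGroupV (i : ℕ) : CommGroup (F.V i) :=
  { (inferInstance : Group (F.V i)) with
    mul_comm := fun a b => by
      obtain ⟨x, rfl⟩ := F.mkV_surjective i a
      obtain ⟨y, rfl⟩ := F.mkV_surjective i b
      show F.mkV i x * F.mkV i y = F.mkV i y * F.mkV i x
      rw [← commutatorElement_eq_one_iff_mul_comm, ← map_commutatorElement]
      exact F.mkV_eq_one.2 ((F.isLayer i).comm _ x.2 _ y.2) }

theorem pow_p (i : ℕ) (v : F.V i) : v ^ F.p i = 1 := by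
  obtain ⟨x, rfl⟩ := F.mkV_surjective i v
  rw [← map_pow, F.mkV_eq_one]
  exact (F.isLayer i).elem _ x.2

/-- The map `Qᵢ → Vᵢ`. -/
def toV (i : ℕ) : F.Q i →* F.V i :=
  QuotientGroup.map _ _ (MonoidHom.id (F.E i)) fun _ hx => F.N_le_M i hx

theorem toV_mk (i : ℕ) (e : F.E i) : F.toV i (F.mkQ i e) = F.mkV i e := rfl

theorem toV_surjective (i : ℕ) : Function.Surjective (F.toV i) := fun v => by
  obtain ⟨e, rfl⟩ := F.mkV_surjective i v
  exact ⟨F.mkQ i e, rfl⟩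

theorem commute_of_toV {i : ℕ} {a : F.Q i} (ha : F.toV i a = 1) (b : F.Q i) : Commute a b := by
  obtain ⟨m, rfl⟩ := F.mkQ_surjective i a
  obtain ⟨e, rfl⟩ := F.mkQ_surjective i b
  rw [toV_mk, F.mkV_eq_one] at ha
  rw [commute_iff_eq, ← commutatorElement_eq_one_iff_mul_comm, ← map_commutatorElement]
  exact F.mkQ_eq_one.2 ((F.isLayer i).central _ ha _ e.2)

theorem toV_commutator {i : ℕ} (a b : F.Q i) : F.toV i ⁅a, b⁆ = 1 := by
  rw [map_commutatorElement, commutatorElement_eq_one_iff_mul_comm, mul_comm]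

theorem hcen (i : ℕ) (a b c : F.Q i) : Commute ⁅a, b⁆ c :=
  F.commute_of_toV (F.toV_commutator a b) c

theorem isPGroup_Q (i : ℕ) : IsPGroup (F.p i) (F.Q i) := fun q => by
  obtain ⟨e, rfl⟩ := F.mkQ_surjective i q
  obtain ⟨k, hk⟩ := (F.isLayer i).qgroup e e.2
  exact ⟨k, by rw [← map_pow, F.mkQ_eq_one]; exact hk⟩

theorem isPGroup_V (i : ℕ) : IsPGroup (F.p i) (F.V i) := fun v => ⟨1, by rw [pow_one, F.pow_p]⟩

theorem not_r_dvd_Q (i : ℕ) : ¬ F.S.r ∣ Nat.card (F.Q i) := fun h =>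
  F.S.hrX (h.trans ((Subgroup.card_quotient_dvd_card _).trans
    (Subgroup.card_dvd_of_le (F.E_le_X i))))

theorem not_r_dvd_V (i : ℕ) : ¬ F.S.r ∣ Nat.card (F.V i) := fun h =>
  F.S.hrX (h.trans ((Subgroup.card_quotient_dvd_card _).trans
    (Subgroup.card_dvd_of_le (F.E_le_X i))))

theorem card_Q_coprime {i : ℕ} {n : ℕ} (hn : n.Coprime (F.p i)) :
    n.Coprime (Nat.card (F.Q i)) := by
  obtain ⟨k, hk⟩ := IsPGroup.iff_card.1 (F.isPGroup_Q i)
  rw [hk]; exact hn.pow_right k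

/-- A subgroup of `Qᵢ` covering `Vᵢ` is everything. -/
theorem eq_top_of_map {i : ℕ} {H : Subgroup (F.Q i)} (h : H.map (F.toV i) = ⊤) : H = ⊤ := by
  set T := (H.comap (F.mkQ i)).map (F.E i).subtype
  have hT : F.E i ≤ T := by
    refine (F.isLayer i).frat T (fun n hn => ⟨⟨n, (F.N_le_M i).trans (F.M_le_E i) hn⟩, ?_, rfl⟩)
      (Subgroup.map_subtype_le _) fun e he => ?_
    · show F.mkQ i _ ∈ H
      rw [F.mkQ_eq_one.2 hn]
      exact H.one_mem
    · obtain ⟨a, ha, hae⟩ : F.mkV i ⟨e, he⟩ ∈ H.map (F.toV i) := h ▸ Subgroup.mem_top _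
      obtain ⟨e', rfl⟩ := F.mkQ_surjective i a
      rw [toV_mk] at hae
      have hm : (e' : G)⁻¹ * e ∈ F.M i := by
        have h1 := (QuotientGroup.eq (s := (F.M i).subgroupOf (F.E i))).1 hae
        exact h1
      rw [show e = (e' : G) * ((e' : G)⁻¹ * e) by group]
      exact Subgroup.mul_mem_sup (Subgroup.mem_map_of_mem _ ha) hm
  refine eq_top_iff.2 fun q _ => ?_
  obtain ⟨e, rfl⟩ := F.mkQ_surjective i q
  obtain ⟨e', he', hee⟩ := hT e.2
  rwa [Subtype.ext (hee : (e' : G) = e)] at he'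

/-- The action of `G` on `Qᵢ`. -/
def actQ (i : ℕ) : G →* MulAut (F.Q i) := secAut (F.E i) (F.N i)

/-- The action of `G` on `Vᵢ`. -/
def actV (i : ℕ) : G →* MulAut (F.V i) := secAut (F.E i) (F.M i)

theorem toV_actQ (i : ℕ) (g : G) (q : F.Q i) :
    F.toV i (F.actQ i g q) = F.actV i g (F.toV i q) := by
  obtain ⟨e, rfl⟩ := F.mkQ_surjective i q
  rfl

theorem actV_eq_self {i : ℕ} {g : G} {e : F.E i} :
    F.actV i g (F.mkV i e) = F.mkV i e ↔ ⁅g, (e : G)⁆ ∈ F.M i := secAut_eq_self_iff _ _ _ _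

theorem actQ_eq_self {i : ℕ} {g : G} {e : F.E i} :
    F.actQ i g (F.mkQ i e) = F.mkQ i e ↔ ⁅g, (e : G)⁆ ∈ F.N i := secAut_eq_self_iff _ _ _ _

theorem actQ_inner {i : ℕ} (e : F.E i) : F.actQ i (e : G) = MulAut.conj (F.mkQ i e) :=
  MulEquiv.ext fun q => by
    obtain ⟨x, rfl⟩ := F.mkQ_surjective i q
    rfl

/-- `Vᵢ` is irreducible. -/
theorem eq_bot_or_top {i : ℕ} (T : Subgroup (F.V i)) (hT : ∀ g, ∀ v ∈ T, F.actV i g v ∈ T) :
    T = ⊥ ∨ T = ⊤ := by
  set T₁ := (T.comap (F.mkV i)).map (F.E i).subtype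
  have hn : T₁.Normal := ⟨by
    rintro _ ⟨x, hx, rfl⟩ g
    exact ⟨⟨g * x * g⁻¹, (F.isLayer i).hEn.conj_mem x x.2 g⟩, hT g _ hx, rfl⟩⟩
  rcases (F.isLayer i).irr T₁ hn (fun m hm => ⟨⟨m, F.M_le_E i hm⟩, by
      show F.mkV i _ ∈ T
      rw [F.mkV_eq_one.2 hm]
      exact T.one_mem, rfl⟩) (Subgroup.map_subtype_le _) with h | h
  · left
    refine eq_bot_iff.2 fun v hv => ?_
    obtain ⟨x, rfl⟩ := F.mkV_surjective i v
    exact Subgroup.mem_bot.2 (F.mkV_eq_one.2 (h.le (Subgroup.mem_map_of_mem _ hv)))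
  · right
    refine eq_top_iff.2 fun v _ => ?_
    obtain ⟨x, rfl⟩ := F.mkV_surjective i v
    obtain ⟨x', hx', hxx⟩ := h.ge x.2
    rwa [Subtype.ext (hxx : (x' : G) = x)] at hx'

theorem V_nontrivial (i : ℕ) : ∃ v : F.V i, v ≠ 1 := by
  obtain ⟨x, hx, hxM⟩ := SetLike.exists_of_lt (F.isLayer i).hME
  exact ⟨F.mkV i ⟨x, hx⟩, fun h => hxM (F.mkV_eq_one.1 h)⟩

/-- The action of `Qᵢ` on `Vᵢ₊₁`. -/
def ρQ (i : ℕ) : F.Q i →* MulAut (F.V (i + 1)) :=
  QuotientGroup.lift _ ((F.actV (i + 1)).comp (F.E i).subtype) fun n hn =>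
    MulEquiv.ext fun v => by
      obtain ⟨e, rfl⟩ := F.mkV_surjective (i + 1) v
      refine F.actV_eq_self.2 ?_
      by_cases hi : i < F.S.t
      · exact (((F.link hi).hN _).1 hn).2 e e.2
      · have heq := F.lay_succ_of_le (not_lt.1 hi)
        have he : (e : G) ∈ F.E i := by rw [E, ← heq]; exact e.2
        show _ ∈ (F.lay (i + 1)).M
        rw [heq]
        exact (F.isLayer i).comm _ n.2 _ he

theorem ρQ_mk (i : ℕ) (e : F.E i) : F.ρQ i (F.mkQ i e) = F.actV (i + 1) (e : G) := rfl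

theorem eq_one_of_ρQ {i : ℕ} (hi : i < F.S.t) {q : F.Q i} (h : F.ρQ i q = 1) : q = 1 := by
  obtain ⟨x, rfl⟩ := F.mkQ_surjective i q
  refine F.mkQ_eq_one.2 (((F.link hi).hN _).2 ⟨x.2, fun e he => ?_⟩)
  refine (F.actV_eq_self (e := ⟨e, he⟩)).1 ?_
  rw [← ρQ_mk, h]
  rfl

theorem actV_ρQ (i : ℕ) (g : G) (q : F.Q i) (v : F.V (i + 1)) :
    F.actV (i + 1) g (F.ρQ i q v) = F.ρQ i (F.actQ i g q) (F.actV (i + 1) g v) := by
  obtain ⟨e, rfl⟩ := F.mkQ_surjective i q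
  show F.actV (i + 1) g (F.actV (i + 1) (e : G) v) =
    F.actV (i + 1) (g * e * g⁻¹) (F.actV (i + 1) g v)
  rw [← MulAut.mul_apply, ← map_mul, ← MulAut.mul_apply, ← map_mul, inv_mul_cancel_right]

/-- Only the identity of `Vᵢ₊₁` is fixed by `Qᵢ`. -/
theorem eq_one_of_forall_fixed {i : ℕ} (hi : i < F.S.t) {v : F.V (i + 1)}
    (hv : ∀ q, F.ρQ i q v = v) : v = 1 := by
  let T : Subgroup (F.V (i + 1)) :=
    { carrier := {v | ∀ q, F.ρQ i q v = v}
      one_mem' := fun q => map_one _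
      mul_mem' := fun ha hb q => by rw [map_mul, ha q, hb q]
      inv_mem' := fun ha q => by rw [map_inv, ha q] }
  rcases F.eq_bot_or_top T (fun g v hv q => by
    obtain ⟨q', rfl⟩ := (F.actQ i g).surjective q
    rw [← F.actV_ρQ, hv q']) with h | h
  · have hvT : v ∈ T := hv
    rw [h] at hvT
    exact Subgroup.mem_bot.1 hvT
  · exfalso
    obtain ⟨x, hx, hxM⟩ := SetLike.exists_of_lt (F.isLayer i).hME
    apply hxM
    refine F.N_le_M i (F.mkQ_eq_one.1 (F.eq_one_of_ρQ hi (q := F.mkQ i ⟨x, hx⟩) ?_))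
    exact MulEquiv.ext fun w => (h.ge (Subgroup.mem_top w) : w ∈ T) _

/-- The coefficient field. -/
abbrev K (i : ℕ) := AlgebraicClosure (ZMod (F.p i))

/-- The dual of `Vᵢ`. -/
abbrev W (i : ℕ) := Additive (F.V i) →+ F.K i

/-- The dual representation of `Qᵢ`. -/
noncomputable def rep (i : ℕ) : F.Q i →* Module.End (F.K (i + 1)) (F.W (i + 1)) :=
  dualRep (F.ρQ i)

/-- The dual representation of `G`. -/
noncomputable def repG (i : ℕ) : G →* Module.End (F.K i) (F.W i) := dualRep (F.actV i)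

theorem rep_mk (i : ℕ) (e : F.E i) : F.rep i (F.mkQ i e) = F.repG (i + 1) (e : G) := by
  refine LinearMap.ext fun φ => AddMonoidHom.ext fun v => ?_
  show φ (Additive.ofMul (F.ρQ i (F.mkQ i e)⁻¹ v.toMul)) =
    φ (Additive.ofMul (F.actV (i + 1) (e : G)⁻¹ v.toMul))
  rw [← map_inv (F.mkQ i), ρQ_mk]
  rfl

theorem repG_rep (i : ℕ) (g : G) (q : F.Q i) (w : F.W (i + 1)) :
    F.repG (i + 1) g (F.rep i q w) = F.rep i (F.actQ i g q) (F.repG (i + 1) g w) := by
  obtain ⟨e, rfl⟩ := F.mkQ_surjective i q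
  rw [show F.actQ i g (F.mkQ i e) =
      F.mkQ i ⟨g * e * g⁻¹, (F.isLayer i).hEn.conj_mem e e.2 g⟩ from rfl, rep_mk, rep_mk,
    ← Module.End.mul_apply, ← map_mul, ← Module.End.mul_apply, ← map_mul, inv_mul_cancel_right]

theorem eq_one_of_rep {i : ℕ} (hi : i < F.S.t) {q : F.Q i} (h : F.rep i q = 1) : q = 1 :=
  F.eq_one_of_ρQ hi (dualRep_eq_one (p := F.p (i + 1)) (F.pow_p (i + 1)) h)

theorem repG_pow_r (i : ℕ) : F.repG i F.S.s ^ F.S.r = 1 := by
  rw [← map_pow, F.S.hs, map_one]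

theorem actQ_pow_r (i : ℕ) : F.actQ i F.S.s ^ F.S.r = 1 := by
  rw [← map_pow, F.S.hs, map_one]

theorem actV_pow_r (i : ℕ) : F.actV i F.S.s ^ F.S.r = 1 := by
  rw [← map_pow, F.S.hs, map_one]

theorem natCast_ne_zero_of_coprime {i : ℕ} {n : ℕ} (hn : n.Coprime (F.p i)) :
    (n : F.K i) ≠ 0 := fun h =>
  (F.p_prime i).ne_one
    (Nat.eq_one_of_dvd_coprimes hn ((CharP.cast_eq_zero_iff (F.K i) (F.p i) n).1 h) dvd_rfl)

theorem r_ne_zero (i : ℕ) : (F.S.r : F.K i) ≠ 0 :=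
  F.natCast_ne_zero_of_coprime ((Nat.coprime_primes F.S.hr (F.p_prime i)).2
    (F.isLayer i).hpr.symm)

theorem card_Q_ne_zero {i : ℕ} (hi : i < F.S.t) : (Nat.card (F.Q i) : F.K (i + 1)) ≠ 0 :=
  F.natCast_ne_zero_of_coprime
    (F.card_Q_coprime ((Nat.coprime_primes (F.p_prime _) (F.p_prime _)).2 (F.p_ne hi).symm)).symm

/-- `Nᵢ` induces inner automorphisms of `Qᵢ₊₁`. -/
theorem N_le_inner (i : ℕ) :
    F.N i ≤ (MulAut.conj : F.Q (i + 1) →* MulAut (F.Q (i + 1))).range.comap (F.actQ (i + 1)) := by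
  have hinner : ∀ x ∈ F.E (i + 1),
      F.actQ (i + 1) x ∈ (MulAut.conj : F.Q (i + 1) →* MulAut (F.Q (i + 1))).range := fun x hx =>
    ⟨F.mkQ (i + 1) ⟨x, hx⟩, (F.actQ_inner ⟨x, hx⟩).symm⟩
  by_cases hi : i < F.S.t
  swap
  · intro x hx
    refine hinner x ?_
    rw [E, F.lay_succ_of_le (not_lt.1 hi)]
    exact (F.N_le_M i).trans (F.M_le_E i) hx
  refine forall_mem_of_forall_prime_power fun x hx l k hl hk => ?_
  by_cases hlp : l = F.p (i + 1)
  · subst hlp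
    refine hinner x ?_
    have hD := F.S.D_normal (i + 1)
    obtain ⟨a, ha⟩ := (F.layer hi.le).hqD x (((F.N_le_M i).trans (F.M_le_E i)) hx)
    have hxD : x ∈ nilRes F.S.X (i + 1) := mem_of_pow_mem (hk ▸ Nat.Coprime.pow k a
      ((Nat.coprime_primes (F.p_prime _) (F.p_prime _)).2 (F.p_ne hi).symm)) ha
    have : ((F.E (i + 1)).subgroupOf (nilRes F.S.X (i + 1))).Normal :=
      Subgroup.Normal.subgroupOf inferInstance _
    exact mem_of_pow_mem (m := (F.E (i + 1)).relIndex (nilRes F.S.X (i + 1)))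
      (hk ▸ ((F.layer hi).idx.pow_left k))
      (((F.E (i + 1)).subgroupOf (nilRes F.S.X (i + 1))).pow_index_mem
        (⟨x, hxD⟩ : nilRes F.S.X (i + 1)) :
          (⟨x, hxD⟩ : nilRes F.S.X (i + 1)) ^ _ ∈ (F.E (i + 1)).subgroupOf (nilRes F.S.X (i + 1)))
  · have h1 := F.mem_N_of_coprime (i := i + 1)
      (hk ▸ coprime_prime_pow hl (F.p_prime _) hlp) (((F.link hi).hN x).1 hx).2
    refine ⟨1, ?_⟩
    rw [map_one]
    refine MulEquiv.ext fun q => ?_
    obtain ⟨e, rfl⟩ := F.mkQ_surjective (i + 1) q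
    exact (F.actQ_eq_self.2 (h1 e e.2)).symm

end Frame

end CfsgLib.Turull73
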