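import Cfsg.Agent.Turull73.Types

/-!
# The irreducible representation of a type

For an irreducible representation `ρ` on which a type `ω` acts, the operators `ρ` of
representatives of `E / R` form a basis of the endomorphisms; so `|E : R| = (dim M)²`, every other
representation of the same type is a module over `End M`, and automorphisms fixing the type lift.
-/

set_option autoImplicit false

open scoped commutatorElement

namespace CfsgLib.Turull73

variable {F E M W : Type*} [Field F] [Group E] [AddCommGroup M] [Module F M] [AddCommGroup W]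
  [Module F W]

instance IsType.supp_normal {ω : E → F} (h : IsType ω) : h.supp.Normal :=
  ⟨fun _ hg a => h.conj_mem hg a⟩

/-- The type `ω` acts on the whole space. -/
def IsRepOf (ρ : E →* Module.End F W) (ω : E → F) : Prop :=
  ∀ g, ω g ≠ 0 → ρ g = ω g • 1

theorem conj_ρ {ρ : E →* Module.End F W} {ω : E → F} (hω : IsType ω) (hρ : IsRepOf ρ ω) (h g : E) :
    ρ h * ρ g * ρ h⁻¹ = ω ⁅h, g⁆ • ρ g := by
  rw [← smul_one_mul (ω ⁅h, g⁆) (ρ g), ← hρ _ (hω.comm h g), ← map_mul, ← map_mul, ← map_mul,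
    commutatorElement_def]
  congr 1
  group

theorem ρ_eq_smul_out {ρ : E →* Module.End F W} {ω : E → F} (hω : IsType ω) (hρ : IsRepOf ρ ω)
    (g : E) :
    ρ g = ω ((QuotientGroup.mk g : E ⧸ hω.supp).out⁻¹ * g) •
      ρ (QuotientGroup.mk g : E ⧸ hω.supp).out := by
  set o := (QuotientGroup.mk g : E ⧸ hω.supp).out
  have hmem : o⁻¹ * g ∈ hω.supp := QuotientGroup.eq.1 (QuotientGroup.out_eq' _)
  rw [← mul_smul_one (ω (o⁻¹ * g)) (ρ o), ← hρ _ hmem, ← map_mul, mul_inv_cancel_left]

variable [Fintype E]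

theorem sum_comm_eq_zero {ω : E → F} (hω : IsType ω) (hcen : ∀ a b c : E, Commute ⁅a, b⁆ c)
    {g : E} (hg : ω g = 0) : ∑ h : E, ω ⁅h, g⁆ = 0 := by
  obtain ⟨k, hk⟩ : ∃ k, ω ⁅k, g⁆ ≠ 1 := by
    by_contra! hall
    refine (hω.mem g).2 (fun h => ?_) hg
    rw [← commutatorElement_inv, hω.inv (hω.comm h g), hall h, inv_one]
  have h1 : ω ⁅k, g⁆ * ∑ h : E, ω ⁅h, g⁆ = ∑ h : E, ω ⁅h, g⁆ := by
    rw [Finset.mul_sum]
    exact Fintype.sum_equiv (Equiv.mulLeft k) _ _ fun h => (hω.comm_mul_left hcen k h g).symm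
  by_contra hs
  exact hk (mul_right_cancel₀ hs (h1.trans (one_mul _).symm))

theorem sum_comm_eq_card {ω : E → F} (hω : IsType ω) {g : E} (hg : ω g ≠ 0) :
    ∑ h : E, ω ⁅h, g⁆ = (Nat.card E : F) := by
  have h1 : ∀ h, ω ⁅h, g⁆ = 1 := fun h => by
    rw [← commutatorElement_inv, hω.inv (hω.comm g h), (hω.mem g).1 hg h, inv_one]
  simp [h1]

variable {ω : E → F} (hω : IsType ω) (hcen : ∀ a b c : E, Commute ⁅a, b⁆ c)
  (hE : (Nat.card E : F) ≠ 0)
include hω hcen hE

/-- The operators of representatives are independent in every non-zero representation. -/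
theorem linearIndependent_out {ρ : E →* Module.End F W} (hρ : IsRepOf ρ ω) [Nontrivial W] :
    LinearIndependent F fun b : E ⧸ hω.supp => ρ b.out := by
  classical
  have := Fintype.ofFinite (E ⧸ hω.supp)
  rw [Fintype.linearIndependent_iff]
  intro a ha b₀
  have h1 : ∑ h : E, ω ⁅h, b₀.out⁻¹⁆ • (ρ h * (∑ b, a b • ρ b.out) * ρ h⁻¹) = 0 := by
    simp [ha]
  simp only [Finset.mul_sum, Finset.sum_mul, mul_smul_comm, smul_mul_assoc, conj_ρ hω hρ,
    Finset.smul_sum, smul_smul] at h1
  rw [Finset.sum_comm] at h1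
  simp only [← mul_assoc, mul_comm (ω ⁅_, b₀.out⁻¹⁆) (a _), mul_assoc (a _),
    ← hω.comm_mul_right hcen, ← Finset.sum_smul, ← Finset.mul_sum] at h1
  rw [Finset.sum_eq_single b₀] at h1
  · rw [inv_mul_cancel, sum_comm_eq_card hω (by rw [hω.one]; exact one_ne_zero), smul_eq_zero] at h1
    rcases h1 with h | h
    · exact (mul_eq_zero.1 h).resolve_right hE
    · exact absurd h (fun h0 => one_ne_zero (α := Module.End F W) (by
        rw [← map_one ρ, ← inv_mul_cancel b₀.out, map_mul, h0, mul_zero]))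
  · intro b _ hb
    rw [sum_comm_eq_zero hω hcen, mul_zero, zero_smul]
    by_contra hne
    apply hb
    rw [← QuotientGroup.out_eq' b, ← QuotientGroup.out_eq' b₀, eq_comm, QuotientGroup.eq]
    exact hne
  · intro h; exact absurd (Finset.mem_univ _) h

variable [IsAlgClosed F] [FiniteDimensional F M] [Nontrivial M] {ρ : E →* Module.End F M}
  (hρ : IsRepOf ρ ω)
  (hirr : ∀ U : Submodule F M, (∀ g, ∀ w ∈ U, ρ g w ∈ U) → U ≠ ⊥ → U = ⊤)

omit [Fintype E] hω hcen hE in
include hirr in
theorem eq_smul_one {T : Module.End F M} (hT : ∀ g, T * ρ g = ρ g * T) : ∃ k : F, T = k • 1 := by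
  obtain ⟨k, hk⟩ := exists_scalar_of_minimal (S := (⊤ : Submodule F M)) (ρ := ρ) top_ne_bot
    (fun _ _ _ => Submodule.mem_top) (fun U _ hU h0 => hirr U hU h0) T
    (fun _ _ => Submodule.mem_top) (fun g w _ => LinearMap.congr_fun (hT g) w)
  exact ⟨k, LinearMap.ext fun w => hk w Submodule.mem_top⟩

include hρ hirr in
theorem finrank_end_le : Module.finrank F (Module.End F M) ≤ Nat.card (E ⧸ hω.supp) := by
  classical
  have := Fintype.ofFinite (E ⧸ hω.supp)
  let S : Module.End F M →ₗ[F] Module.End F M :=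
    { toFun := fun T => ∑ h : E, ρ h * T * ρ h⁻¹
      map_add' := fun a b => by simp [mul_add, add_mul, Finset.sum_add_distrib]
      map_smul' := fun c a => by simp [Finset.smul_sum] }
  obtain ⟨v, hv⟩ := exists_ne (0 : M)
  have hSsc : ∀ T, S T v = 0 → S T = 0 := by
    intro T h0
    obtain ⟨k, hk⟩ := eq_smul_one hirr (T := S T) fun g => by
      show (∑ h : E, ρ h * T * ρ h⁻¹) * ρ g = ρ g * ∑ h : E, ρ h * T * ρ h⁻¹
      rw [Finset.sum_mul, Finset.mul_sum]
      refine (Fintype.sum_equiv (Equiv.mulLeft g) _ _ fun h => ?_).symm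
      simp only [Equiv.coe_mulLeft, mul_inv_rev, map_mul, mul_assoc, ← map_mul ρ g⁻¹,
        inv_mul_cancel, map_one, mul_one]
    rw [hk] at h0 ⊢
    simp only [LinearMap.smul_apply, Module.End.one_apply, smul_eq_zero, hv, or_false] at h0
    rw [h0, zero_smul]
  obtain ⟨φ, hφ⟩ := Module.Projective.exists_dual_ne_zero F hv
  let f : Module.End F M →ₗ[F] (E ⧸ hω.supp → F) :=
    LinearMap.pi fun b => φ ∘ₗ LinearMap.applyₗ v ∘ₗ S ∘ₗ LinearMap.mulRight F (ρ b.out)
  have hinj : Function.Injective f := by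
    rw [injective_iff_map_eq_zero]
    intro T hT
    have hb : ∀ b : E ⧸ hω.supp, S (T * ρ b.out) = 0 := by
      intro b
      refine hSsc _ ?_
      have h := congrFun hT b
      obtain ⟨k, hk⟩ := eq_smul_one hirr (T := S (T * ρ b.out)) fun g => by
        show (∑ h : E, ρ h * (T * ρ b.out) * ρ h⁻¹) * ρ g =
          ρ g * ∑ h : E, ρ h * (T * ρ b.out) * ρ h⁻¹
        rw [Finset.sum_mul, Finset.mul_sum]
        refine (Fintype.sum_equiv (Equiv.mulLeft g) _ _ fun h => ?_).symm
        simp only [Equiv.coe_mulLeft, mul_inv_rev, map_mul, mul_assoc, ← map_mul ρ g⁻¹,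
          inv_mul_cancel, map_one, mul_one]
      rw [hk]
      simp only [f, LinearMap.pi_apply, LinearMap.comp_apply, LinearMap.mulRight_apply, hk,
        LinearMap.applyₗ_apply_apply, LinearMap.smul_apply, Module.End.one_apply, map_smul,
        smul_eq_mul, Pi.zero_apply, mul_eq_zero, hφ, or_false] at h
      simp [h]
    have hg : ∀ g, ∑ h : E, ω ⁅h, g⁆ • (ρ h * T * ρ h⁻¹) = 0 := by
      intro g
      have h1 : S (T * ρ g) = 0 := by
        rw [ρ_eq_smul_out hω hρ g, mul_smul_comm, map_smul, hb, smul_zero]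
      have h2 : S (T * ρ g) = (∑ h : E, ω ⁅h, g⁆ • (ρ h * T * ρ h⁻¹)) * ρ g := by
        show (∑ h : E, ρ h * (T * ρ g) * ρ h⁻¹) = _
        rw [Finset.sum_mul]
        refine Finset.sum_congr rfl fun h _ => ?_
        rw [smul_mul_assoc, mul_assoc (ρ h * T), ← mul_smul_comm (ω ⁅h, g⁆), ← mul_smul_comm,
          ← conj_ρ hω hρ, ← mul_assoc (ρ h⁻¹), ← mul_assoc (ρ h⁻¹), ← map_mul, inv_mul_cancel,
          map_one, one_mul]
        noncomm_ring
      rw [h2] at h1
      have h3 := congrArg (· * ρ g⁻¹) h1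
      simpa [mul_assoc, ← map_mul] using h3
    have h4 : ∑ g : E, ∑ h : E, ω ⁅h, g⁆ • (ρ h * T * ρ h⁻¹) = 0 :=
      Finset.sum_eq_zero fun g _ => hg g
    rw [Finset.sum_comm] at h4
    have h5 : ∀ h : E, (∑ g : E, ω ⁅h, g⁆ • (ρ h * T * ρ h⁻¹)) =
        if h ∈ hω.supp then (Nat.card E : F) • T else 0 := by
      intro h
      rw [← Finset.sum_smul]
      have hinv : (∑ g : E, ω ⁅h, g⁆) = ∑ g : E, ω ⁅g, h⁻¹⁆ := by
        refine Finset.sum_congr rfl fun g _ => ?_
        have h6 := hω.comm_mul_right hcen g h h⁻¹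
        rw [mul_inv_cancel, commutatorElement_one_right, hω.one] at h6
        rw [eq_inv_of_mul_eq_one_right h6.symm, ← hω.inv (hω.comm g h), commutatorElement_inv]
      split_ifs with hh
      · rw [hinv, sum_comm_eq_card hω (hω.inv_ne hh), hρ _ hh, hρ _ (hω.inv_ne hh), hω.inv hh]
        simp only [mul_smul_comm, smul_mul_assoc, one_mul, mul_one, smul_smul]
        rw [inv_mul_cancel₀ hh, mul_one]
      · rw [hinv, sum_comm_eq_zero hω hcen, zero_smul]
        by_contra h'
        exact hh (by simpa using hω.supp.inv_mem h')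
    rw [Finset.sum_congr rfl fun h _ => h5 h, Finset.sum_ite, Finset.sum_const_zero, add_zero,
      Finset.sum_const, ← Nat.cast_smul_eq_nsmul F, smul_smul, smul_eq_zero,
      ← Fintype.card_subtype, ← Nat.card_eq_fintype_card] at h4
    exact h4.resolve_left (mul_ne_zero (card_supp_ne hE hω.supp) hE)
  refine (LinearMap.finrank_le_finrank_of_injective hinj).trans (le_of_eq ?_)
  rw [Module.finrank_pi, Nat.card_eq_fintype_card]

include hρ hirr in
theorem card_quot_eq : Nat.card (E ⧸ hω.supp) = Module.finrank F M ^ 2 := by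
  have := Fintype.ofFinite (E ⧸ hω.supp)
  rw [sq, ← Module.finrank_linearMap F F M M]
  refine le_antisymm ?_ (finrank_end_le hω hcen hE hρ hirr)
  rw [Nat.card_eq_fintype_card]
  exact (linearIndependent_out hω hcen hE hρ).fintype_card_le_finrank

/-- The basis of `End M` given by representatives of `E / R`. -/
noncomputable def endBasis : Module.Basis (E ⧸ hω.supp) F (Module.End F M) :=
  letI := Fintype.ofFinite (E ⧸ hω.supp)
  basisOfLinearIndependentOfCardEqFinrank (linearIndependent_out hω hcen hE hρ) (by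
    rw [← Nat.card_eq_fintype_card, card_quot_eq hω hcen hE hρ hirr,
      Module.finrank_linearMap, sq])

theorem endBasis_apply (b : E ⧸ hω.supp) : endBasis hω hcen hE hρ hirr b = ρ b.out := by
  simp [endBasis]

include hρ hirr in
/-- Every representation of the same type is a module over `End M`. -/
theorem exists_algHom {ρ' : E →* Module.End F W} (hρ' : IsRepOf ρ' ω) :
    ∃ Ψ : Module.End F M →ₐ[F] Module.End F W,
      (∀ g, Ψ (ρ g) = ρ' g) ∧ (Nontrivial W → Function.Injective Ψ) := by
  classical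
  let e := endBasis hω hcen hE hρ hirr
  have he : ∀ b, e b = ρ b.out := endBasis_apply hω hcen hE hρ hirr
  let f : Module.End F M →ₗ[F] Module.End F W := e.constr F fun b => ρ' b.out
  have hfb : ∀ b, f (e b) = ρ' b.out := fun b => e.constr_basis F _ b
  have hf : ∀ g, f (ρ g) = ρ' g := fun g => by
    rw [ρ_eq_smul_out hω hρ g, map_smul, ← he, hfb, ← ρ_eq_smul_out hω hρ' g]
  have hmul : ∀ A B, f (A * B) = f A * f B := by
    have : (LinearMap.mul F (Module.End F M)).compr₂ f =
        (LinearMap.mul F (Module.End F W)).compl₁₂ f f := e.ext fun a => e.ext fun b => by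
      simp only [LinearMap.compr₂_apply, LinearMap.compl₁₂_apply, LinearMap.mul_apply']
      rw [he, he, ← map_mul, hf, hf, hf, map_mul]
    exact fun A B => LinearMap.congr_fun (LinearMap.congr_fun this A) B
  refine ⟨AlgHom.ofLinearMap f (by rw [← map_one ρ, hf, map_one]) hmul, hf, fun hW => ?_⟩
  show Function.Injective f
  rw [injective_iff_map_eq_zero]
  intro x hx
  have := Fintype.ofFinite (E ⧸ hω.supp)
  rw [← e.sum_repr x, map_sum] at hx
  simp only [map_smul, hfb] at hx
  refine e.repr.injective (Finsupp.ext fun b => ?_)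
  simpa using Fintype.linearIndependent_iff.1 (linearIndependent_out hω hcen hE hρ') _ hx b

include hρ hirr in
/-- An automorphism fixing the type is induced by a linear automorphism. -/
theorem exists_intertwiner {α : MulAut E} (hα : ∀ g, ω (α g) = ω g) :
    ∃ T : (Module.End F M)ˣ, ∀ g, (T : Module.End F M) * ρ g = ρ (α g) * T := by
  obtain ⟨Ψ, hΨ, hinj⟩ := exists_algHom hω hcen hE hρ hirr (ρ' := ρ.comp α.toMonoidHom)
    (fun g hg => by
      show ρ (α g) = _
      rw [hρ _ (by rw [hα]; exact hg), hα])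
  have hΨinj := hinj inferInstance
  obtain ⟨v, hv⟩ := exists_ne (0 : M)
  obtain ⟨φ, hφ⟩ := Module.Projective.exists_dual_ne_zero F hv
  let R : M → Module.End F M := fun m => LinearMap.smulRight ((φ v)⁻¹ • φ) m
  have hR : ∀ m x, R m x = ((φ v)⁻¹ * φ x) • m := fun m x => by simp [R]
  have hRv : R v * R v = R v := LinearMap.ext fun x => by
    rw [Module.End.mul_apply, hR, hR, map_smul, smul_eq_mul, mul_comm _ (φ v), ← mul_assoc,
      inv_mul_cancel₀ hφ, one_mul]
  obtain ⟨w, hw⟩ : ∃ w, Ψ (R v) w ≠ 0 := by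
    by_contra! h
    have h0 : R v = 0 := hΨinj (by rw [map_zero]; exact LinearMap.ext h)
    have := LinearMap.congr_fun h0 v
    rw [hR, inv_mul_cancel₀ hφ, one_smul] at this
    exact hv this
  let w' := Ψ (R v) w
  let T : Module.End F M :=
    { toFun := fun m => Ψ (R m) w'
      map_add' := fun a b => by
        have : R (a + b) = R a + R b := LinearMap.ext fun x => by simp [hR, smul_add]
        rw [this, map_add]; rfl
      map_smul' := fun c a => by
        have : R (c • a) = c • R a := LinearMap.ext fun x => by simp [hR, smul_comm c]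
        rw [this, map_smul]; rfl }
  have hTA : ∀ A, T * A = Ψ A * T := fun A => LinearMap.ext fun m => by
    show Ψ (R (A m)) w' = Ψ A (Ψ (R m) w')
    rw [← Module.End.mul_apply (Ψ A), ← map_mul]
    congr 2
    exact LinearMap.ext fun x => by simp [hR, Module.End.mul_apply, map_smul]
  have hTv : T v = w' := by
    show Ψ (R v) (Ψ (R v) w) = Ψ (R v) w
    rw [← Module.End.mul_apply, ← map_mul, hRv]
  have hTinj : Function.Injective T := by
    rw [← LinearMap.ker_eq_bot]
    by_contra hK
    have := hirr (LinearMap.ker T) (fun g m hm => by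
      rw [LinearMap.mem_ker] at hm ⊢
      have h := LinearMap.congr_fun (hTA (ρ g)) m
      rw [Module.End.mul_apply, Module.End.mul_apply, hm, map_zero] at h
      exact h) hK
    have hv' : v ∈ LinearMap.ker T := by rw [this]; exact Submodule.mem_top
    rw [LinearMap.mem_ker, hTv] at hv'
    exact hw hv'
  have hu : IsUnit T := (Module.End.isUnit_iff T).2
    ⟨hTinj, LinearMap.surjective_of_injective hTinj⟩
  refine ⟨hu.unit, fun g => ?_⟩
  rw [IsUnit.unit_spec, hTA, hΨ]
  rfl

omit [Nontrivial M] in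
include hρ hirr in
/-- An automorphism of finite order fixing the type is induced by one of the same order. -/
theorem exists_intertwiner_pow [Nontrivial M] {α : MulAut E} {n : ℕ} (hn : 0 < n) (hαn : α ^ n = 1)
    (hα : ∀ g, ω (α g) = ω g) :
    ∃ T : (Module.End F M)ˣ, T ^ n = 1 ∧
      ∀ g, (T : Module.End F M) * ρ g = ρ (α g) * T := by
  obtain ⟨T, hT⟩ := exists_intertwiner hω hcen hE hρ hirr hα
  have hTm : ∀ m g, ((T ^ m : (Module.End F M)ˣ) : Module.End F M) * ρ g =
      ρ ((α ^ m) g) * ((T ^ m : (Module.End F M)ˣ) : Module.End F M) := by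
    intro m
    induction m with
    | zero => simp
    | succ m ih =>
      intro g
      rw [pow_succ', Units.val_mul, mul_assoc, ih, ← mul_assoc, hT, mul_assoc, pow_succ']
      rfl
  obtain ⟨k, hk⟩ := eq_smul_one hirr (T := ((T ^ n : (Module.End F M)ˣ) : Module.End F M))
    fun g => by rw [hTm, hαn]; rfl
  have hk0 : k ≠ 0 := by
    intro h0
    rw [h0, zero_smul] at hk
    exact (T ^ n).ne_zero hk
  obtain ⟨l, hl⟩ := IsAlgClosed.exists_pow_nat_eq k⁻¹ hn
  have hl0 : l ≠ 0 := by
    intro h0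
    rw [h0, zero_pow hn.ne'] at hl
    exact inv_ne_zero hk0 hl.symm
  have hu : IsUnit (l • (T : Module.End F M)) := by
    rw [← smul_one_mul, ← Algebra.algebraMap_eq_smul_one]
    exact ((isUnit_iff_ne_zero.2 hl0).map _).mul T.isUnit
  refine ⟨hu.unit, Units.ext ?_, fun g => ?_⟩
  · rw [Units.val_pow_eq_pow_val, IsUnit.unit_spec, smul_pow, hl, ← Units.val_pow_eq_pow_val, hk,
      smul_smul, inv_mul_cancel₀ hk0, one_smul, Units.val_one]
  · rw [IsUnit.unit_spec, smul_mul_assoc, hT, mul_smul_comm]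

omit [Fintype E] hω hcen hE [Nontrivial M] in
include hirr in
/-- Lifts of commuting automorphisms of coprime order commute. -/
theorem commute_of_intertwiner [Nontrivial M] {α β : MulAut E} (hαβ : Commute α β)
    {S T : (Module.End F M)ˣ} {m n : ℕ} (hS : S ^ m = 1) (hT : T ^ n = 1) (hmn : m.Coprime n)
    (hSα : ∀ g, (S : Module.End F M) * ρ g = ρ (α g) * S)
    (hTβ : ∀ g, (T : Module.End F M) * ρ g = ρ (β g) * T) : Commute S T := by
  have hinv : ∀ (U : (Module.End F M)ˣ) (γ : MulAut E),
      (∀ g, (U : Module.End F M) * ρ g = ρ (γ g) * U) →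
      ∀ g, ((U⁻¹ : (Module.End F M)ˣ) : Module.End F M) * ρ g =
        ρ (γ.symm g) * ((U⁻¹ : (Module.End F M)ˣ) : Module.End F M) := by
    intro U γ h g
    apply U.isUnit.mul_left_cancel
    rw [← mul_assoc, U.mul_inv, one_mul, ← mul_assoc, h, γ.apply_symm_apply, mul_assoc, U.mul_inv,
      mul_one]
  set c := S * T * S⁻¹ * T⁻¹
  obtain ⟨k, hk⟩ := eq_smul_one hirr (T := (c : Module.End F M)) fun g => by
    simp only [c, Units.val_mul, mul_assoc]
    rw [hinv T β hTβ, ← mul_assoc ((S⁻¹ : (Module.End F M)ˣ) : Module.End F M),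
      hinv S α hSα]
    simp only [← mul_assoc]
    rw [mul_assoc (S : Module.End F M), hTβ, ← mul_assoc, hSα]
    congr 4
    have h1 : α (β (α.symm (β.symm g))) = (α * β * α⁻¹ * β⁻¹) g := rfl
    rw [h1, hαβ.eq, mul_inv_cancel_right, mul_inv_cancel, MulAut.one_apply]
  have hcent : ∀ U : (Module.End F M)ˣ, Commute c U := fun U => Units.ext (by
    show (c : Module.End F M) * U = U * c
    rw [hk, smul_mul_assoc, one_mul, mul_smul_comm, mul_one])
  have hST : S * T * S⁻¹ = c * T := by simp only [c, inv_mul_cancel_right]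
  have hc1 : c ^ n = 1 := by
    have h := congrArg (· ^ n) hST
    simp only [conj_pow, hT, (hcent T).mul_pow, mul_one, mul_inv_cancel] at h
    exact h.symm
  have hTS : T * S * T⁻¹ = c⁻¹ * S := by
    simp only [c, mul_inv_rev, inv_inv, mul_assoc, inv_mul_cancel, mul_one]
  have hc2 : c ^ m = 1 := by
    have h := congrArg (· ^ m) hTS
    simp only [conj_pow, hS, ((hcent S).inv_left).mul_pow, mul_one, mul_inv_cancel, inv_pow] at h
    exact inv_eq_one.1 h.symm
  have : c = 1 := eq_one_of_coprime_pow hmn hc2 hc1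
  rw [this, one_mul, mul_inv_eq_iff_eq_mul] at hST
  exact hST

end CfsgLib.Turull73
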