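import Cfsg.Agent.Turull73.Central

/-!
# An automorphism trivial on the fixed vectors induces `1` or the inversion on `E / R`
-/

set_option autoImplicit false

open scoped commutatorElement

namespace CfsgLib.Turull73

variable {F E W : Type*} [Field F] [IsAlgClosed F] [AddCommGroup W] [Module F W]
  [FiniteDimensional F W] [Nontrivial W] [Group E] [Fintype E]

/-- The restriction of an automorphism to an invariant subgroup of a finite group. -/
noncomputable def restrictAut (H : Subgroup E) (a : MulAut E) (ha : ∀ g ∈ H, a g ∈ H) : MulAut H :=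
  MulEquiv.ofBijective ((a.toMonoidHom.comp H.subtype).codRestrict H fun g => ha g g.2)
    (Finite.injective_iff_bijective.1 fun _ _ h =>
      Subtype.ext (a.injective (congrArg Subtype.val h)))

theorem restrictAut_apply (H : Subgroup E) (a : MulAut E) (ha : ∀ g ∈ H, a g ∈ H) (g : H) :
    (restrictAut H a ha g : E) = a g := rfl

theorem restrictAut_pow (H : Subgroup E) (a : MulAut E) (ha : ∀ g ∈ H, a g ∈ H) (g : H) :
    ∀ n : ℕ, (((restrictAut H a ha) ^ n) g : E) = (a ^ n) g
  | 0 => rfl
  | n + 1 => by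
    rw [pow_succ', pow_succ', MulAut.mul_apply, MulAut.mul_apply, restrictAut_apply,
      restrictAut_pow H a ha g n]

theorem toEquiv_apply {G : Type*} [Group G] (f : MulAut G) (b : G) : f.toEquiv b = f b := rfl

set_option maxHeartbeats 1000000

namespace FixedType

variable {r : ℕ} (D : FixedType E F r) {ρW : E →* Module.End F W}
  (hρW : IsRepOf ρW D.ω) {s : Module.End F W} (hsr : s ^ r = 1)
  (hs : ∀ g w, s (ρW g w) = ρW (D.σ g) (s w))

include hρW hsr hs in
theorem trivial_or_inversion {α : MulAut E} {d : ℕ} (hd : 0 < d) (hrd : r.Coprime d)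
    (hdE : d.Coprime (Nat.card E)) (hα : α ^ d = 1) (hσα : Commute D.σ α)
    (hαω : ∀ g, D.ω (α g) = D.ω g) {t : Module.End F W}
    (ht : ∀ g w, t (ρW g w) = ρW (α g) (t w)) (htC : ∀ w, s w = w → t w = w) :
    (∀ g, D.ω (g⁻¹ * α g) ≠ 0) ∨ ∀ g, D.ω (g * α g) ≠ 0 := by
  classical
  have hr := D.hr
  let B := E ⧸ D.isType.supp
  set μ : MulAut B := D.isType.quotAut α hαω with hμdef
  set π : MulAut B := D.isType.quotAut D.σ D.hσω
  by_cases hB : Nat.card B = 1
  · have : Subsingleton B := (Nat.card_eq_one_iff_unique.1 hB).1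
    exact Or.inl fun g => (QuotientGroup.eq (s := D.isType.supp)).1 (Subsingleton.elim _ _)
  obtain ⟨ζ, hζ⟩ := D.exists_root
  obtain ⟨M, S, U, e, hM, hSr, hUd, hSU, heS, heU, hcard, i, -, hi, -⟩ :=
    D.exists_data hρW hsr hs hd hrd hdE hα hσα hαω hζ
  have hi := hi t ht htC
  have hπr : π.toEquiv ^ r = 1 := by
    rw [toEquiv_pow, D.isType.quotAut_pow_eq_one D.σ D.hσω D.hσ]; rfl
  have hπμ : Commute π μ := D.isType.quotAut_commute D.hσω hαω hσα
  have hμd : μ ^ d = 1 := D.isType.quotAut_pow_eq_one α hαω hα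
  obtain ⟨hbd, -, -, -⟩ := blockDim_bounds e hr hζ D.hrF hSr heS hπr D.fix_iff
  have hUu : IsUnit U := IsUnit.of_pow_eq_one hUd hd.ne'
  set N := Module.finrank F M
  set n := blockDim r ζ S i
  have hNB : Nat.card B = N ^ 2 := hcard
  have hr2 := hr.two_le
  have hN1 : 1 < N := by
    have := Module.finrank_pos (R := F) (M := M)
    rcases Nat.lt_or_ge 1 N with h | h
    · exact h
    · exact absurd (by rw [hNB, le_antisymm h this, one_pow]) hB
  -- a power of prime order of `μ` fixes only the identity
  have hprime : ∀ k l : ℕ, l.Prime → l ≠ r → ¬ l ∣ Nat.card E → μ ^ k ≠ 1 → (μ ^ k) ^ l = 1 →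
      (∀ b, (μ ^ k) b = b → b = 1) ∧ n ≤ 1 := by
    intro k l hl hlr hlE hk1 hkl
    set v : MulAut B := μ ^ k with hv
    have hπv : Commute π v := hπμ.pow_right k
    have hvk : ∀ g : E, v (g : B) = (((α ^ k) g : E) : B) := fun g =>
      D.isType.quotAut_pow α hαω k g
    have hUk : ∀ m b, U ^ m * e b = e ((μ ^ m) b) * U ^ m := by
      intro m
      induction m with
      | zero => intro b; simp
      | succ m ih =>
        intro b
        rw [pow_succ', mul_assoc, ih, ← mul_assoc, heU, mul_assoc, pow_succ' μ, MulAut.mul_apply,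
          toEquiv_apply]
    have hiV : ∀ A, Commute S A →
        U ^ k * A * eigProj r ζ S i = A * U ^ k * eigProj r ζ S i := by
      intro A hA
      clear hv hπv hvk hk1 hkl
      induction k with
      | zero => simp
      | succ m ih =>
        have hUP : Commute U (eigProj r ζ S i) := (commute_eigProj hSU i).symm
        calc U ^ (m + 1) * A * eigProj r ζ S i = U * (U ^ m * A * eigProj r ζ S i) := by
              rw [pow_succ']; noncomm_ring
          _ = U * (A * U ^ m * eigProj r ζ S i) := by rw [ih]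
          _ = U * A * (eigProj r ζ S i * U ^ m) := by
              rw [← (hUP.pow_left m).eq]; noncomm_ring
          _ = A * U * (eigProj r ζ S i * U ^ m) := by
              rw [← mul_assoc (U * A), hi A hA, mul_assoc (A * U)]
          _ = A * U ^ (m + 1) * eigProj r ζ S i := by
              rw [← (hUP.pow_left m).eq, pow_succ']; noncomm_ring
    have hSQ : r * n ^ 2 ≤ Nat.card {b : B // v.toEquiv b = b} + (r - 1) :=
      sq_blockDim_le e hr hζ D.hrF hSr heS hπr D.fix_iff hl hlr
        (ν := v.toEquiv) (V := U ^ k)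
        (fun h => hk1 (MulEquiv.ext fun b => congrArg (fun f : Equiv.Perm B => f b) h))
        (by rw [toEquiv_pow, hkl]; rfl) (fun b => hUk k b) (hUu.pow k) (hSU.pow_right k)
        (Equiv.ext fun b => congrArg (fun f : MulAut B => f b) hπv.eq) i hiV
    -- the norm and its kernel
    letI : CommGroup B := { (inferInstance : Group B) with mul_comm := D.isType.quot_comm }
    let Nm : B →* B :=
      { toFun := fun b => ∏ c ∈ Finset.range l, (v ^ c) b
        map_one' := by simp
        map_mul' := fun a b => by rw [← Finset.prod_mul_distrib]; simp }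
    have hNm : ∀ b, Nm b = ∏ c ∈ Finset.range l, (v ^ c) b := fun b => rfl
    have hNmv : ∀ b, Nm (v b) = Nm b := by
      intro b
      have h1 := Finset.prod_range_succ' (fun c => (v ^ c) b) l
      have h2 := Finset.prod_range_succ (fun c => (v ^ c) b) l
      rw [h1, hkl, pow_zero] at h2
      rw [hNm, hNm, ← mul_right_cancel h2]
      exact Finset.prod_congr rfl fun c _ => by rw [pow_succ, MulAut.mul_apply]
    have hvNm : ∀ b, v (Nm b) = Nm b := by
      intro b
      conv_rhs => rw [← hNmv b]
      rw [hNm, hNm, map_prod]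
      exact Finset.prod_congr rfl fun c _ => by
        rw [← MulAut.mul_apply, ← pow_succ', pow_succ, MulAut.mul_apply]
    have hvfix : ∀ b, v b = b → ∀ c, (v ^ c) b = b := fun b hb c => by
      induction c with
      | zero => rfl
      | succ c ih => rw [pow_succ', MulAut.mul_apply, ih, hb]
    have hlB : l.Coprime (Nat.card B) :=
      (hl.coprime_iff_not_dvd.2 hlE).coprime_dvd_right (Subgroup.card_quotient_dvd_card _)
    have hNmfix : ∀ b, v b = b → Nm b = b ^ l := fun b hb => by
      rw [hNm, Finset.prod_congr rfl fun c _ => hvfix b hb c, Finset.prod_const, Finset.card_range]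
    have hrange : Nat.card Nm.range = Nat.card {b : B // v.toEquiv b = b} := by
      refine Nat.card_congr (Equiv.subtypeEquivRight fun b => ⟨?_, fun hb => ?_⟩)
      · rintro ⟨a, rfl⟩; exact hvNm a
      · obtain ⟨j, hj⟩ := exists_pow_eq_self_of_coprime (x := b)
          (hlB.coprime_dvd_right (orderOf_dvd_natCard b))
        refine ⟨b ^ j, ?_⟩
        rw [map_pow, hNmfix b hb]
        exact hj
    have hsplit : Nat.card {b : B // v.toEquiv b = b} * Nat.card Nm.ker = N ^ 2 := by
      rw [← hrange, ← hNB, ← Subgroup.index_ker, mul_comm, Subgroup.card_mul_index]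
    -- the preimage of the kernel
    let H : Subgroup E := Nm.ker.comap (QuotientGroup.mk' D.isType.supp)
    have hHv : ∀ g ∈ H, (α ^ k) g ∈ H := by
      intro g hg
      show Nm (((α ^ k) g : E) : B) = 1
      rw [← hvk, hNmv]
      exact hg
    have hHσ : ∀ g ∈ H, D.σ g ∈ H := by
      intro g hg
      show Nm (π (g : B)) = 1
      rw [hNm, Finset.prod_congr rfl fun c _ => show (v ^ c) (π (g : B)) = π ((v ^ c) (g : B)) by
        rw [← MulAut.mul_apply, ← MulAut.mul_apply, (hπv.pow_right c).eq], ← map_prod, ← hNm,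
        show Nm (g : B) = 1 from hg, map_one]
    have hnd : ∀ g ∈ H, (∀ h ∈ H, D.ω ⁅g, h⁆ = 1) → D.ω g ≠ 0 := by
      intro g hg hperp
      rw [D.isType.mem]
      intro h
      let χ : E → B →* F := fun x => QuotientGroup.lift D.isType.supp
        { toFun := fun y => D.ω ⁅x, y⁆
          map_one' := by simp [D.isType.one]
          map_mul' := fun y z => D.isType.comm_mul_right D.hcen x y z }
        (fun y hy => by
          show D.ω ⁅x, y⁆ = 1
          rw [← commutatorElement_inv, D.isType.inv (D.isType.comm y x),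
            (D.isType.mem y).1 hy x, inv_one])
      have hχ : ∀ x y : E, χ x (y : B) = D.ω ⁅x, y⁆ := fun x y => rfl
      have hχv : ∀ x y : E, χ ((α ^ k) x) (v (y : B)) = χ x (y : B) := fun x y => by
        rw [hvk, hχ, hχ, ← map_commutatorElement, IsType.pow_fix hαω]
      have hker : ∀ b ∈ Nm.ker, χ g b = 1 := by
        intro b hb
        induction b using QuotientGroup.induction_on with | H y => ?_
        exact hperp y hb
      -- `χ g` is trivial on the fixed points
      have hfixed : ∀ b, v b = b → χ g b = 1 := by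
        intro b hb
        induction b using QuotientGroup.induction_on with | H y => ?_
        have h1 : ∀ c, χ (((α ^ k) ^ c) g) (y : B) = χ g (y : B) := fun c => by
          induction c with
          | zero => rfl
          | succ c ih =>
            conv_lhs => rw [← hb, pow_succ', MulAut.mul_apply, hχv]
            exact ih
        have h2 : ∀ m, (∏ c ∈ Finset.range m, χ (((α ^ k) ^ c) g) (y : B)) =
            χ g (y : B) ^ m := fun m => by
          rw [Finset.prod_congr rfl fun c _ => h1 c, Finset.prod_const, Finset.card_range]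
        have h3 : ∀ m, ∃ z : E, (z : B) = ∏ c ∈ Finset.range m, (v ^ c) (g : B) ∧
            D.ω ⁅z, y⁆ = ∏ c ∈ Finset.range m, χ (((α ^ k) ^ c) g) (y : B) := by
          intro m
          induction m with
          | zero => exact ⟨1, by simp, by simp [D.isType.one]⟩
          | succ m ih =>
            obtain ⟨z, hz1, hz2⟩ := ih
            refine ⟨z * ((α ^ k) ^ m) g, ?_, ?_⟩
            · rw [Finset.prod_range_succ, QuotientGroup.mk_mul, hz1]
              congr 1
              rw [hv, ← pow_mul, ← pow_mul, D.isType.quotAut_pow]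
            · rw [Finset.prod_range_succ, D.isType.comm_mul_left D.hcen, hz2, hχ]
        obtain ⟨z, hz1, hz2⟩ := h3 l
        rw [h2, ← hNm, show Nm (g : B) = 1 from hg] at *
        have hz : D.ω z ≠ 0 := (QuotientGroup.eq_one_iff z).1 hz1
        rw [(D.isType.mem z).1 hz y] at hz2
        exact eq_one_of_coprime_pow (hl.coprime_iff_not_dvd.2 hlE) hz2.symm
          (D.isType.pow_card (D.isType.comm _ _))
      have hl2 : χ g (h : B) ^ l = 1 := by
        have h4 : ∀ c, χ g ((h : B) * ((v ^ c) (h : B))⁻¹) = 1 := fun c => hker _ (by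
          rw [MonoidHom.mem_ker, map_mul, map_inv]
          have : ∀ c, Nm ((v ^ c) (h : B)) = Nm (h : B) := fun c => by
            induction c with
            | zero => rfl
            | succ c ih => rw [pow_succ', MulAut.mul_apply, hNmv, ih]
          rw [this, mul_inv_cancel])
        have h5 : χ g (Nm (h : B)) = χ g (h : B) ^ l := by
          rw [hNm, map_prod, ← Finset.card_range l, ← Finset.prod_const]
          refine Finset.prod_congr (by rw [Finset.card_range]) fun c _ => ?_
          have h6 := h4 c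
          calc χ g ((v ^ c) (h : B))
              = χ g ((h : B) * ((v ^ c) (h : B))⁻¹) * χ g ((v ^ c) (h : B)) := by rw [h6, one_mul]
            _ = χ g (h : B) := by rw [← map_mul, inv_mul_cancel_right]
        rw [← h5, hfixed _ (hvNm _)]
      exact eq_one_of_coprime_pow (hl.coprime_iff_not_dvd.2 hlE) hl2
        (D.isType.pow_card (D.isType.comm _ _))
    -- the restricted problem
    have hT := D.isType.restrict H hnd
    have hσ' : restrictAut H D.σ hHσ ^ r = 1 := MulEquiv.ext fun g => Subtype.ext (by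
      rw [restrictAut_pow, D.hσ]; rfl)
    let D' : FixedType H F r :=
      { ω := fun g => D.ω g
        σ := restrictAut H D.σ hHσ
        isType := hT
        hcen := fun a b c => Subtype.ext (D.hcen a b c).eq
        hE := card_supp_ne D.hE H
        hr := hr
        hrE := fun h => D.hrE (h.trans (Subgroup.card_subgroup_dvd_card H))
        hrF := D.hrF
        hσ := hσ'
        hσω := fun g => D.hσω g
        fpf := fun g hg => D.fpf g hg }
    let ρ' : H →* Module.End F W := ρW.comp H.subtype
    have hρ' : IsRepOf ρ' D'.ω := fun g hg => hρW g hg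
    have hs' : ∀ (g : H) w, s (ρ' g w) = ρ' (D'.σ g) (s w) := fun g w => hs g w
    have hcardH : Nat.card (H ⧸ D'.isType.supp) = Nat.card Nm.ker := by
      let ψ : H →* Nm.ker := ((QuotientGroup.mk' D.isType.supp).comp H.subtype).codRestrict Nm.ker
        fun g => g.2
      have hsurj : Function.Surjective ψ := by
        rintro ⟨b, hb⟩
        obtain ⟨g, rfl⟩ := QuotientGroup.mk'_surjective D.isType.supp b
        exact ⟨⟨g, hb⟩, Subtype.ext rfl⟩
      have hk : ψ.ker = D'.isType.supp := by
        ext g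
        rw [MonoidHom.mem_ker, ← Subtype.coe_inj]
        exact QuotientGroup.eq_one_iff (g : E)
      rw [← hk]
      exact Nat.card_congr (QuotientGroup.quotientKerEquivOfSurjective ψ hsurj).toEquiv
    obtain ⟨ζ', hζ'⟩ := D'.exists_root
    obtain ⟨M', S', U', e', hM', hSr', -, -, heS', -, hcard', -⟩ :=
      D'.exists_data hρ' hsr hs' (α := 1) Nat.one_pos (Nat.coprime_one_right r)
        (Nat.coprime_one_left _) (one_pow 1) (Commute.one_right _) (fun _ => rfl) hζ'
    obtain ⟨-, -, -, hge'⟩ := blockDim_bounds e' hr hζ' D'.hrF hSr' heS'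
      (by rw [toEquiv_pow, D'.isType.quotAut_pow_eq_one D'.σ D'.hσω D'.hσ]; rfl) D'.fix_iff
    have hK1 : 1 < Nat.card Nm.ker := by
      obtain ⟨b, hb⟩ : ∃ b, v b ≠ b := by
        by_contra! h
        exact hk1 (MulEquiv.ext h)
      have hmem : b * (v b)⁻¹ ∈ Nm.ker := by
        rw [MonoidHom.mem_ker, map_mul, map_inv, hNmv, mul_inv_cancel]
      have : Nontrivial Nm.ker := ⟨⟨⟨_, hmem⟩, 1, fun h => hb
        (mul_inv_eq_one.1 (congrArg Subtype.val h)).symm⟩⟩
      exact Finite.one_lt_card
    set N' := Module.finrank F M'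
    rw [hcard'] at hcardH
    have hN' : 1 < N' := by
      by_contra h
      have : N' ^ 2 ≤ 1 ^ 2 := Nat.pow_le_pow_left (by omega) 2
      rw [one_pow] at this
      omega
    have hne : N' + 1 ≠ r := by
      intro heq
      have hfixH : ∀ g : H, D'.ω (restrictAut H (α ^ k) hHv g) = D'.ω g :=
        fun g => IsType.pow_fix hαω k _
      have h1 := D'.quotAut_eq_one_of_finrank hρ' hsr hs' (α := restrictAut H (α ^ k) hHv)
        (d := d) hd hrd (hdE.coprime_dvd_right (Subgroup.card_subgroup_dvd_card H))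
        (MulEquiv.ext fun g => Subtype.ext (by
          rw [restrictAut_pow, ← pow_mul, mul_comm, pow_mul, hα, one_pow]; rfl))
        (MulEquiv.ext fun g => Subtype.ext (by
          show D.σ ((α ^ k) g) = (α ^ k) (D.σ g)
          rw [← MulAut.mul_apply, ← MulAut.mul_apply, (hσα.pow_right k).eq]))
        hfixH (by rw [hcard', ← heq, Nat.add_sub_cancel])
      -- `v` is then trivial on the kernel, hence everywhere
      apply hk1
      refine MulEquiv.ext fun b => ?_
      have hmem : b * (v b)⁻¹ ∈ Nm.ker := by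
        rw [MonoidHom.mem_ker, map_mul, map_inv, hNmv, mul_inv_cancel]
      obtain ⟨g, hg⟩ := QuotientGroup.mk'_surjective D.isType.supp (b * (v b)⁻¹)
      have hgH : g ∈ H := by
        show Nm (QuotientGroup.mk' _ g) = 1
        rw [hg]; exact hmem
      have h2 := QuotientGroup.eq.1 (congrArg (fun f : MulAut (H ⧸ D'.isType.supp) =>
        f ((⟨g, hgH⟩ : H) : H ⧸ D'.isType.supp)) h1)
      have h3 : v (b * (v b)⁻¹) = b * (v b)⁻¹ := by
        rw [← hg]
        show v (g : B) = (g : B)
        rw [hvk]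
        exact QuotientGroup.eq.2 h2
      have h4 : Nm (b * (v b)⁻¹) = (b * (v b)⁻¹) ^ l := hNmfix _ h3
      rw [show Nm (b * (v b)⁻¹) = 1 from hmem] at h4
      have h5 : b * (v b)⁻¹ = 1 := eq_one_of_coprime_pow hlB h4.symm pow_card_eq_one'
      exact (mul_inv_eq_one.1 h5).symm
    have hN'r : r + 1 ≤ N' := (hge' hN').resolve_left hne
    set F₀ := Nat.card {b : B // v.toEquiv b = b}
    rw [← hcardH] at hsplit
    obtain ⟨N₀, hN₀⟩ : N' ∣ N := (Nat.pow_dvd_pow_iff two_ne_zero).1 ⟨F₀, by rw [← hsplit, mul_comm]⟩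
    have hF₀ : F₀ = N₀ ^ 2 := by
      apply Nat.eq_of_mul_eq_mul_right (show 0 < N' ^ 2 by positivity)
      rw [hsplit, hN₀]; ring
    have hN₀1 : N₀ ≤ 1 := by
      by_contra hlt
      have h7 : N₀ ≤ n := by
        by_contra hlt'
        have h8 : N ≤ r * n + (r - 1) := (hbd i).2
        have h9 : r * (n + 1) ≤ r * N₀ := Nat.mul_le_mul_left r (by omega)
        have h10 : (r + 1) * N₀ ≤ N := hN₀ ▸ Nat.mul_le_mul_right N₀ hN'r
        rw [Nat.mul_succ] at h9
        rw [Nat.succ_mul] at h10
        omega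
      have h11 : r * N₀ ^ 2 ≤ N₀ ^ 2 + (r - 1) :=
        (Nat.mul_le_mul_left r (Nat.pow_le_pow_left h7 2)).trans (hF₀ ▸ hSQ)
      have h12 : 4 ≤ N₀ ^ 2 := Nat.pow_le_pow_left (show 2 ≤ N₀ by omega) 2
      obtain ⟨q, hq⟩ := Nat.exists_eq_add_of_le hr2
      rw [hq, Nat.add_mul] at h11
      have h13 : q * 4 ≤ q * N₀ ^ 2 := Nat.mul_le_mul_left q h12
      omega
    have hN₀' : N₀ = 1 := by
      rcases Nat.eq_zero_or_pos N₀ with h | h
      · rw [h, mul_zero] at hN₀; omega
      · omega
    rw [hN₀', one_pow] at hF₀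
    refine ⟨fun b hb => ?_, ?_⟩
    · have hsub : Subsingleton {b : B // v.toEquiv b = b} :=
        (Nat.card_eq_one_iff_unique.1 hF₀).1
      exact congrArg Subtype.val (hsub.elim ⟨b, hb⟩ ⟨1, map_one v⟩)
    · rw [hF₀] at hSQ
      by_contra hn
      have h14 : 4 ≤ n ^ 2 := Nat.pow_le_pow_left (show 2 ≤ n by omega) 2
      have : r * 4 ≤ r * n ^ 2 := Nat.mul_le_mul_left r h14
      omega
  -- assemble
  by_cases hμ1 : μ = 1
  · exact Or.inl fun g => QuotientGroup.eq.1
      (congrArg (fun f : MulAut B => f (g : B)) hμ1).symm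
  have hord : orderOf μ ∣ d := orderOf_dvd_of_pow_eq_one hμd
  have hpow : ∀ k, ¬ orderOf μ ∣ k → ∃ m l : ℕ, l.Prime ∧ l ≠ r ∧ ¬ l ∣ Nat.card E ∧
      μ ^ (k * m) ≠ 1 ∧ (μ ^ (k * m)) ^ l = 1 := by
    intro k hk
    have h1 : μ ^ k ≠ 1 := fun h => hk (orderOf_dvd_of_pow_eq_one h)
    obtain ⟨l, hl, hlo⟩ := Nat.exists_prime_and_dvd (n := orderOf (μ ^ k))
      fun h => h1 (orderOf_eq_one_iff.1 h)
    have hld : l ∣ d := hlo.trans ((orderOf_pow_dvd k).trans hord)
    have hoo := orderOf_pow_orderOf_div (orderOf_pos (μ ^ k)).ne' hlo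
    refine ⟨orderOf (μ ^ k) / l, l, hl,
      fun h => (hr.coprime_iff_not_dvd.1 hrd) (h ▸ hld),
      fun h => hl.ne_one (Nat.eq_one_of_dvd_coprimes hdE hld h), ?_, ?_⟩
    · rw [pow_mul]
      intro h
      rw [h, orderOf_one] at hoo
      exact hl.ne_one hoo.symm
    · rw [pow_mul]
      have h9 := pow_orderOf_eq_one ((μ ^ k) ^ (orderOf (μ ^ k) / l))
      rwa [hoo] at h9
  have hsemi : ∀ k, ¬ orderOf μ ∣ k → ∀ b, (μ ^ k) b = b → b = 1 := by
    intro k hk b hb
    obtain ⟨m, l, hl, hlr, hlE, h1, h2⟩ := hpow k hk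
    refine (hprime _ l hl hlr hlE h1 h2).1 b ?_
    rw [pow_mul]
    clear h1 h2
    induction m with
    | zero => rfl
    | succ m ih => rw [pow_succ', MulAut.mul_apply, ih, hb]
  have hn1 : n ≤ 1 := by
    obtain ⟨m, l, hl, hlr, hlE, h1, h2⟩ := hpow 1 fun h => hμ1
      (orderOf_eq_one_iff.1 (Nat.dvd_one.1 h))
    exact (hprime _ l hl hlr hlE h1 h2).2
  have hN2 : N ≤ 2 * r - 1 := by
    have h : N ≤ r * n + (r - 1) := (hbd i).2
    have : r * n ≤ r * 1 := Nat.mul_le_mul_left r hn1
    omega
  have hn2 : ∀ j, blockDim r ζ S j ≤ 2 := by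
    intro j
    have h : r * blockDim r ζ S j ≤ N + (r - 1) := (hbd j).1
    by_contra hlt
    have : r * 3 ≤ r * blockDim r ζ S j := Nat.mul_le_mul_left r (by omega)
    omega
  have hordE : orderOf μ.toEquiv = orderOf μ := orderOf_eq_orderOf_iff.2 fun m => by
    rw [toEquiv_pow]
    exact ⟨fun h => MulEquiv.ext fun b => congrArg (fun f : Equiv.Perm B => f b) h,
      fun h => by rw [h]; rfl⟩
  have hle := mul_le_of_semiregular e hr hζ D.hrF hSr heS hπr D.fix_iff
    (hrd.coprime_dvd_right hord) (orderOf_pos μ) hordE heU hUu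
    (Equiv.ext fun b => congrArg (fun f : MulAut B => f b) hπμ.eq) hSU
    (fun k hk b hb => hsemi k hk b (by rw [toEquiv_pow] at hb; exact hb)) hN1 hn2
  have hd2 : orderOf μ ≤ 2 := by
    by_contra hlt
    have : 3 * r ≤ orderOf μ * r := Nat.mul_le_mul_right r (by omega)
    omega
  refine Or.inr fun g => ?_
  have hord2 : orderOf μ = 2 := by
    have := orderOf_pos μ
    have : orderOf μ ≠ 1 := fun h => hμ1 (orderOf_eq_one_iff.1 h)
    omega
  have h3 : μ ((g : B) * μ (g : B)) = (g : B) * μ (g : B) := by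
    have : μ (μ (g : B)) = (g : B) := by
      rw [← MulAut.mul_apply, ← sq, ← hord2, pow_orderOf_eq_one]; rfl
    rw [map_mul, this, D.isType.quot_comm]
  have h4 := hsemi 1 (by rw [hord2]; decide) _ (by rw [pow_one]; exact h3)
  exact (QuotientGroup.eq_one_iff (N := D.isType.supp) (g * α g)).1 h4

end FixedType

end CfsgLib.Turull73
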