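import Cfsg.Agent.Turull73.Residual
import Cfsg.Agent.Turull73.Fix
import Cfsg.Agent.Solvable.Frattini
import Cfsg.Agent.Solvable.Hall

/-!
# The tower of layers

For a solvable normal `X` that is minimal among the `s`-invariant subgroups whose `t`-th nilpotent
residual is non-trivial we choose in each residual `Dᵢ` a prime `pᵢ` and normal subgroups
`Dᵢ₊₁ ≤ Nᵢ ≤ Mᵢ < Eᵢ ≤ Dᵢ`: `Eᵢ / Mᵢ` is irreducible, `Nᵢ` is the centraliser in `Eᵢ` of the layer
above, and `Eᵢ / Nᵢ` is a `pᵢ`-group of class at most two with Frattini subgroup `Mᵢ / Nᵢ`.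
-/

set_option autoImplicit false

open scoped commutatorElement Pointwise

namespace CfsgLib.Turull73

open FittingLength

/-- The minimal counterexample. -/
structure Setup (G : Type*) [Group G] where
  X : Subgroup G
  hXn : X.Normal
  hXs : Group.IsSolvable X
  s : G
  r : ℕ
  hr : r.Prime
  hs : s ^ r = 1
  hrX : ¬ r ∣ Nat.card X
  t : ℕ
  hres : nilRes X t ≠ ⊥
  hmin : ∀ Y : Subgroup G, Y ≤ X → (∀ y ∈ Y, s * y * s⁻¹ ∈ Y) → nilRes Y t ≠ ⊥ → Y = X

/-- A prime and three subgroups. -/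
structure LayerData (G : Type*) [Group G] where
  p : ℕ
  E : Subgroup G
  M : Subgroup G
  N : Subgroup G

/-- A layer before irreducibility is proved. -/
structure IsPreLayer {G : Type*} [Group G] (S : Setup G) (i : ℕ) (L : LayerData G) : Prop where
  hp : L.p.Prime
  hpr : L.p ≠ S.r
  hEn : L.E.Normal
  hMn : L.M.Normal
  hNn : L.N.Normal
  hDN : nilRes S.X (i + 1) ≤ L.N
  hNM : L.N ≤ L.M
  hME : L.M < L.E
  hED : L.E ≤ nilRes S.X i
  qgroup : ∀ e ∈ L.E, ∃ k, e ^ L.p ^ k ∈ L.N
  elem : ∀ e ∈ L.E, e ^ L.p ∈ L.M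
  comm : ∀ e ∈ L.E, ∀ e' ∈ L.E, ⁅e, e'⁆ ∈ L.M
  frat : ∀ T : Subgroup G, L.N ≤ T → T ≤ L.E → L.E ≤ T ⊔ L.M → L.E ≤ T
  cenD : ∀ d ∈ nilRes S.X i, ∀ e ∈ L.E, ⁅d, e⁆ ∈ L.M
  idx : L.p.Coprime (L.E.relIndex (nilRes S.X i))
  hqD : ∀ e ∈ L.E, ∃ k, e ^ L.p ^ k ∈ nilRes S.X (i + 1)
  copCen : ∀ f ∈ nilRes S.X i, (orderOf f).Coprime L.p → ∀ e ∈ L.E, ⁅f, e⁆ ∈ L.N

/-- A layer. -/
structure IsLayer {G : Type*} [Group G] (S : Setup G) (i : ℕ) (L : LayerData G) : Prop
    extends IsPreLayer S i L where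
  irr : ∀ T : Subgroup G, T.Normal → L.M ≤ T → T ≤ L.E → T = L.M ∨ T = L.E
  central : ∀ m ∈ L.M, ∀ e ∈ L.E, ⁅m, e⁆ ∈ L.N
  centralA : ∀ j, j + 1 = i → ∀ f ∈ nilRes S.X j, (orderOf f).Coprime L.p →
    ∀ m ∈ L.M, ⁅f, m⁆ ∈ L.N
  fixA : ∀ j, j + 1 = i → ∀ e ∈ L.E,
    (∀ f ∈ nilRes S.X j, (orderOf f).Coprime L.p → ⁅f, e⁆ ∈ L.M) → e ∈ L.M

/-- The link between two consecutive layers. -/
structure Linked {G : Type*} [Group G] (L L' : LayerData G) : Prop where
  hN : ∀ g, g ∈ L.N ↔ g ∈ L.E ∧ ∀ e ∈ L'.E, ⁅g, e⁆ ∈ L'.M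
  hne : L.p ≠ L'.p

variable {G : Type*} [Group G] [Finite G] (S : Setup G)

namespace Setup

theorem D_normal (i : ℕ) : (nilRes S.X i).Normal :=
  haveI := S.hXn
  nilRes_normal S.X i

theorem D_le (i : ℕ) : nilRes S.X i ≤ S.X := nilRes_le S.X i

omit [Finite G] in
theorem D_ne_bot {i : ℕ} (hi : i ≤ S.t) : nilRes S.X i ≠ ⊥ := fun h =>
  S.hres (le_bot_iff.1 ((nilRes_le_of_le S.X hi).trans h.le))

theorem orderOf_s_coprime {n : ℕ} (hn : n ∣ Nat.card S.X) : (orderOf S.s).Coprime n :=
  ((S.hr.coprime_iff_not_dvd.2 S.hrX).coprime_dvd_left (orderOf_dvd_of_pow_eq_one S.hs)).coprime_dvd_right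
    hn

theorem prime_ne_r {p : ℕ} {x : G} (hx : x ∈ S.X) (hp : p.Prime) (hpx : p ∣ orderOf x) :
    p ≠ S.r := by
  rintro rfl
  apply S.hrX
  refine hpx.trans ?_
  rw [← Subgroup.orderOf_mk x hx]
  exact orderOf_dvd_natCard _

end Setup

section Aux

theorem isPGroup_map {E N : Subgroup G} [N.Normal] {p : ℕ}
    (h : ∀ e ∈ E, ∃ k, e ^ p ^ k ∈ N) : IsPGroup p (E.map (QuotientGroup.mk' N)) := by
  rintro ⟨_, e, he, rfl⟩
  obtain ⟨k, hk⟩ := h e he
  refine ⟨k, Subtype.ext ?_⟩
  show (QuotientGroup.mk' N e) ^ p ^ k = 1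
  rw [← map_pow]
  exact (QuotientGroup.eq_one_iff _).2 hk

theorem coprime_card_map {E N : Subgroup G} [N.Normal] {p : ℕ} (hp : p.Prime)
    (h : ∀ e ∈ E, ∃ k, e ^ p ^ k ∈ N) {n : ℕ} (hn : n.Coprime p) :
    n.Coprime (Nat.card (E.map (QuotientGroup.mk' N))) := by
  have := Fact.mk hp
  obtain ⟨k, hk⟩ := IsPGroup.iff_card.1 (isPGroup_map h)
  rw [hk]
  exact Nat.Coprime.pow_right k hn

theorem forall_mem_of_forall_prime_power {D H : Subgroup G}
    (h : ∀ x ∈ D, ∀ p k : ℕ, p.Prime → orderOf x = p ^ k → x ∈ H) : D ≤ H := by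
  intro y hy
  by_contra hyH
  obtain ⟨p, hp, z, hz, hzH, k, hk⟩ := exists_prime_pow_not_mem hyH
  exact hzH (h z (Subgroup.zpowers_le.2 hy hz) p k hp hk)

theorem coprime_prime_pow {l p k : ℕ} (hl : l.Prime) (hp : p.Prime) (h : l ≠ p) :
    (l ^ k).Coprime p :=
  Nat.Coprime.pow_left k ((Nat.coprime_primes hl hp).2 h)

end Aux

/-- The prime-to-`p` elements of `D i` act trivially modulo `D (i + 1)` on the `p`-part. -/
theorem commutator_pPart_mem {i : ℕ} {q : ℕ} {f : G} (hf : f ∈ nilRes S.X i)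
    (hcop : (orderOf f).Coprime q) {e : G}
    (he : e ∈ pPart (nilRes S.X i) (nilRes S.X (i + 1)) q) : ⁅f, e⁆ ∈ nilRes S.X (i + 1) := by
  have := S.D_normal (i + 1)
  have hle : pPart (nilRes S.X i) (nilRes S.X (i + 1)) q ≤
      (Subgroup.centralizer ({QuotientGroup.mk' (nilRes S.X (i + 1)) f} : Set _)).comap
        (QuotientGroup.mk' (nilRes S.X (i + 1))) := by
    refine sup_le (fun d hd => ?_) ((Subgroup.closure_le _).2 ?_)
    · rw [Subgroup.mem_comap, show QuotientGroup.mk' (nilRes S.X (i + 1)) d = 1 from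
        (QuotientGroup.eq_one_iff d).2 hd]
      exact one_mem _
    · rintro x ⟨hx, k, hk⟩
      rw [SetLike.mem_coe, Subgroup.mem_comap, Subgroup.mem_centralizer_iff]
      rintro _ rfl
      rw [← commutatorElement_eq_one_iff_mul_comm, ← map_commutatorElement]
      exact (QuotientGroup.eq_one_iff _).2 (commutatorElement_mem_nilRes_succ S.X i hf hx
        (by rw [hk]; exact Nat.Coprime.pow_right k hcop))
  have h := Subgroup.mem_centralizer_iff.1 (Subgroup.mem_comap.1 (hle he)) _ (Set.mem_singleton _)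
  rw [← commutatorElement_eq_one_iff_mul_comm, ← map_commutatorElement] at h
  exact (QuotientGroup.eq_one_iff _).1 h

/-- An `s`-invariant Hall `p'`-subgroup `A` of `D j`. -/
theorem exists_hall (j : ℕ) {q : ℕ} (hq : q.Prime) :
    ∃ A : Subgroup G, A ≤ nilRes S.X j ∧ (∀ a ∈ A, (orderOf a).Coprime q) ∧
      (Nat.card A).Coprime q ∧ S.s ∈ Subgroup.normalizer (A : Set G) ∧
      (∀ f ∈ nilRes S.X j, (orderOf f).Coprime q → f ∈ A ⊔ nilRes S.X (j + 1)) ∧
      nilRes S.X (j + 1) ⊔ Subgroup.normalizer (A : Set G) = ⊤ ∧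
      ∃ P : Subgroup G, P ≤ nilRes S.X j ∧ (∀ x ∈ P, ∃ k, orderOf x = q ^ k) ∧
        nilRes S.X j ≤ A ⊔ P := by
  classical
  have hDn := S.D_normal j
  have hD'n := S.D_normal (j + 1)
  set D := nilRes S.X j
  set D' := nilRes S.X (j + 1)
  have hD'D : D' ≤ D := nilRes_le_of_le S.X (Nat.le_succ j)
  have : Group.IsSolvable S.X := S.hXs
  have : Group.IsSolvable D := Coprime.isSolvable_of_le (S.D_le j)
  let π : Set ℕ := {l | l ≠ q}
  obtain ⟨A₀, hA₀⟩ := Solvable.exists_isPiHall π D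
  -- an invariant conjugate
  set Z := Subgroup.zpowers S.s
  have hZD : Z ≤ Subgroup.normalizer (D : Set G) := by
    rw [Subgroup.normalizer_eq_top_iff.2 hDn]; exact le_top
  have hcop : (Nat.card Z).Coprime (Nat.card D) := by
    rw [Nat.card_zpowers]
    exact S.orderOf_s_coprime (Subgroup.card_dvd_of_le (S.D_le j))
  obtain ⟨g, hg, hZA⟩ := Coprime.exists_invariant_conj hZD hcop (Or.inr inferInstance)
    (A₀.map D.subtype) (by
      intro z _
      have hle : MulAut.conj z • A₀.map D.subtype ≤ D := by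
        intro x hx
        rw [Solvable.mem_conj_smul] at hx
        have h := hDn.conj_mem _ ((Subgroup.map_subtype_le A₀) hx) z
        simpa [mul_assoc] using h
      have hh : Cfsg.IsPiHall π ((MulAut.conj z • A₀.map D.subtype).subgroupOf D) := by
        have hc : Nat.card ((MulAut.conj z • A₀.map D.subtype).subgroupOf D) = Nat.card A₀ := by
          rw [Nat.card_congr (Subgroup.subgroupOfEquivOfLe hle).toEquiv, Solvable.card_conj_smul,
            Subgroup.card_map_of_injective D.subtype_injective]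
        have hi : ((MulAut.conj z • A₀.map D.subtype).subgroupOf D).index = A₀.index := by
          have h1 := ((MulAut.conj z • A₀.map D.subtype).subgroupOf D).card_mul_index
          rw [← A₀.card_mul_index, hc] at h1
          exact Nat.eq_of_mul_eq_mul_left Nat.card_pos h1
        exact ⟨hc ▸ hA₀.1, hi ▸ hA₀.2⟩
      obtain ⟨d, hd⟩ := Solvable.exists_conj_eq_isPiHall hA₀ hh
      refine ⟨d, d.2, ?_⟩
      have h2 := congrArg (Subgroup.map D.subtype) hd
      rw [Solvable.map_subtype_conj_smul, Subgroup.map_subgroupOf_eq_of_le hle] at h2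
      exact h2.symm)
  set A : Subgroup G := MulAut.conj g • A₀.map D.subtype
  have hAD : A ≤ D := by
    intro x hx
    rw [Solvable.mem_conj_smul] at hx
    have h := hDn.conj_mem _ ((Subgroup.map_subtype_le A₀) hx) g
    simpa [mul_assoc] using h
  have hAq : (Nat.card A).Coprime q := by
    rw [Solvable.card_conj_smul, Subgroup.card_map_of_injective D.subtype_injective]
    exact (hq.coprime_iff_not_dvd.2 fun h => hA₀.1 q hq h rfl).symm
  have hAord : ∀ a ∈ A, (orderOf a).Coprime q := fun a ha => hAq.coprime_dvd_left (by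
    rw [← Subgroup.orderOf_mk a ha]; exact orderOf_dvd_natCard _)
  have hAidx : ∀ l : ℕ, l.Prime → l ∣ A.relIndex D → l = q := by
    intro l hl hld
    by_contra hlq
    have h1 : A.relIndex D = A₀.index := by
      have e1 := (A.subgroupOf D).card_mul_index
      rw [← A₀.card_mul_index, Nat.card_congr (Subgroup.subgroupOfEquivOfLe hAD).toEquiv,
        Solvable.card_conj_smul, Subgroup.card_map_of_injective D.subtype_injective] at e1
      exact Nat.eq_of_mul_eq_mul_left Nat.card_pos e1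
    exact hA₀.2 l hl hlq (h1 ▸ hld)
  -- a Sylow subgroup
  have := Fact.mk hq
  let P₀ : Sylow q D := default
  set P : Subgroup G := (P₀ : Subgroup D).map D.subtype
  have hPD : P ≤ D := Subgroup.map_subtype_le _
  have hPord : ∀ x ∈ P, ∃ k, orderOf x = q ^ k := by
    rintro _ ⟨x, hx, rfl⟩
    obtain ⟨k, hk⟩ := IsPGroup.iff_orderOf.1 P₀.isPGroup' ⟨x, hx⟩
    refine ⟨k, ?_⟩
    rw [← hk, Subgroup.orderOf_mk, Subgroup.coe_subtype, Subgroup.orderOf_coe]
  have hAP : D ≤ A ⊔ P := by
    have hle : A ⊔ P ≤ D := sup_le hAD hPD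
    rw [← Subgroup.relIndex_eq_one]
    by_contra hne
    obtain ⟨l, hl, hld⟩ := Nat.exists_prime_and_dvd hne
    have h1 : l ∣ A.relIndex D := hld.trans (Subgroup.relIndex_dvd_of_le_left _ le_sup_left)
    obtain rfl := hAidx l hl h1
    have h2 : l ∣ P.relIndex D := hld.trans (Subgroup.relIndex_dvd_of_le_left _ le_sup_right)
    rw [Subgroup.relIndex, show P.subgroupOf D = (P₀ : Subgroup D) from
      Subgroup.comap_map_eq_self_of_injective D.subtype_injective _] at h2
    exact P₀.not_dvd_index h2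
  -- `A D'` is normal and contains the elements of order prime to `q`
  set R := A ⊔ D'
  have hRD : R ≤ D := sup_le hAD hD'D
  have hnorm : D ≤ Subgroup.normalizer (R : Set G) := by
    refine hAP.trans (sup_le ((le_sup_left : A ≤ R).trans Subgroup.le_normalizer) ?_)
    intro x hx
    obtain ⟨k, hk⟩ := hPord x hx
    have hconj : ∀ y : G, (∀ a ∈ A, ⁅y, a⁆ ∈ D') → ∀ r ∈ R, y * r * y⁻¹ ∈ R := by
      intro y hy r hr
      have hle : R ≤ R.comap (MulAut.conj y).toMonoidHom := by
        refine sup_le (fun a ha => ?_) fun d hd => Subgroup.mem_sup_right (hD'n.conj_mem d hd y)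
        show y * a * y⁻¹ ∈ R
        have : y * a * y⁻¹ = ⁅y, a⁆ * a := by rw [commutatorElement_def]; group
        rw [this]
        exact R.mul_mem (Subgroup.mem_sup_right (hy a ha)) (Subgroup.mem_sup_left ha)
      exact hle hr
    rw [Subgroup.mem_normalizer_iff]
    intro y
    have hx1 : ∀ a ∈ A, ⁅x, a⁆ ∈ D' := fun a ha => commutatorElement_mem_nilRes_succ S.X j
      (hPD hx) (hAD ha) (by rw [hk]; exact Nat.Coprime.pow_left k (hAord a ha).symm)
    have hx2 : ∀ a ∈ A, ⁅x⁻¹, a⁆ ∈ D' := fun a ha => commutatorElement_mem_nilRes_succ S.X j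
      (inv_mem (hPD hx)) (hAD ha)
      (by rw [orderOf_inv, hk]; exact Nat.Coprime.pow_left k (hAord a ha).symm)
    refine ⟨hconj x hx1 y, fun h => ?_⟩
    have := hconj x⁻¹ hx2 _ h
    simpa [mul_assoc] using this
  have hRmem : ∀ f ∈ D, (orderOf f).Coprime q → f ∈ R := by
    intro f hf hfq
    have : (R.subgroupOf D).Normal := (Subgroup.normal_subgroupOf_iff_le_normalizer hRD).2 hnorm
    have h1 : (⟨f, hf⟩ : D) ^ R.relIndex D ∈ R.subgroupOf D :=
      (R.subgroupOf D).pow_index_mem _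
    refine mem_of_pow_mem (m := R.relIndex D) ?_ h1
    refine Nat.coprime_of_dvd fun l hl hl1 hl2 => ?_
    obtain rfl := hAidx l hl (hl2.trans (Subgroup.relIndex_dvd_of_le_left _ le_sup_left))
    exact hl.ne_one (Nat.eq_one_of_dvd_coprimes hfq hl1 dvd_rfl)
  have hRn : R.Normal := by
    refine ⟨fun x hx g' => ?_⟩
    have hle : R ≤ R.comap (MulAut.conj g').toMonoidHom := by
      refine sup_le (fun a ha => ?_) fun d hd => Subgroup.mem_sup_right (hD'n.conj_mem d hd g')
      refine hRmem _ (hDn.conj_mem a (hAD ha) g') ?_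
      show (orderOf (MulAut.conj g' a)).Coprime q
      rw [MulEquiv.orderOf_eq]
      exact hAord a ha
    exact hle hx
  have hRsol : Group.IsSolvable R := Coprime.isSolvable_of_le (hRD.trans (S.D_le j))
  have hfr := Solvable.frattini_argument_hall (π := π) (L := R) (H := A) hRsol le_sup_left (by
    constructor
    · rw [Nat.card_congr (Subgroup.subgroupOfEquivOfLe (le_sup_left : A ≤ R)).toEquiv]
      intro l hl hld hlq
      subst hlq
      exact hl.ne_one (Nat.eq_one_of_dvd_coprimes hAq hld dvd_rfl)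
    · intro l hl hlπ hld
      exact hlπ (hAidx l hl (hld.trans (Dvd.intro _ (Subgroup.relIndex_mul_relIndex A R D le_sup_left hRD)))))
  refine ⟨A, hAD, hAord, hAq, hZA (Subgroup.mem_zpowers _), hRmem, ?_, P, hPD, hPord, hAP⟩
  rw [eq_top_iff, ← hfr]
  exact sup_le (sup_le (Subgroup.le_normalizer.trans le_sup_right) le_sup_left) le_sup_right

/-- The elements of `D j` of order prime to `p` fix no element of the layer above. -/
theorem fixA_aux (j : ℕ) {q : ℕ} (hq : q.Prime) {E M : Subgroup G} (hEn : E.Normal)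
    (hMn : M.Normal) (hME : M ≤ E) (hED : E ≤ nilRes S.X (j + 1))
    (hqg : ∀ e ∈ E, ∃ k, e ^ q ^ k ∈ M) (hcomm : ∀ e ∈ E, ∀ e' ∈ E, ⁅e, e'⁆ ∈ M)
    (hcen : ∀ d ∈ nilRes S.X (j + 1), ∀ e ∈ E, ⁅d, e⁆ ∈ M)
    (hidx : q.Coprime (E.relIndex (nilRes S.X (j + 1)))) :
    ∀ e ∈ E, (∀ f ∈ nilRes S.X j, (orderOf f).Coprime q → ⁅f, e⁆ ∈ M) → e ∈ M := by
  classical
  have := Fact.mk hq
  obtain ⟨A, hAD, hAord, hAq, -, -, htop, P, hPD, hPord, hAP⟩ := exists_hall S j hq
  have hDn := S.D_normal j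
  have hD'n := S.D_normal (j + 1)
  set D := nilRes S.X j
  set D' := nilRes S.X (j + 1)
  set W := ⁅E, A⁆ ⊔ M
  have hWE : W ≤ E := sup_le (Subgroup.commutator_le_left E A) hME
  have hWn : W.Normal := by
    rw [← Subgroup.normalizer_eq_top_iff, eq_top_iff, ← htop]
    refine sup_le (fun d hd => ?_) fun τ hτ => ?_
    · have hc : ∀ y : G, y ∈ D' → ∀ w ∈ W, y * w * y⁻¹ ∈ W := fun y hy w hw => by
        have : y * w * y⁻¹ = ⁅y, w⁆ * w := by rw [commutatorElement_def]; group
        rw [this]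
        exact W.mul_mem (Subgroup.mem_sup_right (hcen y hy w (hWE hw))) hw
      rw [Subgroup.mem_normalizer_iff]
      exact fun w => ⟨hc d hd w, fun h => by simpa [mul_assoc] using hc d⁻¹ (inv_mem hd) _ h⟩
    · have hc : ∀ y : G, y ∈ Subgroup.normalizer (A : Set G) → ∀ w ∈ W, y * w * y⁻¹ ∈ W := by
        intro y hy w hw
        have hle : W ≤ W.comap (MulAut.conj y).toMonoidHom := by
          refine sup_le (Subgroup.commutator_le.2 fun e he a ha => ?_) fun m hm =>
            Subgroup.mem_sup_right (hMn.conj_mem m hm y)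
          show MulAut.conj y ⁅e, a⁆ ∈ W
          rw [map_commutatorElement]
          exact Subgroup.mem_sup_left (Subgroup.commutator_mem_commutator (hEn.conj_mem e he y)
            ((Subgroup.mem_normalizer_iff.1 hy a).1 ha))
        exact hle hw
      rw [Subgroup.mem_normalizer_iff]
      exact fun w => ⟨hc τ hτ w, fun h => by simpa [mul_assoc] using hc τ⁻¹ (inv_mem hτ) _ h⟩
  have hMW : M ≤ W := le_sup_right
  -- `E = W`
  have hEW : E ≤ W := by
    have hle : E ≤ ⁅E, D⁆ ⊔ W := by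
      refine le_of_commutator_eq (D := D') (H := D) hED (fun d hd => mem_cenMod.2 fun e he =>
        Subgroup.mem_sup_right (hMW (hcen d hd e he))) (commutator_nilRes S.X j) le_sup_left
        (fun e he => ?_) hidx
      obtain ⟨k, hk⟩ := hqg e he
      exact ⟨k, Subgroup.mem_sup_right (hMW hk)⟩
    set f := QuotientGroup.mk' W
    set V := E.map f
    set Z := ⁅V, P.map f⁆
    have hAfix : ∀ v ∈ V, ∀ a ∈ A, f a * v = v * f a := by
      rintro _ ⟨e, he, rfl⟩ a ha
      rw [eq_comm, ← commutatorElement_eq_one_iff_mul_comm, ← map_commutatorElement]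
      exact (QuotientGroup.eq_one_iff _).2
        (Subgroup.mem_sup_left (Subgroup.commutator_mem_commutator he ha))
    have hVn : V.Normal := Subgroup.Normal.map hEn f (QuotientGroup.mk'_surjective W)
    have hZV : Z ≤ V := Subgroup.commutator_le_left V _
    let U : Subgroup (G ⧸ W) :=
      { carrier := {d | d ∈ Subgroup.normalizer (Z : Set (G ⧸ W)) ∧ ∀ v ∈ V, ⁅v, d⁆ ∈ Z}
        one_mem' := ⟨one_mem _, fun v _ => by simp⟩
        mul_mem' := fun {a b} ha hb => ⟨mul_mem ha.1 hb.1, fun v hv => by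
          rw [commutatorElement_mul_right_eq_mul_conj, mul_assoc, mul_assoc, ← mul_assoc a]
          exact mul_mem (ha.2 v hv) ((Subgroup.mem_normalizer_iff.1 ha.1 _).1 (hb.2 v hv))⟩
        inv_mem' := fun {a} ha => ⟨inv_mem ha.1, fun v hv => by
          have e : ⁅v, a⁻¹⁆ = a⁻¹ * ⁅v, a⁆⁻¹ * a⁻¹⁻¹ := by
            rw [commutatorElement_def, commutatorElement_def]; group
          rw [e]
          exact (Subgroup.mem_normalizer_iff.1 (inv_mem ha.1) _).1 (inv_mem (ha.2 v hv))⟩ }
    have hDU : D.map f ≤ U := by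
      refine (Subgroup.map_mono hAP).trans ?_
      rw [Subgroup.map_sup]
      refine sup_le ?_ fun p hp => ⟨Subgroup.normalizer_commutator_ge_right V _ hp,
        fun v hv => Subgroup.commutator_mem_commutator hv hp⟩
      rintro _ ⟨a, ha, rfl⟩
      refine ⟨?_, fun v hv => ?_⟩
      · rw [Subgroup.mem_normalizer_iff]
        intro z
        constructor
        · intro hz
          rwa [hAfix z (hZV hz) a ha, mul_inv_cancel_right]
        · intro hz
          have h1 := hAfix _ (hZV hz) a ha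
          have : z = f a * z * (f a)⁻¹ := by
            have h2 : f a * (f a * z * (f a)⁻¹) * (f a)⁻¹ = f a * z * (f a)⁻¹ := by
              rw [h1, mul_inv_cancel_right]
            exact (mul_left_cancel (mul_right_cancel h2)).symm
          rw [this]; exact hz
      · rw [commutatorElement_eq_one_iff_mul_comm.2 (hAfix v hv a ha).symm]
        exact Z.one_mem
    have hVZ : V ≤ Z := by
      refine (Subgroup.map_mono hle).trans ?_
      rw [Subgroup.map_sup, Subgroup.map_commutator, show W.map f = ⊥ from by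
        rw [Subgroup.map_eq_bot_iff, QuotientGroup.ker_mk'], sup_bot_eq]
      exact Subgroup.commutator_le.2 fun v hv d hd => (hDU hd).2 v hv
    have hp : IsPGroup q ((V ⊔ P.map f : Subgroup (G ⧸ W)) : Subgroup (G ⧸ W)) := by
      refine IsPGroup.to_sup_of_normal_left (isPGroup_map fun e he => ?_) ?_
      · obtain ⟨k, hk⟩ := hqg e he; exact ⟨k, hMW hk⟩
      · rintro ⟨_, x, hx, rfl⟩
        obtain ⟨k, hk⟩ := hPord x hx
        refine ⟨k, Subtype.ext ?_⟩
        show f x ^ q ^ k = 1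
        rw [← map_pow, ← hk, pow_orderOf_eq_one, map_one]
    set Q := V ⊔ P.map f
    obtain ⟨k, hk⟩ := (Subgroup.isNilpotent_iff_lowerCentralSeries Q).1 hp.isNilpotent
    have hin : ∀ m, V ≤ Q.lowerCentralSeries m := by
      intro m
      induction m with
      | zero => exact le_sup_left
      | succ m ih =>
        exact hVZ.trans (Subgroup.commutator_mono ih le_sup_right)
    have hV := hin k
    rw [hk, le_bot_iff, Subgroup.map_eq_bot_iff, QuotientGroup.ker_mk'] at hV
    exact hV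
  -- the averaging argument
  intro e he hfix
  set f := QuotientGroup.mk' M
  set V := E.map f
  have hVn : V.Normal := Subgroup.Normal.map hEn f (QuotientGroup.mk'_surjective M)
  letI : CommGroup V :=
    { (inferInstance : Group V) with
      mul_comm := by
        rintro ⟨_, x, hx, rfl⟩ ⟨_, y, hy, rfl⟩
        refine Subtype.ext ?_
        show f x * f y = f y * f x
        rw [← commutatorElement_eq_one_iff_mul_comm, ← map_commutatorElement]
        exact (QuotientGroup.eq_one_iff _).2 (hcomm x hx y hy) }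
  have := Fintype.ofFinite A
  let c : A →* MulAut V := (MulAut.conjNormal (H := V)).comp (f.comp A.subtype)
  let Φ : V →* V :=
    { toFun := fun v => ∏ a : A, c a v
      map_one' := by simp
      map_mul' := fun u v => by rw [← Finset.prod_mul_distrib]; simp }
  have hΦc : ∀ (b : A) v, Φ (c b v) = Φ v := fun b v => by
    show ∏ a : A, c a (c b v) = ∏ a : A, c a v
    exact Fintype.prod_equiv (Equiv.mulRight b) _ _ fun a => by simp
  have hker : E ≤ (Φ.ker.map V.subtype).comap f := by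
    refine hEW.trans (sup_le (Subgroup.commutator_le.2 fun x hx a ha => ?_) fun m hm => ?_)
    · let v : V := ⟨f x, Subgroup.mem_map_of_mem f hx⟩
      refine ⟨v * (c ⟨a, ha⟩ v)⁻¹, ?_, ?_⟩
      · show Φ _ = 1
        rw [map_mul, map_inv, hΦc, mul_inv_cancel]
      · show f x * ((c ⟨a, ha⟩ v : V) : G ⧸ M)⁻¹ = f ⁅x, a⁆
        rw [map_commutatorElement, commutatorElement_def]
        simp [c, v, MulAut.conjNormal_apply, mul_assoc]
    · rw [Subgroup.mem_comap, show f m = 1 from (QuotientGroup.eq_one_iff m).2 hm]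
      exact one_mem _
  obtain ⟨v, hv, hve⟩ := hker he
  have hcv : ∀ a : A, c a v = v := fun a => Subtype.ext (by
    show f (a : G) * (v : G ⧸ M) * (f (a : G))⁻¹ = v
    rw [show (v : G ⧸ M) = f e from hve]
    have h1 := (QuotientGroup.eq_one_iff (N := M) _).2 (hfix a (hAD a.2) (hAord a a.2))
    rw [show ((⁅(a : G), e⁆ : G) : G ⧸ M) = f ⁅(a : G), e⁆ from rfl, map_commutatorElement,
      commutatorElement_eq_one_iff_mul_comm] at h1
    rw [h1, mul_inv_cancel_right])
  have hpow : v ^ Nat.card A = 1 := by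
    have h1 : Φ v = v ^ Nat.card A := by
      show ∏ a : A, c a v = _
      rw [Finset.prod_congr rfl fun a _ => hcv a, Finset.prod_const, Finset.card_univ,
        Nat.card_eq_fintype_card]
    rw [← h1]; exact hv
  obtain ⟨k, hk⟩ := hqg e he
  refine mem_of_pow_pow_mem (hAq.pow_right k) ?_ hk
  rw [← QuotientGroup.eq_one_iff (N := M)]
  show f (e ^ Nat.card A) = 1
  rw [map_pow, ← hve]
  exact congrArg Subtype.val hpow

/-- The top layer. -/
theorem exists_top : ∃ L : LayerData G, IsLayer S S.t L := by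
  have hDn := S.D_normal S.t
  have hD1n := S.D_normal (S.t + 1)
  have hsol : Group.IsSolvable S.X := S.hXs
  have hlt := nilRes_lt S.X S.t S.hres
  obtain ⟨M, ⟨hMn, hDM, hMlt⟩, hmax⟩ := wellFounded_gt.has_min
    {M : Subgroup G | M.Normal ∧ nilRes S.X (S.t + 1) ≤ M ∧ M < nilRes S.X S.t}
    ⟨_, hD1n, le_rfl, hlt⟩
  have hirr : ∀ T : Subgroup G, T.Normal → M ≤ T → T ≤ nilRes S.X S.t →
      T = M ∨ T = nilRes S.X S.t := by
    intro T hT hMT hTD
    by_contra! h
    exact hmax T ⟨hT, hDM.trans hMT, lt_of_le_of_ne hTD h.2⟩ (lt_of_le_of_ne hMT (Ne.symm h.1))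
  set f := QuotientGroup.mk' M
  set V := (nilRes S.X S.t).map f
  have : V.Normal := Subgroup.Normal.map hDn f (QuotientGroup.mk'_surjective M)
  have hVne : V ≠ ⊥ := by
    rw [Ne, Subgroup.map_eq_bot_iff, QuotientGroup.ker_mk']
    exact not_le_of_gt hMlt
  have : Group.IsSolvable V := by
    have : Group.IsSolvable (nilRes S.X S.t) := Coprime.isSolvable_of_le (S.D_le S.t)
    exact Group.isSolvable_of_surjective (f := f.subgroupMap (nilRes S.X S.t))
      (MonoidHom.subgroupMap_surjective f _)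
  have hVmin : ∀ K : Subgroup (G ⧸ M), K.Normal → K ≤ V → K = ⊥ ∨ K = V := by
    intro K hK hKV
    have hsurj := QuotientGroup.mk'_surjective M
    rcases hirr (K.comap f) (Subgroup.Normal.comap hK f)
      (fun m hm => by rw [Subgroup.mem_comap, show f m = 1 from (QuotientGroup.eq_one_iff m).2 hm];
                      exact one_mem _)
      (le_trans (Subgroup.comap_mono hKV) (by
        rw [Subgroup.comap_map_eq, QuotientGroup.ker_mk']; exact sup_le le_rfl hMlt.le)) with h | h
    · left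
      rw [← Subgroup.map_comap_eq_self_of_surjective hsurj K, h, Subgroup.map_eq_bot_iff,
        QuotientGroup.ker_mk']
    · right
      rw [← Subgroup.map_comap_eq_self_of_surjective hsurj K, h]
  obtain ⟨p, hp, hpow⟩ := Solvable.exists_prime_pow_eq_one_of_minimal_normal hVne hVmin
  have hpow' : ∀ e ∈ nilRes S.X S.t, e ^ p ∈ M := fun e he => by
    rw [← QuotientGroup.eq_one_iff (N := M)]
    show f (e ^ p) = 1
    rw [map_pow]
    exact hpow _ (Subgroup.mem_map_of_mem f he)
  have hcomm : ∀ e ∈ nilRes S.X S.t, ∀ e' ∈ nilRes S.X S.t, ⁅e, e'⁆ ∈ M := fun e he e' he' => by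
    rw [← QuotientGroup.eq_one_iff (N := M)]
    show f ⁅e, e'⁆ = 1
    rw [map_commutatorElement, commutatorElement_eq_one_iff_mul_comm]
    exact Solvable.mul_comm_of_minimal_normal hVne hVmin _ (Subgroup.mem_map_of_mem f he) _
      (Subgroup.mem_map_of_mem f he')
  have hpr : p ≠ S.r := by
    obtain ⟨x, hx, hxM⟩ := SetLike.exists_of_lt hMlt
    refine S.prime_ne_r (S.D_le _ hx) hp ?_
    by_contra hpd
    exact hxM (mem_of_pow_mem ((hp.coprime_iff_not_dvd.2 hpd).symm) (hpow' x hx))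
  set D := nilRes S.X S.t
  set D' := nilRes S.X (S.t + 1)
  set E := pPart D D' p
  have hED : E ≤ D := pPart_le (nilRes_le_of_le S.X (Nat.le_succ S.t)) p
  have hEn : E.Normal := pPart_normal D D' p
  set M' := M ⊓ E
  have hM'n : M'.Normal := Subgroup.normal_inf_normal _ _
  have hDM' : D' ≤ M' := le_inf hDM (le_pPart D D' p)
  have hqD : ∀ e ∈ E, ∃ k, e ^ p ^ k ∈ D' := fun e he =>
    pPart_pow_mem hp (exists_lowerCentralSeries_le_succ S.X S.t) he
  have hM'E : M' < E := by
    refine lt_of_le_of_ne inf_le_right fun h => hMlt.not_ge ?_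
    refine forall_mem_of_forall_prime_power fun x hx l k hl hk => ?_
    by_cases hlp : l = p
    · subst hlp; exact (h.ge (mem_pPart hx hk)).1
    · exact mem_of_pow_mem (hk ▸ coprime_prime_pow hl hp hlp) (hpow' x hx)
  have hidx : p.Coprime (E.relIndex D) := by
    have := Fact.mk hp
    let P₀ : Sylow p D := default
    have hP : (P₀ : Subgroup D) ≤ E.subgroupOf D := by
      intro x hx
      obtain ⟨k, hk⟩ := IsPGroup.iff_orderOf.1 P₀.isPGroup' ⟨x, hx⟩
      exact mem_pPart x.2 (k := k) (by rw [← hk, Subgroup.orderOf_mk]; exact Subgroup.orderOf_coe x)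
    exact (hp.coprime_iff_not_dvd.2 P₀.not_dvd_index).coprime_dvd_right
      (Subgroup.index_dvd_of_le hP)
  have hcommE : ∀ d ∈ D, ∀ e ∈ E, ⁅d, e⁆ ∈ M' := fun d hd e he => ⟨hcomm d hd e (hED he), by
    rw [commutatorElement_def]
    exact E.mul_mem (hEn.conj_mem e he d) (E.inv_mem he)⟩
  have hqM : ∀ e ∈ E, ∃ k, e ^ p ^ k ∈ M' := fun e he => (hqD e he).imp fun _ h => hDM' h
  refine ⟨⟨p, E, M', M'⟩,
    ⟨⟨hp, hpr, hEn, hM'n, hM'n, hDM', le_rfl, hM'E, hED, hqM,
      fun e he => ⟨hpow' e (hED he), E.pow_mem he p⟩, fun e he e' he' => hcommE e (hED he) e' he',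
      fun T hMT _ h => h.trans (sup_le le_rfl hMT), hcommE, hidx, hqD,
      fun f hf _ e he => hcommE f hf e he⟩,
      fun T hTn hMT hTE => ?_, fun m hm e he => hcommE m (hED (hM'E.le hm)) e he,
      fun j hj f hf _ m hm => ?_, fun j hj e he h => ?_⟩⟩
  · rcases hirr (T ⊔ M) inferInstance le_sup_right (sup_le (hTE.trans hED) hMlt.le) with h | h
    · exact Or.inl (le_antisymm (le_inf (le_sup_left.trans h.le) hTE) hMT)
    · refine Or.inr (le_antisymm hTE fun e he => ?_)
      obtain ⟨τ, hτ, m, hm, rfl⟩ := Subgroup.mem_sup_of_normal_right.1 (h.ge (hED he))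
      refine T.mul_mem hτ (hMT ⟨hm, ?_⟩)
      simpa using E.mul_mem (E.inv_mem (hTE hτ)) he
  · show ⁅f, m⁆ ∈ M'
    rw [commutatorElement_def]
    exact M'.mul_mem (hM'n.conj_mem m hm f) (M'.inv_mem hm)
  · exact fixA_aux S j hp hEn hM'n hM'E.le (by rw [hj]; exact hED) hqM
      (fun e he e' he' => hcommE e (hED he) e' he') (by rw [hj]; exact hcommE)
      (by rw [hj]; exact hidx) e he h

end CfsgLib.Turull73
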