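import Mathlib

/-!
# Monomial and permutation modules of a finite group

* `exists_permuted_basis`: a monomial representation whose stabilisers fix their lines pointwise
  has a permuted basis.
* `finrank_fixedSpace`, `finrank_map_fixedSpace_le`, `card_le_finrank_eigenspace`: dimensions in a
  permutation module.
* `card_orbits_mul_of_uniform`: counting orbits.
-/

set_option autoImplicit false

namespace CfsgLib.Turull73

open MulAction

variable {Γ B F L : Type*} [Group Γ] [MulAction Γ B] [Field F] [AddCommGroup L] [Module F L]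

/-- The common fixed space of a representation. -/
def fixedSpace (α : Γ →* Module.End F L) : Submodule F L := ⨅ g, LinearMap.ker (α g - 1)

theorem mem_fixedSpace {α : Γ →* Module.End F L} {x : L} :
    x ∈ fixedSpace α ↔ ∀ g, α g x = x := by
  simp [fixedSpace, sub_eq_zero]

/-- The eigenspace of a linear character. -/
def charSpace (α : Γ →* Module.End F L) (χ : Γ →* F) : Submodule F L :=
  ⨅ g, LinearMap.ker (α g - χ g • 1)

theorem mem_charSpace {α : Γ →* Module.End F L} {χ : Γ →* F} {x : L} :
    x ∈ charSpace α χ ↔ ∀ g, α g x = χ g • x := by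
  simp [charSpace, sub_eq_zero]

variable [Finite B]

theorem exists_permuted_basis (e : Module.Basis B F L) (α : Γ →* Module.End F L)
    (hmono : ∀ g b, ∃ k : F, α g (e b) = k • e (g • b))
    (hstab : ∀ g b, g • b = b → α g (e b) = e b) :
    ∃ e' : Module.Basis B F L, ∀ g b, α g (e' b) = e' (g • b) := by
  classical
  have hrep : ∀ b, ∃ g : Γ, g • (⟦b⟧ : orbitRel.Quotient Γ B).out = b := fun b => by
    have h : (orbitRel Γ B).r (⟦b⟧ : orbitRel.Quotient Γ B).out b := Quotient.mk_out b
    obtain ⟨g, hg⟩ := orbitRel_apply.1 h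
    exact ⟨g⁻¹, by rw [← hg, inv_smul_smul]⟩
  choose c hc using hrep
  let v : B → L := fun b => α (c b) (e (⟦b⟧ : orbitRel.Quotient Γ B).out)
  have hv : ∀ g b, α g (v b) = v (g • b) := by
    intro g b
    have hq : (⟦g • b⟧ : orbitRel.Quotient Γ B) = ⟦b⟧ := Quotient.sound (mem_orbit b g)
    show α g (α (c b) _) = α (c (g • b)) (e (⟦g • b⟧ : orbitRel.Quotient Γ B).out)
    have h2 := hc (g • b)
    rw [hq] at h2 ⊢
    have hs : ((c (g • b))⁻¹ * (g * c b)) • (⟦b⟧ : orbitRel.Quotient Γ B).out =
        (⟦b⟧ : orbitRel.Quotient Γ B).out := by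
      rw [mul_smul, mul_smul, hc b, inv_smul_eq_iff, h2]
    conv_rhs => rw [← hstab _ _ hs]
    rw [← Module.End.mul_apply, ← map_mul, ← Module.End.mul_apply, ← map_mul, mul_inv_cancel_left]
  have hk : ∀ b, ∃ k : F, v b = k • e b := fun b => by
    obtain ⟨k, hk⟩ := hmono (c b) (⟦b⟧ : orbitRel.Quotient Γ B).out
    rw [hc] at hk
    exact ⟨k, hk⟩
  choose k hk using hk
  have hne : ∀ b, IsUnit (k b) := by
    intro b
    rw [isUnit_iff_ne_zero]
    intro h0
    have h1 : α (c b) (e (⟦b⟧ : orbitRel.Quotient Γ B).out) = 0 := by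
      have := hk b
      rwa [h0, zero_smul] at this
    have h2 := congrArg (α (c b)⁻¹) h1
    rw [← Module.End.mul_apply, ← map_mul, inv_mul_cancel, map_one, Module.End.one_apply,
      map_zero] at h2
    exact e.ne_zero _ h2
  refine ⟨e.isUnitSMul hne, fun g b => ?_⟩
  rw [e.isUnitSMul_apply, e.isUnitSMul_apply, ← hk, ← hk, hv]

theorem finrank_fixedSpace (e : Module.Basis B F L) (α : Γ →* Module.End F L)
    (hperm : ∀ g b, α g (e b) = e (g • b)) :
    Module.finrank F (fixedSpace α) = Nat.card (orbitRel.Quotient Γ B) := by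
  classical
  have := Fintype.ofFinite B
  have := Fintype.ofFinite (orbitRel.Quotient Γ B)
  have hcoef : ∀ g x b, e.repr (α g x) (g • b) = e.repr x b := by
    intro g x b
    have : (e.repr.toLinearMap ∘ₗ α g) = Finsupp.lmapDomain F F (g • ·) ∘ₗ e.repr.toLinearMap :=
      e.ext fun a => by simp [hperm]
    have h := LinearMap.congr_fun this x
    simp only [LinearMap.comp_apply, LinearEquiv.coe_coe, Finsupp.lmapDomain_apply] at h
    rw [h, Finsupp.mapDomain_apply (MulAction.injective g)]
  let φ : fixedSpace α →ₗ[F] (orbitRel.Quotient Γ B → F) :=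
    { toFun := fun x o => e.repr x.1 o.out
      map_add' := fun x y => by ext o; simp
      map_smul' := fun a x => by ext o; simp }
  have hinj : Function.Injective φ := by
    rw [injective_iff_map_eq_zero]
    intro x hx
    refine Subtype.ext (e.repr.injective (Finsupp.ext fun b => ?_))
    have h : (orbitRel Γ B).r b (⟦b⟧ : orbitRel.Quotient Γ B).out :=
      (orbitRel Γ B).symm (Quotient.mk_out b)
    obtain ⟨g, hg⟩ := orbitRel_apply.1 h
    have := congrFun hx (⟦b⟧ : orbitRel.Quotient Γ B)
    simp only [φ, LinearMap.coe_mk, AddHom.coe_mk, Pi.zero_apply] at this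
    rw [← hg, ← (mem_fixedSpace.1 x.2 g)]
    simp [hcoef, this]
  have hsurj : Function.Surjective φ := by
    intro f
    refine ⟨⟨∑ b, f ⟦b⟧ • e b, mem_fixedSpace.2 fun g => ?_⟩, ?_⟩
    · rw [map_sum]
      refine Fintype.sum_equiv (MulAction.toPerm g) _ _ fun b => ?_
      rw [map_smul, hperm]
      congr 2
      exact Quotient.sound ((orbitRel Γ B).symm (mem_orbit b g))
    · ext o
      simp only [φ, LinearMap.coe_mk, AddHom.coe_mk, e.repr_sum_self, Quotient.out_eq]
  rw [(LinearEquiv.ofBijective φ ⟨hinj, hsurj⟩).finrank_eq, Module.finrank_pi,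
    Nat.card_eq_fintype_card]

theorem finrank_map_fixedSpace_le [Finite Γ] {L' : Type*} [AddCommGroup L'] [Module F L']
    (e : Module.Basis B F L) (α : Γ →* Module.End F L) (hperm : ∀ g b, α g (e b) = e (g • b))
    (π : L →ₗ[F] L') (hπ : ∀ g x, π (α g x) = π x) :
    Module.finrank F ((fixedSpace α).map π) ≤
      Nat.card {o : orbitRel.Quotient Γ B // (Nat.card {b : B // ⟦b⟧ = o} : F) ≠ 0} := by
  classical
  have := Fintype.ofFinite B
  have := Fintype.ofFinite (orbitRel.Quotient Γ B)
  let P := {o : orbitRel.Quotient Γ B // (Nat.card {b : B // ⟦b⟧ = o} : F) ≠ 0}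
  let w : P → L' := fun o => π (e o.1.out)
  have hle : (fixedSpace α).map π ≤ Submodule.span F (Set.range w) := by
    rintro _ ⟨x, hx, rfl⟩
    have hconst : ∀ (g : Γ) (b : B), e.repr x (g • b) = e.repr x b := by
      intro g b
      have : (e.repr.toLinearMap ∘ₗ α g) = Finsupp.lmapDomain F F (g • ·) ∘ₗ e.repr.toLinearMap :=
        e.ext fun a => by simp [hperm]
      have h := LinearMap.congr_fun this x
      simp only [LinearMap.comp_apply, LinearEquiv.coe_coe, Finsupp.lmapDomain_apply,
        mem_fixedSpace.1 hx g] at h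
      conv_lhs => rw [h, Finsupp.mapDomain_apply (MulAction.injective g)]
    rw [← e.sum_repr x, map_sum, ← Finset.sum_fiberwise Finset.univ
      (fun b => (⟦b⟧ : orbitRel.Quotient Γ B))]
    refine Submodule.sum_mem _ fun o _ => ?_
    have hterm : ∀ b ∈ Finset.univ.filter (fun b => (⟦b⟧ : orbitRel.Quotient Γ B) = o),
        π (e.repr x b • e b) = e.repr x o.out • π (e o.out) := by
      intro b hb
      have hb' : (⟦b⟧ : orbitRel.Quotient Γ B) = ⟦o.out⟧ := by
        rw [(Finset.mem_filter.1 hb).2, Quotient.out_eq]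
      obtain ⟨g, hg⟩ := orbitRel_apply.1 (Quotient.exact hb')
      replace hg : g • o.out = b := hg
      rw [← hg, hconst, map_smul, ← hperm, hπ]
    rw [Finset.sum_congr rfl hterm, Finset.sum_const, ← Nat.cast_smul_eq_nsmul F, smul_smul]
    by_cases ho : (Nat.card {b : B // ⟦b⟧ = o} : F) = 0
    · rw [Nat.card_eq_fintype_card, Fintype.card_subtype] at ho
      rw [ho, zero_mul, zero_smul]
      exact zero_mem _
    · exact Submodule.smul_mem _ _ (Submodule.subset_span ⟨⟨o, ho⟩, rfl⟩)
  have : FiniteDimensional F (Submodule.span F (Set.range w)) :=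
    Module.Finite.span_of_finite F (Set.finite_range w)
  refine (Submodule.finrank_mono hle).trans ?_
  rw [Nat.card_eq_fintype_card]
  exact finrank_range_le_card w

theorem card_le_finrank_charSpace [Fintype Γ] [FiniteDimensional F L] (e : Module.Basis B F L)
    (α : Γ →* Module.End F L) (hperm : ∀ g b, α g (e b) = e (g • b)) (χ : Γ →* F)
    (hΓ : ∀ b : B, (Nat.card (stabilizer Γ b) : F) ≠ 0) :
    Nat.card {o : orbitRel.Quotient Γ B // ∀ g : Γ, g • o.out = o.out → χ g = 1} ≤
      Module.finrank F (charSpace α χ) := by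
  classical
  have := Fintype.ofFinite B
  let P := {o : orbitRel.Quotient Γ B // ∀ g : Γ, g • o.out = o.out → χ g = 1}
  let v : P → charSpace α χ := fun o => ⟨∑ g : Γ, χ g⁻¹ • e (g • o.1.out), mem_charSpace.2 fun h => by
    rw [map_sum, Finset.smul_sum]
    refine Fintype.sum_equiv (Equiv.mulLeft h) _ _ fun g => ?_
    rw [map_smul, hperm, smul_smul h g, smul_smul (χ h), Equiv.coe_mulLeft]
    congr 1
    rw [mul_inv_rev, map_mul, mul_comm (χ g⁻¹), ← mul_assoc, ← map_mul, mul_inv_cancel, map_one,
      one_mul]⟩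
  have hcoef : ∀ o o' : P, e.repr (v o).1 o'.1.out =
      if o = o' then (Nat.card (stabilizer Γ o.1.out) : F) else 0 := by
    intro o o'
    simp only [v, map_sum, map_smul, Finsupp.coe_finsetSum, Finset.sum_apply, Finsupp.smul_apply,
      Module.Basis.repr_self, Finsupp.single_apply, smul_eq_mul, mul_ite, mul_one, mul_zero]
    split_ifs with h
    · subst h
      rw [← Finset.sum_filter, Nat.card_eq_fintype_card, Fintype.card_subtype, Finset.cast_card]
      refine Finset.sum_congr ?_ fun g hg => ?_
      · ext g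
        simp
      · simp only [Finset.mem_filter, Finset.mem_univ, true_and, mem_stabilizer_iff] at hg
        exact o.2 g⁻¹ (by rw [inv_smul_eq_iff, hg])
    · refine Finset.sum_eq_zero fun g _ => if_neg fun hg => h (Subtype.ext ?_)
      rw [← Quotient.out_eq o.1, ← Quotient.out_eq o'.1]
      exact Quotient.sound ((orbitRel Γ B).symm ⟨g, hg⟩)
  have hli : LinearIndependent F v := by
    rw [linearIndependent_iff']
    intro s a hs o ho
    have h := congrArg (fun x : charSpace α χ => e.repr (x : L) o.1.out) hs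
    simp only [Submodule.coe_sum, Submodule.coe_smul, map_sum, map_smul, Finsupp.coe_finsetSum,
      Finset.sum_apply, Finsupp.smul_apply, smul_eq_mul, Submodule.coe_zero, map_zero,
      Finsupp.coe_zero, Pi.zero_apply, hcoef, mul_ite, mul_zero] at h
    rw [Finset.sum_ite_eq', if_pos ho] at h
    exact (mul_eq_zero.1 h).resolve_right (hΓ _)
  rw [Nat.card_eq_fintype_card]
  exact hli.fintype_card_le_finrank

/-- A group whose non-identity elements all have the same fixed points. -/
theorem card_orbits_mul_of_uniform [Finite Γ] (f : ℕ)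
    (h : ∀ g : Γ, g ≠ 1 → Nat.card (fixedBy B g) = f) :
    Nat.card (orbitRel.Quotient Γ B) * Nat.card Γ = Nat.card B + (Nat.card Γ - 1) * f := by
  classical
  have := Fintype.ofFinite B
  have := Fintype.ofFinite Γ
  have := Fintype.ofFinite (orbitRel.Quotient Γ B)
  simp only [Nat.card_eq_fintype_card] at h ⊢
  rw [← sum_card_fixedBy_eq_card_orbits_mul_card_group Γ B,
    ← Finset.add_sum_erase _ _ (Finset.mem_univ (1 : Γ))]
  congr 1
  · exact Fintype.card_congr (Equiv.subtypeUnivEquiv fun b => one_smul Γ b)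
  · rw [Finset.sum_congr rfl fun g hg => h g (Finset.ne_of_mem_erase hg), Finset.sum_const,
      smul_eq_mul, Finset.card_erase_of_mem (Finset.mem_univ _), Finset.card_univ]

end CfsgLib.Turull73
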