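import Cfsg.Agent.Turull73.Heis
import Cfsg.Agent.Turull73.Perm

/-!
# Lifting commuting automorphisms that fix a type

* `IsType.quotAut`: the automorphism of `E / R` induced by an automorphism fixing the type.
* `exists_irreducible`: an irreducible representation of the type inside a given one.
* `exists_embedding`: it embeds in every non-zero invariant subspace.
* `exists_lifts`: two commuting automorphisms of coprime orders prime to `|E|` lift to commuting
  operators which permute a basis of `End M` like they permute `E / R`.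
-/

set_option autoImplicit false

open scoped commutatorElement

namespace CfsgLib.Turull73

variable {F E M W : Type*} [Field F] [Group E] [AddCommGroup M] [Module F M] [AddCommGroup W]
  [Module F W] {ω : E → F}

namespace IsType

variable (hω : IsType ω)

/-- `E / R` is abelian. -/
theorem quot_comm (a b : E ⧸ hω.supp) : a * b = b * a := by
  induction a using QuotientGroup.induction_on with | H x => ?_
  induction b using QuotientGroup.induction_on with | H y => ?_
  rw [← QuotientGroup.mk_mul, ← QuotientGroup.mk_mul, QuotientGroup.eq]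
  have : (x * y)⁻¹ * (y * x) = ⁅y⁻¹, x⁻¹⁆ := by rw [commutatorElement_def]; group
  rw [this]
  exact hω.comm_mem _ _

/-- The automorphism of `E / R` induced by an automorphism fixing the type. -/
def quotAut (a : MulAut E) (ha : ∀ g, ω (a g) = ω g) : MulAut (E ⧸ hω.supp) :=
  QuotientGroup.congr hω.supp hω.supp a (by
    ext g
    constructor
    · rintro ⟨x, hx, rfl⟩
      show ω (a x) ≠ 0
      rw [ha]; exact hx
    · intro hg
      refine ⟨a.symm g, ?_, a.apply_symm_apply g⟩
      show ω (a.symm g) ≠ 0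
      rw [← ha, a.apply_symm_apply]; exact hg)

theorem quotAut_mk (a : MulAut E) (ha : ∀ g, ω (a g) = ω g) (g : E) :
    hω.quotAut a ha (g : E ⧸ hω.supp) = ((a g : E) : E ⧸ hω.supp) := rfl

theorem pow_fix {a : MulAut E} (ha : ∀ g, ω (a g) = ω g) : ∀ (m : ℕ) (g : E), ω ((a ^ m) g) = ω g
  | 0, _ => rfl
  | m + 1, g => by rw [pow_succ', MulAut.mul_apply, ha]; exact IsType.pow_fix ha m g

theorem quotAut_pow (a : MulAut E) (ha : ∀ g, ω (a g) = ω g) (m : ℕ) (g : E) :
    (hω.quotAut a ha ^ m) (g : E ⧸ hω.supp) = (((a ^ m) g : E) : E ⧸ hω.supp) := by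
  induction m with
  | zero => rfl
  | succ m ih => rw [pow_succ', pow_succ', MulAut.mul_apply, ih, quotAut_mk]; rfl

theorem quotAut_pow_eq_one (a : MulAut E) (ha : ∀ g, ω (a g) = ω g) {m : ℕ} (h : a ^ m = 1) :
    hω.quotAut a ha ^ m = 1 := by
  refine MulEquiv.ext fun b => ?_
  induction b using QuotientGroup.induction_on with | H x => ?_
  rw [quotAut_pow, h]
  rfl

theorem quotAut_commute {a b : MulAut E} (ha : ∀ g, ω (a g) = ω g) (hb : ∀ g, ω (b g) = ω g)
    (hab : Commute a b) : Commute (hω.quotAut a ha) (hω.quotAut b hb) := by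
  refine MulEquiv.ext fun x => ?_
  induction x using QuotientGroup.induction_on with | H g => ?_
  show ((a (b g) : E) : E ⧸ hω.supp) = ((b (a g) : E) : E ⧸ hω.supp)
  rw [← MulAut.mul_apply, hab.eq]
  rfl

include hω in
/-- The type restricted to a subgroup on which the pairing is non-degenerate. -/
theorem restrict (H : Subgroup E)
    (hnd : ∀ g ∈ H, (∀ h ∈ H, ω ⁅g, h⁆ = 1) → ω g ≠ 0) : IsType (fun g : H => ω g) where
  one := hω.one
  mul g h hg := hω.mul g h hg
  comm g h := hω.comm g h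
  mem g := ⟨fun hg h => (hω.mem g).1 hg h, fun h => hnd g g.2 fun k hk => h ⟨k, hk⟩⟩

end IsType

/-- An irreducible subrepresentation of the same type. -/
theorem exists_irreducible [FiniteDimensional F W] (ρ : E →* Module.End F W) (hρ : IsRepOf ρ ω)
    [Nontrivial W] :
    ∃ (S : Submodule F W) (_ : Nontrivial S) (ρS : E →* Module.End F S), IsRepOf ρS ω ∧
      ∀ U : Submodule F S, (∀ g, ∀ w ∈ U, ρS g w ∈ U) → U ≠ ⊥ → U = ⊤ := by
  obtain ⟨S, -, hS0, hinv, hmin⟩ := exists_minimal_invariant ρ (U := ⊤) top_ne_bot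
    (fun _ _ _ => Submodule.mem_top)
  refine ⟨S, Submodule.nontrivial_iff_ne_bot.2 hS0,
    { toFun := fun g => (ρ g).restrict (hinv g)
      map_one' := LinearMap.ext fun x => Subtype.ext (by simp)
      map_mul' := fun a b => LinearMap.ext fun x => Subtype.ext (by
        simp [ρ_mul_apply]) }, fun g hg => LinearMap.ext fun x => Subtype.ext ?_, fun U hU hU0 => ?_⟩
  · show ρ g (x : W) = _
    rw [hρ g hg]
    rfl
  · have h1 := hmin (U.map S.subtype) (Submodule.map_subtype_le S U) (by
      rintro g _ ⟨w, hw, rfl⟩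
      exact ⟨_, hU g w hw, rfl⟩) (by
      intro h0
      apply hU0
      rw [eq_bot_iff]
      intro w hw
      have hm : (w : W) ∈ U.map S.subtype := ⟨w, hw, rfl⟩
      rw [h0, Submodule.mem_bot] at hm
      exact (Submodule.mem_bot F).2 (Subtype.ext hm))
    rw [eq_top_iff]
    intro x _
    obtain ⟨y, hy, hyx⟩ := h1.ge x.2
    rwa [← Subtype.ext hyx]

section Irreducible

variable [Fintype E] [IsAlgClosed F] [FiniteDimensional F M] [Nontrivial M]
  (hω : IsType ω) (hcen : ∀ a b c : E, Commute ⁅a, b⁆ c) (hE : (Nat.card E : F) ≠ 0)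
  {ρ : E →* Module.End F M} (hρ : IsRepOf ρ ω)
  (hirr : ∀ U : Submodule F M, (∀ g, ∀ w ∈ U, ρ g w ∈ U) → U ≠ ⊥ → U = ⊤)

/-- The irreducible representation embeds in every invariant subspace of a representation of the
same type. -/
theorem exists_embedding (hirr : ∀ U : Submodule F M, (∀ g, ∀ w ∈ U, ρ g w ∈ U) → U ≠ ⊥ → U = ⊤)
    (hω : IsType ω) (hcen : ∀ a b c : E, Commute ⁅a, b⁆ c) (hE : (Nat.card E : F) ≠ 0)
    (hρ : IsRepOf ρ ω) {ρ' : E →* Module.End F W} (hρ' : IsRepOf ρ' ω)
    (Ψ : Module.End F M →ₐ[F] Module.End F W) (hΨ : ∀ g, Ψ (ρ g) = ρ' g)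
    {U : Submodule F W} (hU : U ≠ ⊥) (hinv : ∀ g, ∀ w ∈ U, ρ' g w ∈ U) :
    ∃ T : M →ₗ[F] W, Function.Injective T ∧ (∀ m, T m ∈ U) ∧ ∀ A m, T (A m) = Ψ A (T m) := by
  classical
  obtain ⟨v, hv⟩ := exists_ne (0 : M)
  obtain ⟨φ, hφ⟩ := Module.Projective.exists_dual_ne_zero F hv
  let R : M → Module.End F M := fun m => LinearMap.smulRight ((φ v)⁻¹ • φ) m
  have hR : ∀ m x, R m x = ((φ v)⁻¹ * φ x) • m := fun m x => by simp [R]
  have hRv : R v * R v = R v := LinearMap.ext fun x => by
    rw [Module.End.mul_apply, hR, hR, map_smul, smul_eq_mul, mul_comm _ (φ v), ← mul_assoc,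
      inv_mul_cancel₀ hφ, one_mul]
  let e := endBasis hω hcen hE hρ hirr
  have := Fintype.ofFinite (E ⧸ hω.supp)
  have hΨU : ∀ A, ∀ w ∈ U, Ψ A w ∈ U := by
    intro A w hw
    rw [← e.sum_repr A, map_sum, LinearMap.sum_apply]
    refine Submodule.sum_mem _ fun b _ => ?_
    rw [map_smul, LinearMap.smul_apply, endBasis_apply, hΨ]
    exact U.smul_mem _ (hinv _ w hw)
  obtain ⟨w, hwU, hw⟩ : ∃ w ∈ U, Ψ (R v) w ≠ 0 := by
    by_contra! h
    have hUne : Nontrivial U := Submodule.nontrivial_iff_ne_bot.2 hU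
    let ρU : E →* Module.End F U :=
      { toFun := fun g => (ρ' g).restrict (hinv g)
        map_one' := LinearMap.ext fun x => Subtype.ext (by simp)
        map_mul' := fun a b => LinearMap.ext fun x => Subtype.ext (by simp [ρ_mul_apply]) }
    have hρU : IsRepOf ρU ω := fun g hg => LinearMap.ext fun x => Subtype.ext (by
      show ρ' g (x : W) = _
      rw [hρ' g hg]; rfl)
    have hrepr : e.repr (R v) = 0 := by
      refine Finsupp.ext fun b => ?_
      refine Fintype.linearIndependent_iff.1 (linearIndependent_out hω hcen hE hρU)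
        (fun b => e.repr (R v) b) (LinearMap.ext fun x => Subtype.ext ?_) b
      have h1 := h x x.2
      rw [← e.sum_repr (R v), map_sum, LinearMap.sum_apply] at h1
      simp only [map_smul, LinearMap.smul_apply, e, endBasis_apply, hΨ] at h1
      simpa [ρU] using h1
    have h0 : R v v = 0 := by rw [e.repr.map_eq_zero_iff.1 hrepr]; rfl
    rw [hR, inv_mul_cancel₀ hφ, one_smul] at h0
    exact hv h0
  let w' := Ψ (R v) w
  let T : M →ₗ[F] W :=
    { toFun := fun m => Ψ (R m) w'
      map_add' := fun a b => by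
        have : R (a + b) = R a + R b := LinearMap.ext fun x => by simp [hR, smul_add]
        rw [this, map_add]; rfl
      map_smul' := fun c a => by
        have : R (c • a) = c • R a := LinearMap.ext fun x => by simp [hR, smul_comm c]
        rw [this, map_smul]; rfl }
  have hTA : ∀ A m, T (A m) = Ψ A (T m) := fun A m => by
    show Ψ (R (A m)) w' = Ψ A (Ψ (R m) w')
    rw [← Module.End.mul_apply (Ψ A), ← map_mul]
    congr 2
    exact LinearMap.ext fun x => by simp [hR, Module.End.mul_apply, map_smul]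
  refine ⟨T, ?_, fun m => hΨU _ _ (hΨU _ _ hwU), hTA⟩
  rw [← LinearMap.ker_eq_bot]
  by_contra hK
  have h2 := hirr (LinearMap.ker T) (fun g m hm => by
    rw [LinearMap.mem_ker] at hm ⊢
    rw [hTA, hm, map_zero]) hK
  have hv' : v ∈ LinearMap.ker T := by rw [h2]; exact Submodule.mem_top
  rw [LinearMap.mem_ker] at hv'
  apply hw
  show w' = 0
  rw [← hv']
  show Ψ (R v) w = Ψ (R v) (Ψ (R v) w)
  rw [← Module.End.mul_apply, ← map_mul, hRv]

include hω hcen hE hρ hirr in
/-- Commuting automorphisms of coprime orders prime to `|E|` lift to commuting operators permuting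
a common basis of `End M`. -/
theorem exists_lifts {σ α : MulAut E} {r d : ℕ} (hr : 0 < r) (hd : 0 < d) (hrd : r.Coprime d)
    (hrE : r.Coprime (Nat.card E)) (hdE : d.Coprime (Nat.card E))
    (hσ : σ ^ r = 1) (hα : α ^ d = 1) (hσα : Commute σ α)
    (hσω : ∀ g, ω (σ g) = ω g) (hαω : ∀ g, ω (α g) = ω g) :
    ∃ (S U : Module.End F M) (e : Module.Basis (E ⧸ hω.supp) F (Module.End F M)),
      S ^ r = 1 ∧ U ^ d = 1 ∧ Commute S U ∧
      (∀ g, S * ρ g = ρ (σ g) * S) ∧ (∀ g, U * ρ g = ρ (α g) * U) ∧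
      (∀ b, S * e b = e (hω.quotAut σ hσω b) * S) ∧
      ∀ b, U * e b = e (hω.quotAut α hαω b) * U := by
  classical
  obtain ⟨S, hSr, hS⟩ := exists_intertwiner_pow hω hcen hE hρ hirr hr hσ hσω
  obtain ⟨U, hUd, hU⟩ := exists_intertwiner_pow hω hcen hE hρ hirr hd hα hαω
  have hSU : Commute S U := commute_of_intertwiner hirr hσα hSr hUd hrd hS hU
  -- the group of pairs
  let G₀ : Subgroup (MulAut E × (Module.End F M)ˣ) :=
    { carrier := {x | (∀ g, ω (x.1 g) = ω g) ∧
        ∀ g, (x.2 : Module.End F M) * ρ g = ρ (x.1 g) * x.2}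
      one_mem' := ⟨fun _ => rfl, fun g => by simp⟩
      mul_mem' := fun {x y} hx hy => ⟨fun g => by
        show ω (x.1 (y.1 g)) = ω g
        rw [hx.1, hy.1], fun g => by
        show ((x.2 : Module.End F M) * y.2) * ρ g = ρ (x.1 (y.1 g)) * (x.2 * y.2)
        rw [mul_assoc, hy.2, ← mul_assoc, hx.2, mul_assoc]⟩
      inv_mem' := fun {x} hx => ⟨fun g => by
        show ω (x.1.symm g) = ω g
        conv_rhs => rw [← x.1.apply_symm_apply g]
        rw [hx.1], fun g => by
        show ((x.2⁻¹ : (Module.End F M)ˣ) : Module.End F M) * ρ g =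
          ρ (x.1.symm g) * ((x.2⁻¹ : (Module.End F M)ˣ) : Module.End F M)
        apply x.2.isUnit.mul_left_cancel
        rw [← mul_assoc, x.2.mul_inv, one_mul, ← mul_assoc, hx.2, x.1.apply_symm_apply, mul_assoc,
          x.2.mul_inv, mul_one]⟩ }
  let x : G₀ := ⟨(σ, S), hσω, hS⟩
  let y : G₀ := ⟨(α, U), hαω, hU⟩
  let Γ := Subgroup.closure ({x, y} : Set G₀)
  have hxy : Commute x y := Subtype.ext (Prod.ext hσα hSU)
  have hxr : x ^ r = 1 := Subtype.ext (Prod.ext hσ hSr)
  have hyd : y ^ d = 1 := Subtype.ext (Prod.ext hα hUd)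
  have hexp : ∀ γ : Γ, (γ : G₀) ^ (r * d) = 1 := by
    rintro ⟨γ, hγ⟩
    obtain ⟨i, j, hij⟩ : ∃ i j : ℤ, γ = x ^ i * y ^ j := by
      induction hγ using Subgroup.closure_induction with
      | mem z hz =>
        rcases hz with rfl | rfl
        · exact ⟨1, 0, by simp⟩
        · exact ⟨0, 1, by simp⟩
      | one => exact ⟨0, 0, by simp⟩
      | mul a b _ _ ha hb =>
        obtain ⟨i, j, rfl⟩ := ha
        obtain ⟨i', j', rfl⟩ := hb
        refine ⟨i + i', j + j', ?_⟩
        rw [zpow_add, zpow_add, ((hxy.zpow_zpow i' j).symm).mul_mul_mul_comm]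
      | inv a _ ha =>
        obtain ⟨i, j, rfl⟩ := ha
        exact ⟨-i, -j, by rw [mul_inv_rev, ← zpow_neg, ← zpow_neg, (hxy.zpow_zpow (-i) (-j)).eq]⟩
    show γ ^ (r * d) = 1
    rw [hij, (hxy.zpow_zpow i j).mul_pow, ← zpow_natCast (x ^ i), ← zpow_mul,
      ← zpow_natCast (y ^ j), ← zpow_mul, mul_comm i, mul_comm j, zpow_mul, zpow_mul,
      zpow_natCast x, zpow_natCast y, pow_mul, hxr, mul_comm r d, pow_mul, hyd]
    simp
  let q : Γ →* Equiv.Perm (E ⧸ hω.supp) :=
    { toFun := fun γ => (hω.quotAut γ.1.1.1 γ.1.2.1).toEquiv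
      map_one' := Equiv.ext fun b => by
        induction b using QuotientGroup.induction_on with | H g => rfl
      map_mul' := fun a b => Equiv.ext fun c => by
        induction c using QuotientGroup.induction_on with | H g => rfl }
  let act : MulAction Γ (E ⧸ hω.supp) := MulAction.compHom _ q
  let A : Γ →* Module.End F (Module.End F M) :=
    { toFun := fun γ => LinearMap.mulLeft F (γ.1.1.2 : Module.End F M) ∘ₗ
        LinearMap.mulRight F ((γ.1.1.2⁻¹ : (Module.End F M)ˣ) : Module.End F M)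
      map_one' := LinearMap.ext fun X => by simp
      map_mul' := fun a b => LinearMap.ext fun X => by simp [mul_assoc] }
  have hA : ∀ (γ : Γ) g, A γ (ρ g) = ρ (γ.1.1.1 g) := by
    intro γ g
    show (γ.1.1.2 : Module.End F M) * (ρ g * ((γ.1.1.2⁻¹ : (Module.End F M)ˣ) : Module.End F M)) = _
    rw [← mul_assoc, γ.1.2.2, mul_assoc, Units.mul_inv, mul_one]
  let e₀ := endBasis hω hcen hE hρ hirr
  have he₀ : ∀ b, e₀ b = ρ b.out := endBasis_apply hω hcen hE hρ hirr
  have hmk : ∀ (γ : Γ) (b : E ⧸ hω.supp),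
      γ • b = ((γ.1.1.1 b.out : E) : E ⧸ hω.supp) := fun γ b => by
    conv_lhs => rw [← QuotientGroup.out_eq' b]
    rfl
  obtain ⟨e, he⟩ := exists_permuted_basis e₀ A (fun γ b => by
      refine ⟨ω ((γ • b).out⁻¹ * γ.1.1.1 b.out), ?_⟩
      rw [he₀, hA, he₀, hmk]
      exact ρ_eq_smul_out hω hρ (γ.1.1.1 b.out)) (fun γ b hb => by
      rw [hmk] at hb
      rw [he₀, hA, ρ_eq_smul_out hω hρ (γ.1.1.1 b.out), hb]
      set k := ω (b.out⁻¹ * γ.1.1.1 b.out) with hk
      have hmem : ω (b.out⁻¹ * γ.1.1.1 b.out) ≠ 0 := by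
        have : b.out⁻¹ * γ.1.1.1 b.out ∈ hω.supp :=
          QuotientGroup.eq.1 (by rw [QuotientGroup.out_eq', hb])
        exact this
      have hA' : A γ (ρ b.out) = k • ρ b.out := by
        rw [hA, ρ_eq_smul_out hω hρ (γ.1.1.1 b.out), hb]
      have hpow : ∀ m : ℕ, A (γ ^ m) (ρ b.out) = k ^ m • ρ b.out := fun m => by
        induction m with
        | zero => simp
        | succ m ih =>
          rw [pow_succ', map_mul, Module.End.mul_apply, ih, map_smul, hA', smul_smul, pow_succ]
      have h := hpow (r * d)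
      rw [show γ ^ (r * d) = 1 from Subtype.ext (hexp γ), map_one, Module.End.one_apply] at h
      have hk1 : k = 1 := by
        refine eq_one_of_coprime_pow (Nat.Coprime.mul_left hrE hdE)
          (smul_left_injective F ?_ (h.symm.trans (one_smul F _).symm)) (hω.pow_card hmem)
        intro h0
        apply e₀.ne_zero b
        rw [he₀, h0]
      rw [hk1, one_smul])
  refine ⟨S, U, e, ?_, ?_, hSU.units_val, hS, hU, fun b => ?_, fun b => ?_⟩
  · rw [← Units.val_pow_eq_pow_val, hSr, Units.val_one]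
  · rw [← Units.val_pow_eq_pow_val, hUd, Units.val_one]
  · have h := he ⟨x, Subgroup.subset_closure (Set.mem_insert _ _)⟩ b
    change (S : Module.End F M) * (e b * _) = e (hω.quotAut σ hσω b) at h
    rw [← h, mul_assoc, mul_assoc, Units.inv_mul, mul_one]
  · have h := he ⟨y, Subgroup.subset_closure (Set.mem_insert_of_mem _ rfl)⟩ b
    change (U : Module.End F M) * (e b * _) = e (hω.quotAut α hαω b) at h
    rw [← h, mul_assoc, mul_assoc, Units.inv_mul, mul_one]

end Irreducible

end CfsgLib.Turull73
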