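import Cfsg.Agent.FittingLength.Basic
import Cfsg.Agent.Coprime.Action

/-!
# Nilpotent residuals

* `nilRes_succ_eq`: the residual is reached in the lower central series; `commutator_nilRes`,
  `map_nilRes`, `nilRes_lt`.
* `exists_mem_nilRes_succ`: a coprime element of the `i`-th residual of `H` acting non-trivially on
  a section gives an element of the next residual outside the bottom of the section.
* `cenMod E M`: the centraliser of a section; `pPart`: the `p`-part over a residual.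
* `le_of_commutator_eq`: a coprime transfer argument.
-/

set_option autoImplicit false

open scoped commutatorElement

namespace CfsgLib.Turull73

open FittingLength

variable {G : Type*} [Group G]

theorem exists_nilRes_succ_eq [Finite G] (H : Subgroup G) (i : ℕ) :
    ∃ k, ∀ m, k ≤ m → nilRes H (i + 1) = (nilRes H i).lowerCentralSeries m := by
  classical
  let a := (nilRes H i).lowerCentralSeries
  have ha : Antitone a := Subgroup.lowerCentralSeries_antitone _
  obtain ⟨_, ⟨k, rfl⟩, hmin⟩ := wellFounded_lt.has_min (Set.range a) ⟨_, 0, rfl⟩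
  have hconst : ∀ m, k ≤ m → a m = a k := fun m hm =>
    eq_of_le_of_not_lt (ha hm) (hmin _ ⟨m, rfl⟩)
  refine ⟨k, fun m hm => le_antisymm (iInf_le _ m) (le_iInf fun j => ?_)⟩
  show a m ≤ a j
  rw [hconst m hm, ← hconst (max j k) (le_max_right _ _)]
  exact ha (le_max_left _ _)

theorem commutator_nilRes [Finite G] (H : Subgroup G) (i : ℕ) :
    ⁅nilRes H (i + 1), nilRes H i⁆ = nilRes H (i + 1) := by
  obtain ⟨k, hk⟩ := exists_nilRes_succ_eq H i
  conv_lhs => rw [hk k le_rfl, ← Subgroup.lowerCentralSeries_succ, ← hk (k + 1) (Nat.le_succ k)]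

theorem map_nilRes [Finite G] {K : Type*} [Group K] (f : G →* K) (H : Subgroup G) :
    ∀ i, (nilRes H i).map f = nilRes (H.map f) i
  | 0 => rfl
  | i + 1 => by
    refine le_antisymm (map_nilRes_le f H _) ?_
    obtain ⟨k, hk⟩ := exists_nilRes_succ_eq H i
    rw [hk k le_rfl, Subgroup.map_lowerCentralSeries, map_nilRes f H i]
    exact iInf_le _ k

theorem nilRes_normal (X : Subgroup G) [X.Normal] (i : ℕ) : (nilRes X i).Normal :=
  ⟨fun x hx g => by
    have hle : X.map (MulAut.conj g).toMonoidHom ≤ X := by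
      rintro _ ⟨y, hy, rfl⟩
      exact ‹X.Normal›.conj_mem y hy g
    exact nilRes_mono hle i (map_nilRes_le _ X i (Subgroup.mem_map_of_mem _ hx))⟩

theorem nilRes_le_of_le (H : Subgroup G) {i j : ℕ} (hij : i ≤ j) : nilRes H j ≤ nilRes H i := by
  induction hij with
  | refl => exact le_rfl
  | step _ ih => exact (iInf_le _ 0).trans ih

theorem nilRes_succ_le_commutator (H : Subgroup G) (i : ℕ) :
    nilRes H (i + 1) ≤ ⁅nilRes H i, nilRes H i⁆ := iInf_le _ 1

theorem nilRes_lt (X : Subgroup G) [Group.IsSolvable X] (i : ℕ) (h : nilRes X i ≠ ⊥) :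
    nilRes X (i + 1) < nilRes X i := by
  refine lt_of_le_of_ne (nilRes_le_of_le X (Nat.le_succ i)) fun he => h ?_
  set K := nilRes X i
  have hcomm : ⁅K, K⁆ = K :=
    le_antisymm (Subgroup.commutator_le_self K) (he.ge.trans (nilRes_succ_le_commutator X i))
  have hsol : Group.IsSolvable K := Coprime.isSolvable_of_le (nilRes_le X i)
  by_contra hne
  have : Nontrivial K := K.nontrivial_iff_ne_bot.2 hne
  have hlt := Group.IsSolvable.commutator_lt_top_of_nontrivial (G := K)
  apply hlt.ne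
  apply Subgroup.map_injective K.subtype_injective
  rw [commutator_def, Subgroup.map_commutator, ← MonoidHom.range_eq_map, K.range_subtype, hcomm]

theorem exists_lowerCentralSeries_le_succ [Finite G] (H : Subgroup G) (i : ℕ) :
    ∃ k, (nilRes H i).lowerCentralSeries k ≤ nilRes H (i + 1) :=
  ⟨_, ((exists_nilRes_succ_eq H i).choose_spec _ le_rfl).ge⟩

/-- Elements of coprime order commute modulo the next residual. -/
theorem commutatorElement_mem_nilRes_succ [Finite G] (H : Subgroup G) (i : ℕ) {w y : G}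
    (hw : w ∈ nilRes H i) (hy : y ∈ nilRes H i) (hcop : (orderOf w).Coprime (orderOf y)) :
    ⁅w, y⁆ ∈ nilRes H (i + 1) :=
  Subgroup.mem_iInf.2 fun k => commutatorElement_mem_lowerCentralSeries hw hy hcop k

/-- The main tool: a coprime element of `nilRes H i` moving a section gives an element of the next
residual. -/
theorem exists_mem_nilRes_succ [Finite G] {H : Subgroup G} {i : ℕ} {L L₀ : Subgroup G} [L₀.Normal]
    (hLH : L ≤ H) {y : G} (hy : y ∈ nilRes H i) (hLy : y ∈ Subgroup.normalizer (L : Set G))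
    (hcop : (orderOf y).Coprime (Nat.card (L.map (QuotientGroup.mk' L₀))))
    {c : G} (hc : c ∈ L) :
    ∃ z ∈ nilRes H (i + 1) ⊓ L, z⁻¹ * ⁅y, c⁆ ∈ L₀ := by
  classical
  set f := QuotientGroup.mk' L₀
  set A := Subgroup.zpowers (f y)
  have hAL : A ≤ Subgroup.normalizer ((L.map f : Subgroup _) : Set (G ⧸ L₀)) :=
    Subgroup.zpowers_le.2 (Subgroup.le_normalizer_map f ⟨y, hLy, rfl⟩)
  have hcc := Coprime.commutator_commutator_eq hAL
    (by rw [Nat.card_zpowers]; exact hcop.coprime_dvd_left (orderOf_map_dvd f y))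
  set R := nilRes H i
  suffices h : ∀ k, ⁅L.map f, A⁆ ≤ (R.lowerCentralSeries k ⊓ L).map f by
    obtain ⟨k, hk⟩ := exists_nilRes_succ_eq H i
    have hmem : f ⁅y, c⁆ ∈ ⁅L.map f, A⁆ := by
      rw [map_commutatorElement, ← commutatorElement_inv]
      exact inv_mem (Subgroup.commutator_mem_commutator (Subgroup.mem_map_of_mem f hc)
        (Subgroup.mem_zpowers _))
    obtain ⟨z, hz, hzeq⟩ := h k hmem
    rw [← hk k le_rfl] at hz
    exact ⟨z, hz, QuotientGroup.eq.1 hzeq⟩
  have hRnorm : ∀ g ∈ H, ∀ x ∈ R, g * x * g⁻¹ ∈ R := fun g hg x hx => conj_mem_nilRes hg hx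
  have hgen : ∀ (S T : Subgroup (G ⧸ L₀)), f y ∈ Subgroup.normalizer (T : Set (G ⧸ L₀)) →
      (∀ q ∈ S, ⁅q, f y⁆ ∈ T) → ⁅S, A⁆ ≤ T := by
    intro S T hT h
    let U : Subgroup (G ⧸ L₀) :=
      { carrier := {a | a ∈ Subgroup.normalizer (T : Set (G ⧸ L₀)) ∧ ∀ q ∈ S, ⁅q, a⁆ ∈ T}
        one_mem' := ⟨one_mem _, fun q _ => by simp⟩
        mul_mem' := fun {a b} ha hb => ⟨mul_mem ha.1 hb.1, fun q hq => by
          rw [commutatorElement_mul_right_eq_mul_conj, mul_assoc, mul_assoc, ← mul_assoc a]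
          exact mul_mem (ha.2 q hq) ((Subgroup.mem_normalizer_iff.1 ha.1 _).1 (hb.2 q hq))⟩
        inv_mem' := fun {a} ha => ⟨inv_mem ha.1, fun q hq => by
          have e : ⁅q, a⁻¹⁆ = a⁻¹ * ⁅q, a⁆⁻¹ * a⁻¹⁻¹ := by
            rw [commutatorElement_def, commutatorElement_def]; group
          rw [e]
          exact (Subgroup.mem_normalizer_iff.1 (inv_mem ha.1) _).1 (inv_mem (ha.2 q hq))⟩ }
    have hAU : A ≤ U := Subgroup.zpowers_le.2 ⟨hT, h⟩
    exact Subgroup.commutator_le.2 fun q hq a ha => (hAU ha).2 q hq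
  have hynorm : ∀ k, f y ∈ Subgroup.normalizer
      (((R.lowerCentralSeries k ⊓ L).map f : Subgroup _) : Set (G ⧸ L₀)) := fun k =>
    Subgroup.le_normalizer_map f ⟨y, Subgroup.inf_normalizer_le_normalizer_inf
      ⟨(R.self_le_normalizer_lowerCentralSeries k) hy, hLy⟩, rfl⟩
  intro k
  induction k with
  | zero =>
    refine hgen _ _ (hynorm 0) ?_
    rintro _ ⟨n, hn, rfl⟩
    refine ⟨⁅n, y⁆, ⟨?_, ?_⟩, map_commutatorElement f n y⟩
    · show n * y * n⁻¹ * y⁻¹ ∈ R
      exact R.mul_mem (hRnorm n (hLH hn) y hy) (R.inv_mem hy)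
    · show n * y * n⁻¹ * y⁻¹ ∈ L
      rw [mul_assoc, mul_assoc, ← mul_assoc y]
      exact L.mul_mem hn ((Subgroup.mem_normalizer_iff.1 hLy _).1 (L.inv_mem hn))
  | succ k ih =>
    rw [← hcc]
    refine hgen _ _ (hynorm (k + 1)) fun q hq => ?_
    obtain ⟨t, ⟨ht, htL⟩, rfl⟩ := ih hq
    refine ⟨⁅t, y⁆, ⟨Subgroup.commutator_mem_commutator ht hy, ?_⟩, map_commutatorElement f t y⟩
    show t * y * t⁻¹ * y⁻¹ ∈ L
    rw [mul_assoc, mul_assoc, ← mul_assoc y]
    exact L.mul_mem htL ((Subgroup.mem_normalizer_iff.1 hLy _).1 (L.inv_mem htL))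

/-- The centraliser of the section `E / M`. -/
def cenMod (E M : Subgroup G) [M.Normal] : Subgroup G :=
  (Subgroup.centralizer (E.map (QuotientGroup.mk' M) : Set (G ⧸ M))).comap (QuotientGroup.mk' M)

theorem mem_cenMod {E M : Subgroup G} [M.Normal] {g : G} :
    g ∈ cenMod E M ↔ ∀ e ∈ E, ⁅g, e⁆ ∈ M := by
  rw [cenMod, Subgroup.mem_comap, Subgroup.mem_centralizer_iff]
  constructor
  · intro h e he
    rw [← QuotientGroup.eq_one_iff (N := M)]
    show QuotientGroup.mk' M ⁅g, e⁆ = 1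
    rw [map_commutatorElement, commutatorElement_eq_one_iff_mul_comm]
    exact (h _ ⟨e, he, rfl⟩).symm
  · rintro h _ ⟨e, he, rfl⟩
    have h1 := (QuotientGroup.eq_one_iff (N := M) _).2 (h e he)
    rw [show ((⁅g, e⁆ : G) : G ⧸ M) = QuotientGroup.mk' M ⁅g, e⁆ from rfl, map_commutatorElement,
      commutatorElement_eq_one_iff_mul_comm] at h1
    exact h1.symm

instance cenMod_normal (E M : Subgroup G) [E.Normal] [M.Normal] : (cenMod E M).Normal := by
  have : (E.map (QuotientGroup.mk' M)).Normal :=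
    Subgroup.Normal.map ‹_› _ (QuotientGroup.mk'_surjective M)
  exact Subgroup.Normal.comap inferInstance _

theorem cenMod_mono {E E' M M' : Subgroup G} [M.Normal] [M'.Normal] (hE : E' ≤ E) (hM : M ≤ M') :
    cenMod E M ≤ cenMod E' M' :=
  fun _ hg => mem_cenMod.2 fun e he => hM (mem_cenMod.1 hg e (hE he))

/-- The subgroup generated by `D'` and the `p`-elements of `D`. -/
def pPart (D D' : Subgroup G) (p : ℕ) : Subgroup G :=
  D' ⊔ Subgroup.closure {x | x ∈ D ∧ ∃ k, orderOf x = p ^ k}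

theorem le_pPart (D D' : Subgroup G) (p : ℕ) : D' ≤ pPart D D' p := le_sup_left

theorem mem_pPart {D D' : Subgroup G} {p : ℕ} {x : G} (hx : x ∈ D) {k : ℕ}
    (hk : orderOf x = p ^ k) : x ∈ pPart D D' p :=
  Subgroup.mem_sup_right (Subgroup.subset_closure ⟨hx, k, hk⟩)

theorem pPart_le {D D' : Subgroup G} (h : D' ≤ D) (p : ℕ) : pPart D D' p ≤ D :=
  sup_le h ((Subgroup.closure_le D).2 fun _ hx => hx.1)

instance pPart_normal (D D' : Subgroup G) [D.Normal] [D'.Normal] (p : ℕ) :
    (pPart D D' p).Normal := by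
  refine ⟨fun x hx g => ?_⟩
  have hle : pPart D D' p ≤ (pPart D D' p).comap (MulAut.conj g).toMonoidHom := by
    refine sup_le (fun y hy => Subgroup.mem_sup_left (‹D'.Normal›.conj_mem y hy g))
      ((Subgroup.closure_le _).2 ?_)
    rintro y ⟨hy, k, hk⟩
    refine mem_pPart (k := k) (‹D.Normal›.conj_mem y hy g) ?_
    exact ((MulAut.conj g).orderOf_eq y).trans hk
  exact hle hx

theorem pPart_pow_mem [Finite G] {D D' : Subgroup G} [D'.Normal] {p : ℕ} (hp : p.Prime)
    (hnil : ∃ k, D.lowerCentralSeries k ≤ D') {x : G} (hx : x ∈ pPart D D' p) :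
    ∃ k, x ^ p ^ k ∈ D' := by
  have := Fact.mk hp
  set f := QuotientGroup.mk' D'
  have hn : Group.IsNilpotent (D.map f) := by
    rw [Subgroup.isNilpotent_iff_lowerCentralSeries]
    obtain ⟨k, hk⟩ := hnil
    refine ⟨k, ?_⟩
    rw [← Subgroup.map_lowerCentralSeries, Subgroup.map_eq_bot_iff, QuotientGroup.ker_mk']
    exact hk
  let P : Sylow p (D.map f) := default
  have hPn : (P : Subgroup (D.map f)).Normal := inferInstance
  have hle : (pPart D D' p).map f ≤ (P : Subgroup (D.map f)).map (D.map f).subtype := by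
    rw [Subgroup.map_le_iff_le_comap]
    refine sup_le (fun y hy => ?_) ((Subgroup.closure_le _).2 ?_)
    · rw [Subgroup.mem_comap, show f y = 1 from (QuotientGroup.eq_one_iff y).2 hy]
      exact one_mem _
    · rintro y ⟨hy, k, hk⟩
      let y' : D.map f := ⟨f y, Subgroup.mem_map_of_mem f hy⟩
      have hy' : IsPGroup p (Subgroup.zpowers y') := by
        have hd : orderOf y' ∣ p ^ k := by
          rw [← Subgroup.orderOf_coe, ← hk]; exact orderOf_map_dvd f y
        obtain ⟨m, -, hm⟩ := (Nat.dvd_prime_pow hp).1 hd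
        exact IsPGroup.of_card (n := m) (by rw [Nat.card_zpowers, hm])
      obtain ⟨P', hP'⟩ := hy'.exists_le_sylow
      let hu := Sylow.unique_of_normal P hPn
      rw [Subsingleton.elim P' P] at hP'
      exact ⟨y', hP' (Subgroup.mem_zpowers y'), rfl⟩
  obtain ⟨z, hz, hzeq⟩ := hle (Subgroup.mem_map_of_mem f hx)
  obtain ⟨k, hk⟩ := P.isPGroup' ⟨z, hz⟩
  refine ⟨k, (QuotientGroup.eq_one_iff _).1 ?_⟩
  show f (x ^ p ^ k) = 1
  rw [map_pow, ← hzeq]
  exact congrArg (fun u : (P : Subgroup (D.map f)) => ((u.1 : D.map f) : G ⧸ D')) hk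

theorem mem_of_pow_pow_mem {H : Subgroup G} {x : G} {a b : ℕ} (hab : a.Coprime b)
    (ha : x ^ a ∈ H) (hb : x ^ b ∈ H) : x ∈ H := by
  rw [← pow_one x, ← hab.gcd_eq_one, ← zpow_natCast, Nat.gcd_eq_gcd_ab, zpow_add, zpow_mul,
    zpow_mul, zpow_natCast, zpow_natCast]
  exact H.mul_mem (H.zpow_mem ha _) (H.zpow_mem hb _)

/-- A coprime transfer argument: if `D` centralises `E / L`, `[D,H] = D` and `[E,H] ≤ L`, then
`E ≤ L`. -/
theorem le_of_commutator_eq [Finite G] {D E H L : Subgroup G} [D.Normal] [E.Normal] [L.Normal]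
    (hED : E ≤ D) (hcen : D ≤ cenMod E L) (hDH : ⁅D, H⁆ = D) (hEH : ⁅E, H⁆ ≤ L) {q : ℕ}
    (hq : ∀ e ∈ E, ∃ k, e ^ q ^ k ∈ L) (hidx : q.Coprime (E.relIndex D)) : E ≤ L := by
  set f := QuotientGroup.mk' L
  set m := E.relIndex D
  have hpow : ∀ d ∈ D, d ^ m ∈ E := by
    intro d hd
    have : (E.subgroupOf D).Normal := ‹E.Normal›.subgroupOf D
    exact (E.subgroupOf D).pow_index_mem (⟨d, hd⟩ : D)
  set Z := Subgroup.center (D.map f) with hZ
  have hEZ : (E.map f).subgroupOf (D.map f) ≤ Z := by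
    intro z hz
    rw [Subgroup.mem_center_iff]
    rintro ⟨_, d, hd, rfl⟩
    obtain ⟨e, he, hze⟩ := hz
    refine Subtype.ext ?_
    show f d * (z : G ⧸ L) = z * f d
    rw [show (z : G ⧸ L) = f e from hze.symm]
    have h1 := (QuotientGroup.eq_one_iff (N := L) _).2 (mem_cenMod.1 (hcen hd) e he)
    rw [show ((⁅d, e⁆ : G) : G ⧸ L) = f ⁅d, e⁆ from rfl, map_commutatorElement,
      commutatorElement_eq_one_iff_mul_comm] at h1
    exact h1
  have hdvd : Z.index ∣ m := by
    refine (Subgroup.index_dvd_of_le hEZ).trans ?_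
    rw [← Subgroup.relIndex, ← Subgroup.relIndex_comap]
    exact Subgroup.relIndex_dvd_of_le_left _ (Subgroup.le_comap_map f E)
  obtain ⟨k, hk⟩ := hdvd
  have hmul : ∀ a b : D.map f, (a * b) ^ m = a ^ m * b ^ m := by
    intro a b
    have h := congrArg Subtype.val (map_mul (MonoidHom.transferCenterPow (D.map f)) a b)
    rw [Subgroup.coe_mul, MonoidHom.transferCenterPow_apply, MonoidHom.transferCenterPow_apply,
      MonoidHom.transferCenterPow_apply] at h
    rw [hk, pow_mul, pow_mul, pow_mul, h]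
    exact Commute.mul_pow ((Subgroup.mem_center_iff.1 (Z.pow_index_mem b)) _) k
  let φ : D.map f →* D.map f :=
    { toFun := fun a => a ^ m, map_one' := one_pow m, map_mul' := hmul }
  have hker : D ≤ (φ.ker.map (D.map f).subtype).comap f := by
    conv_lhs => rw [← hDH]
    rw [Subgroup.commutator_le]
    intro d hd h hh
    have hdh : ⁅d, h⁆ ∈ D := by
      rw [← hDH]; exact Subgroup.commutator_mem_commutator hd hh
    refine ⟨⟨f ⁅d, h⁆, Subgroup.mem_map_of_mem f hdh⟩, ?_, rfl⟩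
    let a : D.map f := ⟨f d, Subgroup.mem_map_of_mem f hd⟩
    let b : D.map f := ⟨f (h * d * h⁻¹), Subgroup.mem_map_of_mem f (‹D.Normal›.conj_mem d hd h)⟩
    have hab : (⟨f ⁅d, h⁆, Subgroup.mem_map_of_mem f hdh⟩ : D.map f) = a * b⁻¹ := Subtype.ext (by
      show f ⁅d, h⁆ = f d * (f (h * d * h⁻¹))⁻¹
      rw [← map_inv, ← map_mul, commutatorElement_def]
      congr 1
      group)
    show φ _ = 1
    rw [hab, map_mul, map_inv, mul_inv_eq_one]
    refine Subtype.ext ?_
    show f d ^ m = f (h * d * h⁻¹) ^ m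
    rw [← map_pow, ← map_pow, conj_pow]
    have h1 : ⁅d ^ m, h⁆ ∈ L := hEH (Subgroup.commutator_mem_commutator (hpow d hd) hh)
    rw [← QuotientGroup.eq_one_iff (N := L)] at h1
    rw [show ((⁅d ^ m, h⁆ : G) : G ⧸ L) = f ⁅d ^ m, h⁆ from rfl, map_commutatorElement,
      commutatorElement_eq_one_iff_mul_comm] at h1
    rw [map_mul, map_mul, map_inv, ← h1, mul_inv_cancel_right]
  intro e he
  obtain ⟨j, hj⟩ := hq e he
  refine mem_of_pow_pow_mem (hidx.pow_left j) hj ?_
  obtain ⟨a, ha, hae⟩ := hker (hED he)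
  rw [← QuotientGroup.eq_one_iff (N := L)]
  show f (e ^ m) = 1
  rw [map_pow, ← hae]
  exact congrArg Subtype.val (MonoidHom.mem_ker.1 ha)

end CfsgLib.Turull73
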