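import Cfsg.Agent.Turull73.Supported

/-!
# Seeds

* `deep_lift`: a fixed vector above the first moved layer with a lift in the residual of `C`.
* `ne_bot_of_frame`: the residual `t - 2` of the fixed points is not trivial.
-/

set_option autoImplicit false

open scoped commutatorElement

namespace CfsgLib.Turull73

open FittingLength

/-- The identity and the inversion commute with every automorphism. -/
theorem mul_comm_of_pm_one {B : Type*} [Group B] (a : MulAut B) {b : MulAut B}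
    (h : b = 1 ∨ ∀ x, b x = x⁻¹) : a * b = b * a := by
  rcases h with h | h
  · rw [h, mul_one, one_mul]
  · refine MulEquiv.ext fun x => ?_
    rw [MulAut.mul_apply, MulAut.mul_apply, h, h, map_inv]

variable {G : Type*} [Group G] [Finite G]

namespace Frame

variable (F : Frame G)

/-- If a moved element of the residual two layers down moves a fixed type, some fixed vector moves
under an element of that residual. -/
theorem lift_of_moved {i : ℕ} (hi : i + 3 ≤ F.S.t) (hfpf : F.Fpf (i + 2)) {ω : F.Ω (i + 2)}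
    (hs : F.S.s ∈ F.Fix ω)
    (hw0 : ∃ w ∈ typeSpace (F.rep (i + 2)) ω.1, F.repG (i + 3) F.S.s w = w ∧ w ≠ 0)
    {w : G} (hw : F.IsU i w) (hwω : w ∉ F.Fix ω) :
    ∃ z : F.E (i + 3), (z : G) ∈ nilRes F.C (i + 1) ∧ (∃ k, orderOf (z : G) = F.p (i + 3) ^ k) ∧
      F.mkV (i + 3) z ≠ 1 := by
  classical
  have hsw : F.S.s * w = w * F.S.s := (F.mem_C.1 (hw.mem_C F)).2
  set ω' := F.permΩ (i + 2) w ω with hω'
  have hs' : F.S.s ∈ F.Fix ω' := F.permΩ_eq_self.1 (by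
    rw [hω', F.commute_permΩ hsw, F.permΩ_eq_self.2 hs])
  obtain ⟨m, hm, hne⟩ : ∃ m, F.toV (i + 2) m = 1 ∧ ω'.1 m ≠ ω.1 m := by
    by_contra! h
    exact hwω (F.permΩ_eq_self.1 (F.eq_of_fixed hfpf (by omega) hs' hs h))
  set σ := F.actQ (i + 2) F.S.s
  set φ := twist σ m F.S.r with hφ
  have hφV : F.toV (i + 2) φ = 1 := F.toV_twist_eq_one hfpf m
  have hφσ : σ φ = φ := by
    rw [hφ, map_twist (F.actQ_pow_r _), mul_assoc, ← hφ, (F.commute_of_toV hφV m).eq,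
      inv_mul_cancel_left]
  have hval : ω'.1 φ ≠ ω.1 φ := by
    rw [hφ, type_twist ω'.2.1 hs' (F.type_ne_zero_of_toV ω' hm),
      type_twist ω.2.1 hs (F.type_ne_zero_of_toV ω hm)]
    intro h
    apply hne
    have h0 := F.type_ne_zero_of_toV ω hm
    refine (div_eq_one_iff_eq h0).1
      (eq_one_of_coprime_pow (F.S.hr.coprime_iff_not_dvd.2 (F.not_r_dvd_Q (i + 2))) ?_ ?_)
    · rw [div_pow, h, div_self (pow_ne_zero _ h0)]
    · rw [div_pow, ω'.2.1.pow_card (F.type_ne_zero_of_toV ω' hm), ω.2.1.pow_card h0, div_one]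
  -- lift `φ`
  obtain ⟨e, he⟩ := F.mkQ_surjective (i + 2) φ
  obtain ⟨c, hc, hec⟩ := F.exists_mem_C (((F.N_le_M _).trans (F.M_le_E _)).trans (F.E_le_X (i + 2)))
    (F.E_le_X _ e.2) (F.actQ_eq_self.1 (he.symm ▸ hφσ))
  have hcE : c ∈ F.E (i + 2) := by
    simpa using (F.E (i + 2)).mul_mem e.2 (F.M_le_E _ (F.N_le_M _ hec))
  have hcφ : F.mkQ (i + 2) ⟨c, hcE⟩ = φ := by
    rw [← he]
    exact ((QuotientGroup.eq (a := e) (b := (⟨c, hcE⟩ : F.E (i + 2)))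
      (s := (F.N (i + 2)).subgroupOf (F.E (i + 2)))).2 hec).symm
  obtain ⟨z, hz, hzp, hzc⟩ := F.exists_comm_lift (hw.inv F).1 (c := (⟨c, hcE⟩ : F.E (i + 2))) hc
  have hψ : F.mkQ (i + 2) z = F.actQ (i + 2) w⁻¹ φ * φ⁻¹ := by
    rw [← hcφ, ← map_inv]
    show F.mkQ (i + 2) z = F.mkQ (i + 2) ⟨w⁻¹ * c * w⁻¹⁻¹,
      (F.isLayer (i + 2)).hEn.conj_mem c hcE w⁻¹⟩ * F.mkQ (i + 2) ⟨c, hcE⟩⁻¹
    rw [← map_mul]
    exact (QuotientGroup.eq (s := (F.N (i + 2)).subgroupOf (F.E (i + 2)))).2 hzc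
  have hφne : ω.1 φ ≠ 0 := F.type_ne_zero_of_toV ω hφV
  have hψne : ω.1 (F.mkQ (i + 2) z) ≠ 0 := by
    refine F.type_ne_zero_of_toV ω ?_
    rw [hψ, map_mul, toV_actQ, map_inv (F.toV (i + 2)), hφV, map_one, inv_one, mul_one]
  have hψ1 : ω.1 (F.mkQ (i + 2) z) ≠ 1 := by
    intro h
    apply hval
    have hw' : ω'.1 φ = ω.1 (F.actQ (i + 2) w⁻¹ φ) := by
      rw [hω', permΩ_apply, map_inv]
      rfl
    have h1 : ω.1 (F.mkQ (i + 2) z * φ) = ω.1 φ := by rw [ω.2.1.mul _ _ hψne, h, one_mul]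
    rw [hw', ← h1, hψ, inv_mul_cancel_right]
  obtain ⟨v, hv, hvz⟩ : ∃ v, F.actV (i + 3) F.S.s v = v ∧ F.actV (i + 3) (z : G) v ≠ v := by
    by_contra! h
    obtain ⟨w0, hw0T, hw0s, hw00⟩ := hw0
    have h1 := F.repG_fix_dual (F.mem_C.1 (F.nilRes_C_le _ hz)).2 h hw0s
    rw [← F.rep_mk (i + 2) z, hw0T _ hψne] at h1
    exact hψ1 (smul_left_injective _ hw00 (h1.trans (one_smul _ w0).symm))
  obtain ⟨v', hv', rfl⟩ := F.exists_C_lift hv
  obtain ⟨z', hz', hzp', hzV⟩ :=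
    F.exists_res_succ (i := i + 2) (j := i + 3) (F.p_ne (by omega)) hz hzp hv'
  exact ⟨z', hz', hzp', fun h => hvz (mul_inv_eq_one.1 (hzV.symm.trans h))⟩

/-- At least two layers above the bottom some fixed vector lifts into the residual. -/
theorem deep_lift {i : ℕ} (hi : i + 3 ≤ F.S.t) (htriv : ∀ k < i + 2, F.STriv k)
    (hfpf : F.Fpf (i + 2)) :
    ∃ z : F.E (i + 3), (z : G) ∈ nilRes F.C (i + 1) ∧ (∃ k, orderOf (z : G) = F.p (i + 3) ^ k) ∧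
      F.mkV (i + 3) z ≠ 1 := by
  classical
  by_cases hmove : ∃ u, F.IsU (i + 1) u ∧
      ∃ v, F.actV (i + 3) F.S.s v = v ∧ F.actV (i + 3) u v ≠ v
  · obtain ⟨u, hu, v, hv, huv⟩ := hmove
    obtain ⟨c, hc, rfl⟩ := F.exists_C_lift hv
    obtain ⟨z, hz, hzp, hzc⟩ := F.exists_comm_lift hu.1 hc
    refine ⟨z, hz, hzp, fun h => huv (mul_inv_eq_one.1 ?_)⟩
    rw [← F.mkV_comm_lift hzc, h]
  push Not at hmove
  have hdual : ∀ u, F.IsU (i + 1) u → ∀ φ : F.W (i + 3),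
      F.repG (i + 3) F.S.s φ = φ → F.repG (i + 3) u φ = φ := fun u hu φ hφ =>
    F.repG_fix_dual (F.mem_C.1 (hu.mem_C F)).2 (hmove u hu) hφ
  have htriv' : ∀ k ≤ i + 1, F.STriv k := fun k hk => htriv k (by omega)
  obtain ⟨q, hq⟩ := F.exists_ne_one (i + 2)
  obtain ⟨ω, hωq⟩ := F.exists_Ω_ne_one (show i + 2 < F.S.t by omega) hq
  have hs : F.S.s ∈ F.Fix ω := by
    by_contra hmov
    refine hωq ((F.eq_top_of_map (F.top_of_U (show i + 1 < F.S.t by omega) htriv'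
      (T := (F.oneSub ω).map (F.toV (i + 2))) fun u hu v => ?_)).ge (Subgroup.mem_top q))
    obtain ⟨g, rfl⟩ := F.toV_surjective (i + 2) v
    rw [← toV_actQ, mul_comm, ← map_inv, ← map_mul]
    exact Subgroup.mem_map_of_mem _ (F.moved_eq_one (by omega) hmov (hu.mem_C F) (hdual u hu) g)
  have hfix : ∀ u, F.IsU (i + 1) u → u ∈ F.Fix ω := fun u hu =>
    F.U_mem_Fix (show i + 1 + 1 < F.S.t by omega) hfpf hs hu
  have hw0 : ∃ w ∈ typeSpace (F.rep (i + 2)) ω.1, F.repG (i + 3) F.S.s w = w ∧ w ≠ 0 := by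
    by_contra! h
    exact F.not_all_trivial (show i + 1 + 1 < F.S.t by omega) htriv' hfpf hs ⟨q, hωq⟩
      fun u huω hu => F.onB_eq_one_of_no_fixed hfpf (by omega) hs h (hu.mem_C F) huω
        (hu.coprime F (F.p_ne (show i + 1 < F.S.t by omega)))
  by_cases hw : ∃ w, F.IsU i w ∧ w ∉ F.Fix ω
  · obtain ⟨w, hwU, hwω⟩ := hw
    exact F.lift_of_moved hi hfpf hs hw0 hwU hwω
  push Not at hw
  exfalso
  refine F.not_all_trivial (show i + 1 + 1 < F.S.t by omega) htriv' hfpf hs ⟨q, hωq⟩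
    fun u huω hu => ?_
  set Ker := (F.onB ω).ker.map (F.Fix ω).subtype
  have hpm : ∀ y (hy : y ∈ F.Fix ω), F.IsU (i + 1) y →
      F.onB ω ⟨y, hy⟩ = 1 ∨ ∀ b, F.onB ω ⟨y, hy⟩ b = b⁻¹ := fun y hy hyU =>
    F.onB_pm_one hfpf (by omega) hs (hyU.mem_C F) hy
      (hyU.coprime F (F.p_ne (show i + 1 < F.S.t by omega))) fun w _ hws => hdual y hyU w hws
  have htop : (Ker.subgroupOf (F.E (i + 1))).map (F.mkQ (i + 1)) = ⊤ := by
    refine F.eq_top_of_map (F.top_of_U (show i < F.S.t by omega)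
      (fun k hk => htriv k (by omega)) fun w hwU v => ?_)
    obtain ⟨e, rfl⟩ := F.mkV_surjective (i + 1) v
    obtain ⟨y, hyU, hey⟩ := F.exists_cover (show i + 1 ≤ F.S.t by omega) htriv' e e.2
    have hev : F.mkV (i + 1) e = F.mkV (i + 1) ⟨y, hyU.2.1⟩ :=
      (QuotientGroup.eq (a := e) (b := (⟨y, hyU.2.1⟩ : F.E (i + 1)))
        (s := (F.M (i + 1)).subgroupOf (F.E (i + 1)))).2 (F.N_le_M _ hey)
    rw [hev, F.actV_mul_inv, ← F.toV_mk]
    refine Subgroup.mem_map_of_mem _ (Subgroup.mem_map_of_mem _ ?_)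
    refine ⟨⁅(⟨w, hw w hwU⟩ : F.Fix ω), ⟨y, hfix y hyU⟩⁆, ?_, rfl⟩
    rw [SetLike.mem_coe, MonoidHom.mem_ker, map_commutatorElement,
      commutatorElement_eq_one_iff_mul_comm]
    exact mul_comm_of_pm_one _ (hpm y (hfix y hyU) hyU)
  obtain ⟨e, he, hue⟩ := htop.ge (Subgroup.mem_top (F.mkQ (i + 1) ⟨u, hu.2.1⟩))
  obtain ⟨⟨e', he'⟩, hker, rfl⟩ := he
  rw [← F.onB_congr ω (g := ⟨(e : G), he'⟩) (g' := ⟨u, huω⟩) ?_]
  · exact hker
  · exact (QuotientGroup.eq (a := e) (b := (⟨u, hu.2.1⟩ : F.E (i + 1)))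
      (s := (F.N (i + 1)).subgroupOf (F.E (i + 1)))).1 hue

theorem exists_seed {j : ℕ} (hj : j + 1 < F.S.t) (htriv : ∀ k < j, F.STriv k) (hfpf : F.Fpf j) :
    F.Seed j := by
  by_cases hsup : ∃ y : F.V (j + 1), F.actV (j + 1) F.S.s y = y ∧ y ≠ 1 ∧
      ∀ ω : F.Ω (j + 1), ¬ F.bad ω → y ∈ F.Kω ω
  · obtain ⟨y, -, hy1, hys⟩ := hsup
    exact F.seed_of_supported hj hfpf htriv hy1 hys
  push Not at hsup
  suffices h : ∃ z : F.E (j + 1), (z : G) ∈ nilRes F.C (j + 1 - 2) ∧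
      (∃ k, orderOf (z : G) = F.p (j + 1) ^ k) ∧ F.mkV (j + 1) z ≠ 1 by
    obtain ⟨z, hz, hzp, hz1⟩ := h
    obtain ⟨ω, hnb, hK⟩ := hsup _ (F.actV_of_mem_C (F.nilRes_C_le _ hz)) hz1
    exact ⟨z, hz, hzp, ω, hnb, hK⟩
  have low : ∀ {v : F.V (j + 1)}, j ≤ 1 → F.actV (j + 1) F.S.s v = v → v ≠ 1 →
      ∃ z : F.E (j + 1), (z : G) ∈ nilRes F.C (j + 1 - 2) ∧
        (∃ k, orderOf (z : G) = F.p (j + 1) ^ k) ∧ F.mkV (j + 1) z ≠ 1 := fun hj1 hv hv1 => by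
    obtain ⟨z, hz, hzp, rfl⟩ := F.exists_p_lift hv
    refine ⟨z, ?_, hzp, hv1⟩
    rw [show j + 1 - 2 = 0 by omega]
    exact hz
  rcases j with _ | _ | i
  · obtain ⟨v, hv, hv1⟩ := F.exists_fixed_ne_one_zero hj hfpf
    exact low zero_le_one hv hv1
  · obtain ⟨v, hv, hv1⟩ := F.exists_fixed_ne_one_succ (i := 0) (by omega)
      (fun k hk => htriv k (by omega)) hfpf
    exact low le_rfl hv hv1
  · exact F.deep_lift (by omega) htriv hfpf

/-- The residual `t - 2` of the fixed points is not trivial. -/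
theorem ne_bot_of_frame (hG : F.S.X ⊔ Subgroup.zpowers F.S.s = ⊤) (ht : 2 ≤ F.S.t) :
    nilRes F.C (F.S.t - 2) ≠ ⊥ := by
  classical
  by_cases hall : ∀ k ≤ F.S.t, F.STriv k
  · exact F.ne_bot_of_trivial le_rfl hall (Nat.sub_le _ _)
  push Not at hall
  have hex : ∃ k, k ≤ F.S.t ∧ ¬ F.STriv k := hall
  set j := Nat.find hex with hjdef
  obtain ⟨hjt, hnt⟩ : j ≤ F.S.t ∧ ¬ F.STriv j := Nat.find_spec hex
  have htriv : ∀ k < j, F.STriv k := fun k hk => by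
    by_contra h
    exact Nat.find_min hex (hjdef ▸ hk) ⟨by omega, h⟩
  by_cases hbig : F.S.t - 2 < j
  · exact F.ne_bot_of_trivial (i := j - 1) (by omega) (fun k hk => htriv k (by omega)) (by omega)
  have hfpf : F.Fpf j := F.fpf_of_first hG hjt htriv hnt
  obtain ⟨z, hz, hzp, ω, hnb, hx⟩ := F.exists_seed (by omega) htriv hfpf
  exact F.ne_bot_of_good (F.good_of_not_bad (by omega) hz hzp hnb hx)

end Frame

end CfsgLib.Turull73
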