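import Cfsg.Agent.Turull73.Centre

/-!
# Fixed vectors supported by bad types

If a fixed vector above the first moved layer lies in the kernels of all types which are not bad,
we find a fixed vector, with a lift in the residual of `C`, outside the kernel of a type moved
by `σ`.
-/

set_option autoImplicit false

open scoped commutatorElement

namespace CfsgLib.Turull73

open FittingLength

/-- Finitely many subgroups of large index do not cover a group. -/
theorem exists_not_mem_family {V ι : Type*} [Group V] [Finite V] [Fintype ι] (H : ι → Subgroup V)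
    {n : ℕ} (hbig : ∀ o, n ≤ (H o).index) (hn : Fintype.card ι ≤ n) (hn2 : 2 ≤ n)
    (hne : n ≤ Nat.card V) : ∃ v, ∀ o, v ∉ H o := by
  classical
  have := Fintype.ofFinite V
  by_contra! hcov
  let a : ι → ℕ := fun o => ((Finset.univ.filter (· ∈ H o)).erase 1).card
  have ha : ∀ o, n * (a o + 1) ≤ Fintype.card V := by
    intro o
    have h1 : a o + 1 = Nat.card (H o) := by
      show ((Finset.univ.filter (· ∈ H o)).erase 1).card + 1 = _
      rw [Finset.card_erase_add_one (Finset.mem_filter.2 ⟨Finset.mem_univ _, (H o).one_mem⟩),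
        Nat.card_eq_fintype_card, Fintype.card_subtype]
    rw [h1, ← Nat.card_eq_fintype_card, ← (H o).card_mul_index, mul_comm (Nat.card (H o))]
    exact Nat.mul_le_mul_right _ (hbig o)
  have hsub : (Finset.univ : Finset V).erase 1 ⊆
      Finset.univ.biUnion fun o => (Finset.univ.filter (· ∈ H o)).erase 1 := by
    intro v hv
    obtain ⟨o, ho⟩ := hcov v
    exact Finset.mem_biUnion.2 ⟨o, Finset.mem_univ _, Finset.mem_erase.2
      ⟨Finset.ne_of_mem_erase hv, Finset.mem_filter.2 ⟨Finset.mem_univ _, ho⟩⟩⟩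
  have hle := (Finset.card_le_card hsub).trans Finset.card_biUnion_le
  rw [Finset.card_erase_of_mem (Finset.mem_univ _), Finset.card_univ] at hle
  have hsum : n * ∑ o, a o ≤ n * (Fintype.card V - n) := by
    rw [Finset.mul_sum]
    refine le_trans (Finset.sum_le_sum (g := fun _ => Fintype.card V - n) fun o _ => ?_) ?_
    · have := ha o
      rw [Nat.mul_succ] at this
      omega
    · rw [Finset.sum_const, Finset.card_univ, smul_eq_mul]
      exact Nat.mul_le_mul_right _ hn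
  have h2 := Nat.le_of_mul_le_mul_left hsum (by omega)
  have h3 : (Fintype.card V - 1 : ℕ) ≤ ∑ o, a o := hle
  rw [Nat.card_eq_fintype_card] at hne
  omega

section Stable

variable {V : Type*} [Group V] {π : MulAut V} {S : Subgroup V}

theorem pow_mem_of_stable (hS : ∀ v ∈ S, π v ∈ S) : ∀ (n : ℕ), ∀ v ∈ S, (π ^ n) v ∈ S
  | 0 => fun _ hv => hv
  | n + 1 => fun v hv => by
    rw [pow_succ', MulAut.mul_apply]; exact hS _ (pow_mem_of_stable hS n v hv)

theorem inv_mul_pow_mem (hS : ∀ v ∈ S, π v ∈ S) {v : V} (hv : v⁻¹ * π v ∈ S) :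
    ∀ n : ℕ, v⁻¹ * (π ^ n) v ∈ S
  | 0 => by simp
  | n + 1 => by
    have h : v⁻¹ * (π ^ (n + 1)) v = (v⁻¹ * π v) * π (v⁻¹ * (π ^ n) v) := by
      rw [map_mul, map_inv, pow_succ', MulAut.mul_apply]; group
    rw [h]
    exact S.mul_mem hv (hS _ (inv_mul_pow_mem hS hv n))

theorem inv_mul_map_mem_of_inv_mul_pow_mem [Finite V] {r : ℕ} (hr : r.Prime) (hπ : π ^ r = 1)
    (hS : ∀ v ∈ S, π v ∈ S) {m : ℕ} (hm : ¬ r ∣ m) {v : V} (hv : v⁻¹ * (π ^ m) v ∈ S) :
    v⁻¹ * π v ∈ S := by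
  obtain ⟨k, hk⟩ := exists_pow_eq_self_of_coprime (x := π) (n := m)
    (((hr.coprime_iff_not_dvd.2 hm).coprime_dvd_left (orderOf_dvd_of_pow_eq_one hπ)).symm)
  have := inv_mul_pow_mem (π := π ^ m) (fun w hw => pow_mem_of_stable hS m w hw) hv k
  rwa [hk] at this

theorem succ_le_index [Finite V] {r : ℕ} (hr : r.Prime) (hπ : π ^ r = 1)
    (hcop : ¬ r ∣ Nat.card V) (hfpf : ∀ v, π v = v → v = 1) (hS : ∀ v ∈ S, π v ∈ S)
    (hne : S ≠ ⊤) : r + 1 ≤ S.index := by
  obtain ⟨v, hv⟩ : ∃ v, v ∉ S := by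
    by_contra! h
    exact hne (eq_top_iff.2 fun x _ => h x)
  have hnostab : v⁻¹ * π v ∉ S := fun h => by
    obtain ⟨c, hc, hvc⟩ := exists_fixed_of_stable_coset hr π hπ hcop hS h
    rw [hfpf c hc, mul_one] at hvc
    exact hv (by simpa using hvc)
  let f : Option (Fin r) → V ⧸ S := fun o => o.elim ((1 : V) : V ⧸ S)
    fun k => (((π ^ (k : ℕ)) v : V) : V ⧸ S)
  have hback : ∀ k : ℕ, k ≤ r → (π ^ (r - k)) ((π ^ k) v) = v := fun k hk => by
    rw [← MulAut.mul_apply, ← pow_add, Nat.sub_add_cancel hk, hπ]; rfl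
  have hone : ∀ k : Fin r, (π ^ (k : ℕ)) v ∉ S := fun k hk => hv (by
    rw [← hback k k.2.le]
    exact pow_mem_of_stable hS _ _ hk)
  have hlt : ∀ a b : Fin r, (a : ℕ) < b → f (some a) ≠ f (some b) := by
    intro a b hab heq
    have h1 : ((π ^ (a : ℕ)) v)⁻¹ * (π ^ (b : ℕ)) v ∈ S := QuotientGroup.eq.1 heq
    have h2 := pow_mem_of_stable hS (r - a) _ h1
    rw [map_mul, map_inv, hback a a.2.le, ← MulAut.mul_apply, ← pow_add,
      show r - (a : ℕ) + b = r + ((b : ℕ) - a) by omega, pow_add, hπ, one_mul] at h2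
    exact hnostab (inv_mul_map_mem_of_inv_mul_pow_mem hr hπ hS
      (fun hd => absurd (Nat.le_of_dvd (by omega) hd) (by omega)) h2)
  have hinj : Function.Injective f := by
    rintro (_ | a) (_ | b) heq
    · rfl
    · exact absurd (by simpa using QuotientGroup.eq.1 heq) (hone b)
    · exact absurd (by simpa using QuotientGroup.eq.1 heq.symm) (hone a)
    · rcases lt_trichotomy (a : ℕ) b with h | h | h
      · exact absurd heq (hlt a b h)
      · rw [Fin.ext h]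
      · exact absurd heq.symm (hlt b a h)
  have h := Nat.card_le_card_of_injective f hinj
  rwa [Nat.card_eq_fintype_card, Fintype.card_option, Fintype.card_fin, ← Subgroup.index_eq_card]
    at h

end Stable

variable {G : Type*} [Group G] [Finite G]

namespace Frame

variable (F : Frame G)

/-- A lift of a fixed vector in `C`, of prime power order. -/
theorem exists_p_lift {i : ℕ} {v : F.V i} (hv : F.actV i F.S.s v = v) :
    ∃ z : F.E i, (z : G) ∈ F.C ∧ (∃ k, orderOf (z : G) = F.p i ^ k) ∧ F.mkV i z = v := by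
  obtain ⟨c, hc, rfl⟩ := F.exists_C_lift hv
  obtain ⟨z, hz, hzp, hcz⟩ := F.exists_pPart i c.2
  refine ⟨⟨z, (Subgroup.zpowers_le.2 c.2) hz⟩, (Subgroup.zpowers_le.2 hc) hz, hzp,
    (QuotientGroup.eq.2 ?_).symm⟩
  exact F.N_le_M i hcz

/-- An element of a residual of `C` acting on a layer. -/
theorem exists_comm_lift {a i : ℕ} {y : G} (hy : y ∈ nilRes F.C a) {c : F.E i}
    (hc : (c : G) ∈ F.C) :
    ∃ z : F.E i, (z : G) ∈ nilRes F.C a ∧ (∃ k, orderOf (z : G) = F.p i ^ k) ∧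
      (z : G)⁻¹ * ⁅y, (c : G)⁆ ∈ F.N i := by
  have hz : ⁅y, (c : G)⁆ ∈ nilRes F.C a := by
    rw [commutatorElement_def, mul_assoc, mul_assoc, ← mul_assoc (c : G)]
    exact mul_mem hy (conj_mem_nilRes hc (inv_mem hy))
  have hzE := F.commutator_mem_E y c.2
  obtain ⟨z, hz', hzp, hzz⟩ := F.exists_pPart i hzE
  refine ⟨⟨z, (Subgroup.zpowers_le.2 hzE) hz'⟩, (Subgroup.zpowers_le.2 hz) hz', hzp, ?_⟩
  have h := (F.N i).inv_mem hzz
  rwa [mul_inv_rev, inv_inv] at h

theorem mkV_comm_lift {i : ℕ} {y : G} {z c : F.E i} (h : (z : G)⁻¹ * ⁅y, (c : G)⁆ ∈ F.N i) :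
    F.mkV i z = F.actV i y (F.mkV i c) * (F.mkV i c)⁻¹ := by
  rw [F.actV_mul_inv]
  exact QuotientGroup.eq.2 (F.N_le_M i h)

/-- The data produced at the first moved layer `j`. -/
def Seed (j : ℕ) : Prop :=
  ∃ z : F.E (j + 1), (z : G) ∈ nilRes F.C (j + 1 - 2) ∧
    (∃ k, orderOf (z : G) = F.p (j + 1) ^ k) ∧
    ∃ ω : F.Ω (j + 1), ¬ F.bad ω ∧ F.mkV (j + 1) z ∉ F.Kω ω

variable {j : ℕ} (hfpf : F.Fpf j)
include hfpf

/-- A bad type not containing a supported fixed vector, with the image in `Vⱼ` of its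
stabiliser. -/
theorem exists_stable_image (hj : j + 1 < F.S.t) {y : F.V (j + 1)}
    (hy1 : y ≠ 1) (hsup : ∀ ω : F.Ω (j + 1), ¬ F.bad ω → y ∈ F.Kω ω) :
    ∃ (ω : F.Ω (j + 1)) (T : Subgroup (F.V j)), F.bad ω ∧ y ∉ F.Kω ω ∧ T ≠ ⊤ ∧
      (∀ v ∈ T, F.actV j F.S.s v ∈ T) ∧
      ∀ e : F.E j, (e : G) ∈ F.Fix ω → F.mkV j e ∈ T := by
  classical
  obtain ⟨ω, hyω⟩ : ∃ ω : F.Ω (j + 1), y ∉ F.Kω ω := by
    by_contra! h
    exact hy1 (F.eq_one_of_mem_Kω hj h)
  have hbad : F.bad ω := by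
    by_contra h
    exact hyω (hsup ω h)
  let Sb : Subgroup (F.Q j) := ((F.Fix ω).subgroupOf (F.E j)).map (F.mkQ j)
  have hSb : Sb ≠ ⊤ := by
    intro htop
    refine hyω (F.mem_Kω_of_bad hj hbad (fun a _ => ?_) ?_)
    · obtain ⟨e, he, rfl⟩ : a ∈ Sb := htop ▸ Subgroup.mem_top a
      exact F.permΩ_eq_self.2 he
    · refine F.eq_one_of_forall_fixed (i := j) (by omega) fun q => ?_
      have := Fintype.ofFinite (comSub (F.actQ j F.S.s))
      rw [finprod_eq_prod_of_fintype, map_prod]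
      have hq : q ∈ comSub (F.actQ j F.S.s) := by
        rw [F.comSub_eq_top hfpf]; exact Subgroup.mem_top q
      refine Fintype.prod_equiv (Equiv.mulLeft (⟨q, hq⟩ : comSub (F.actQ j F.S.s))) _ _ fun a => ?_
      rw [← MulAut.mul_apply, ← map_mul]
      rfl
  refine ⟨ω, Sb.map (F.toV j), hbad, hyω, fun h => hSb (F.eq_top_of_map h), ?_,
    fun e he => ⟨_, Subgroup.mem_map_of_mem _ (show e ∈ (F.Fix ω).subgroupOf (F.E j) from he),
      rfl⟩⟩
  rintro _ ⟨_, ⟨e, he, rfl⟩, rfl⟩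
  refine ⟨_, Subgroup.mem_map_of_mem _ (show (⟨F.S.s * e * F.S.s⁻¹,
    (F.isLayer j).hEn.conj_mem e e.2 F.S.s⟩ : F.E j) ∈ (F.Fix ω).subgroupOf (F.E j) from ?_), rfl⟩
  exact (F.Fix ω).mul_mem ((F.Fix ω).mul_mem hbad.1 he) ((F.Fix ω).inv_mem hbad.1)

variable {ω : F.Ω (j + 1)} (hbad : F.bad ω) {T : Subgroup (F.V j)}
  (hTs : ∀ v ∈ T, F.actV j F.S.s v ∈ T) (hTfix : ∀ e : F.E j, (e : G) ∈ F.Fix ω → F.mkV j e ∈ T)
include hbad hTs hTfix

theorem moved_of_not_mem {e : F.E j} (he : F.mkV j e ∉ T) :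
    F.S.s ∉ F.Fix (F.permΩ (j + 1) (e : G) ω) := by
  intro hmem
  apply he
  refine F.mem_of_stable hfpf hTs ?_
  have h0 : F.permΩ (j + 1) F.S.s (F.permΩ (j + 1) (e : G) ω) = F.permΩ (j + 1) (e : G) ω :=
    F.permΩ_eq_self.2 hmem
  have hs' : F.permΩ (j + 1) F.S.s⁻¹ ω = ω := F.permΩ_eq_self.2 ((F.Fix ω).inv_mem hbad.1)
  have h1 : F.permΩ (j + 1) ((e : G)⁻¹ * (F.S.s * e * F.S.s⁻¹)) ω = ω := by
    simp only [map_mul, Equiv.Perm.mul_apply]
    rw [hs', h0, map_inv]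
    exact Equiv.Perm.inv_eq_iff_eq.2 rfl
  let e' : F.E j := ⟨F.S.s * e * F.S.s⁻¹, (F.isLayer j).hEn.conj_mem e e.2 F.S.s⟩
  have hm : ((e⁻¹ * e' : F.E j) : G) ∈ F.Fix ω := by
    rw [Subgroup.coe_mul, Subgroup.coe_inv]
    exact F.permΩ_eq_self.1 h1
  have h2 := hTfix (e⁻¹ * e') hm
  rw [map_mul, map_inv] at h2
  exact h2

variable {y : F.V (j + 1)} (hsup : ∀ ω : F.Ω (j + 1), ¬ F.bad ω → y ∈ F.Kω ω)
include hsup

/-- A translate of `y` lies in the kernel of a translate of `ω`. -/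
theorem term_mem {u h : G} (hu : F.S.s * u = u * F.S.s) (huh : u * h = h * u)
    (hhω : h ∈ F.Fix ω) (e : F.E j)
    (hv : (F.actV j u (F.mkV j e))⁻¹ * F.actV j h⁻¹ (F.mkV j e) ∉ T) :
    F.actV (j + 1) (u * h * e) y ∈ F.Kω (F.permΩ (j + 1) (e : G) ω) := by
  let b : F.E j :=
    (⟨u * e * u⁻¹, (F.isLayer j).hEn.conj_mem e e.2 u⟩ : F.E j)⁻¹ *
      ⟨h⁻¹ * e * h⁻¹⁻¹, (F.isLayer j).hEn.conj_mem e e.2 h⁻¹⟩
  have hb : F.mkV j b ∉ T := by
    intro hmem
    apply hv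
    rw [map_mul, map_inv] at hmem
    exact hmem
  have hmov := F.moved_of_not_mem hfpf hbad hTs hTfix hb
  have hmov' : F.S.s ∉ F.Fix (F.permΩ (j + 1) u⁻¹ (F.permΩ (j + 1) (b : G) ω)) := by
    intro hmem
    refine hmov (F.permΩ_eq_self.1 ?_)
    have h1 := F.permΩ_eq_self.2 hmem
    have hu' : F.S.s * u⁻¹ = u⁻¹ * F.S.s := ((show Commute F.S.s u from hu).inv_right).eq
    rw [F.commute_permΩ hu'] at h1
    exact (F.permΩ (j + 1) u⁻¹).injective h1
  have hy : y ∈ F.Kω (F.permΩ (j + 1) u⁻¹ (F.permΩ (j + 1) (b : G) ω)) :=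
    hsup _ fun hb' => hmov' hb'.1
  have h1 := (F.actV_mem_Kω_iff (u * h * e) _ y).2 hy
  have hperm : F.permΩ (j + 1) (u * h * e)
      (F.permΩ (j + 1) u⁻¹ (F.permΩ (j + 1) (b : G) ω)) = F.permΩ (j + 1) (e : G) ω := by
    conv_rhs => rw [← F.permΩ_eq_self.2 hhω]
    rw [← Equiv.Perm.mul_apply, ← map_mul, ← Equiv.Perm.mul_apply, ← map_mul,
      ← Equiv.Perm.mul_apply, ← map_mul]
    congr 2
    show u * h * (e : G) * u⁻¹ * ((u * e * u⁻¹)⁻¹ * (h⁻¹ * e * h⁻¹⁻¹)) = (e : G) * h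
    rw [huh]
    group
  rwa [hperm] at h1

/-- The trace of a translate of `y` is outside the kernel of the translated type. -/
theorem tr_not_mem (hyω : y ∉ F.Kω ω) {e : F.E j} (he : F.mkV j e ∉ T) :
    normHom (F.actV (j + 1) F.S.s) F.S.r (F.actV (j + 1) (e : G) y) ∉
      F.Kω (F.permΩ (j + 1) (e : G) ω) := by
  intro hmem
  rw [normHom_apply, ← Finset.mul_prod_erase _ _ (Finset.mem_range.2 F.S.hr.pos)] at hmem
  refine hyω ((F.actV_mem_Kω_iff (e : G) ω y).1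
    ((Subgroup.mul_mem_cancel_right _ ?_).1 hmem))
  refine Subgroup.prod_mem _ fun k hk => ?_
  have hk0 := Finset.ne_of_mem_erase hk
  have hkr := Finset.mem_range.1 (Finset.mem_of_mem_erase hk)
  rw [← map_pow, ← MulAut.mul_apply, ← map_mul, ← one_mul (F.S.s ^ k)]
  refine F.term_mem hfpf hbad hTs hTfix hsup (by simp) (by simp)
    ((F.Fix ω).pow_mem hbad.1 k) e fun hv => he (F.mem_of_stable hfpf hTs ?_)
  rw [map_one, MulAut.one_apply,
    show (F.S.s ^ k)⁻¹ = F.S.s ^ (F.S.r - k) by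
      rw [inv_eq_iff_mul_eq_one, ← pow_add, Nat.add_sub_cancel' hkr.le, F.S.hs],
    map_pow] at hv
  exact inv_mul_map_mem_of_inv_mul_pow_mem F.S.hr (F.actV_pow_r j) hTs
    (fun hd => by have := Nat.le_of_dvd (by omega) hd; omega) hv

/-- The case of a layer at the bottom. -/
theorem seed_of_supported_zero (hj : j = 0) (hyω : y ∉ F.Kω ω) (hT : T ≠ ⊤) : F.Seed j := by
  obtain ⟨v, hv⟩ : ∃ v, v ∉ T := by
    by_contra! h
    exact hT (eq_top_iff.2 fun x _ => h x)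
  obtain ⟨e, rfl⟩ := F.mkV_surjective j v
  set c := normHom (F.actV (j + 1) F.S.s) F.S.r (F.actV (j + 1) (e : G) y)
  obtain ⟨z, hz, hzp, hzV⟩ :=
    F.exists_p_lift (v := c) (map_normHom (F.actV_pow_r _) _)
  refine ⟨z, ?_, hzp, F.permΩ (j + 1) (e : G) ω,
    fun hb => F.moved_of_not_mem hfpf hbad hTs hTfix hv hb.1,
    hzV ▸ F.tr_not_mem hfpf hbad hTs hTfix hsup hyω hv⟩
  rw [show j + 1 - 2 = 0 by omega]
  exact hz

end Frame

namespace Frame

variable (F : Frame G)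

/-- A fixed vector in the kernels of the types which are not bad gives a seed. -/
theorem seed_of_supported {j : ℕ} (hj : j + 1 < F.S.t) (hfpf : F.Fpf j)
    (htriv : ∀ k < j, F.STriv k) {y : F.V (j + 1)}
    (hy1 : y ≠ 1) (hsup : ∀ ω : F.Ω (j + 1), ¬ F.bad ω → y ∈ F.Kω ω) : F.Seed j := by
  classical
  obtain ⟨ω, T, hbad, hyω, hT, hTs, hTfix⟩ := F.exists_stable_image hfpf hj hy1 hsup
  rcases Nat.eq_zero_or_eq_succ_pred j with h0 | h
  · exact F.seed_of_supported_zero hfpf hbad hTs hTfix hsup h0 hyω hT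
  obtain ⟨i, rfl⟩ : ∃ i, j = i + 1 := ⟨_, h⟩
  obtain ⟨u, hu, v₀, hv₀⟩ : ∃ u, F.IsU i u ∧ ∃ v, F.actV (i + 1) u v * v⁻¹ ∉ T := by
    by_contra! h
    exact hT (F.top_of_U (by omega) (fun k hk => htriv k (by omega)) h)
  have huC := F.mem_C.1 (hu.mem_C F)
  set π := F.actV (i + 1) F.S.s
  set r := F.S.r
  let φ : Fin r → F.V (i + 1) →* F.V (i + 1) := fun k =>
    MonoidHom.mk' (fun v => (F.actV (i + 1) u v)⁻¹ * (π ^ (r - (k : ℕ))) v) fun a b => by
      rw [map_mul, map_mul, mul_inv, mul_mul_mul_comm]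
  have hφ : ∀ (k : Fin r) v, φ k v = (F.actV (i + 1) u v)⁻¹ * (π ^ (r - (k : ℕ))) v :=
    fun _ _ => rfl
  let H : Option (Fin r) → Subgroup (F.V (i + 1)) := fun o => o.elim T fun k => T.comap (φ k)
  have hHs : ∀ o, ∀ v ∈ H o, π v ∈ H o := by
    rintro (_ | k) v hv
    · exact hTs v hv
    · show φ k (π v) ∈ T
      have h1 : φ k (π v) = π (φ k v) := by
        have hcu : F.actV (i + 1) u (π v) = π (F.actV (i + 1) u v) := by
          show (F.actV (i + 1) u * F.actV (i + 1) F.S.s) v =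
            (F.actV (i + 1) F.S.s * F.actV (i + 1) u) v
          rw [← map_mul, ← map_mul, huC.2]
        have hcπ : ∀ n : ℕ, (π ^ n) (π v) = π ((π ^ n) v) := fun n => by
          show (π ^ n * π) v = (π * π ^ n) v
          rw [pow_mul_comm']
        rw [hφ, hφ, map_mul, map_inv, hcu, hcπ]
      rw [h1]
      exact hTs _ hv
  have hHne : ∀ o, H o ≠ ⊤ := by
    rintro (_ | k) htop
    · exact hT htop
    set ρ := π ^ (r - (k : ℕ))
    have hall : ∀ v, (F.actV (i + 1) u v)⁻¹ * ρ v ∈ T := fun v => htop.ge (Subgroup.mem_top v)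
    have hTu : ∀ v ∈ T, F.actV (i + 1) u v ∈ T := fun v hv => by
      have h1 := T.mul_mem (pow_mem_of_stable hTs (r - (k : ℕ)) v hv) (T.inv_mem (hall v))
      rw [mul_inv_rev, inv_inv, mul_inv_cancel_left] at h1
      exact h1
    have hm : ∀ m : ℕ, ∀ v, (F.actV (i + 1) u ^ m) v * ((ρ ^ m) v)⁻¹ ∈ T := by
      intro m
      induction m with
      | zero => intro v; simp
      | succ m ih =>
        intro v
        have h1 := hTu _ (ih v)
        have h2 := T.inv_mem (hall ((ρ ^ m) v))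
        rw [map_mul, map_inv] at h1
        rw [pow_succ', pow_succ', MulAut.mul_apply, MulAut.mul_apply]
        have h3 := T.mul_mem h1 h2
        rw [mul_inv_rev, inv_inv, mul_comm (ρ ((ρ ^ m) v))⁻¹ _, mul_assoc, inv_mul_cancel_left]
          at h3
        exact h3
    have hr : ∀ v, (F.actV (i + 1) u ^ r) v * v⁻¹ ∈ T := fun v => by
      have := hm r v
      rwa [show ρ ^ r = 1 by
        rw [← pow_mul, mul_comm, pow_mul, F.actV_pow_r, one_pow], MulAut.one_apply] at this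
    have hpow : ∀ (n : ℕ) v, ((F.actV (i + 1) u ^ r) ^ n) v * v⁻¹ ∈ T := by
      intro n
      induction n with
      | zero => intro v; simp
      | succ n ih =>
        intro v
        rw [pow_succ, MulAut.mul_apply]
        have h1 := T.mul_mem (ih ((F.actV (i + 1) u ^ r) v)) (hr v)
        rwa [mul_assoc, inv_mul_cancel_left] at h1
    obtain ⟨n, hn⟩ := exists_pow_eq_self_of_coprime (F.r_coprime_orderOf huC.1)
    apply hv₀
    have := hpow n v₀
    rwa [← map_pow, ← map_pow, hn] at this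
  have hidx : ∀ o, r + 1 ≤ (H o).index := fun o => succ_le_index F.S.hr (F.actV_pow_r _)
    (F.not_r_dvd_V _) hfpf (hHs o) (hHne o)
  obtain ⟨v, hv⟩ := exists_not_mem_family H hidx
    (by rw [Fintype.card_option, Fintype.card_fin]) (by have := F.S.hr.two_le; omega)
    ((hidx none).trans (Nat.le_of_dvd Nat.card_pos (Subgroup.index_dvd_card _)))
  obtain ⟨e, rfl⟩ := F.mkV_surjective (i + 1) v
  have heT : F.mkV (i + 1) e ∉ T := hv none
  set c := normHom (F.actV (i + 1 + 1) F.S.s) r (F.actV (i + 1 + 1) (e : G) y) with hc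
  set ω' := F.permΩ (i + 1 + 1) (e : G) ω
  have huc : F.actV (i + 1 + 1) u c ∈ F.Kω ω' := by
    rw [hc, normHom_apply, map_prod]
    refine Subgroup.prod_mem _ fun k hk => ?_
    rw [← map_pow, ← MulAut.mul_apply, ← map_mul, ← MulAut.mul_apply, ← map_mul]
    refine F.term_mem hfpf hbad hTs hTfix hsup huC.2
      ((show Commute F.S.s u from huC.2).symm.pow_right k).eq ((F.Fix ω).pow_mem hbad.1 k) e fun hmem => ?_
    have hkr := Finset.mem_range.1 hk
    refine hv (some ⟨k, hkr⟩) ?_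
    show φ _ (F.mkV (i + 1) e) ∈ T
    rw [hφ]
    rwa [show (F.S.s ^ k)⁻¹ = F.S.s ^ (r - k) by
      rw [inv_eq_iff_mul_eq_one, ← pow_add, Nat.add_sub_cancel' hkr.le, F.S.hs], map_pow] at hmem
  obtain ⟨ĉ, hĉ, hĉc⟩ := F.exists_C_lift (v := c) (map_normHom (F.actV_pow_r _) _)
  obtain ⟨z, hz, hzp, hzc⟩ := F.exists_comm_lift hu.1 hĉ
  refine ⟨z, by rwa [show i + 1 + 1 - 2 = i by omega], hzp, ω',
    fun hb => F.moved_of_not_mem hfpf hbad hTs hTfix heT hb.1, fun hmem => ?_⟩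
  rw [F.mkV_comm_lift hzc, hĉc] at hmem
  exact F.tr_not_mem hfpf hbad hTs hTfix hsup hyω heT
    (Subgroup.inv_mem_iff _ |>.1 ((Subgroup.mul_mem_cancel_left _ huc).1 hmem))

end Frame

end CfsgLib.Turull73
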