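import Cfsg.Agent.Turull73.Layers

/-!
# Construction of the tower of layers

* `surv`: an element moving the layer above propagates to the top.
* `exists_tower`: layers exist in every residual up to the top one.
-/

set_option autoImplicit false

open scoped commutatorElement

namespace CfsgLib.Turull73

open FittingLength

variable {G : Type*} [Group G] [Finite G] (S : Setup G)

/-- The layers from `a` up to the top. -/
structure Tower (L : ℕ → LayerData G) (a : ℕ) : Prop where
  layer : ∀ i, a ≤ i → i ≤ S.t → IsLayer S i (L i)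
  link : ∀ i, a ≤ i → i < S.t → Linked (L i) (L (i + 1))

omit [Finite G] in
theorem orderOf_pow_ordProj_coprime {x : G} {q n : ℕ} (hq : q.Prime) (hx : 0 < orderOf x)
    (hn : (orderOf x).factorization q ≤ n) : (orderOf (x ^ q ^ n)).Coprime q := by
  obtain ⟨m, rfl⟩ := Nat.exists_eq_add_of_le hn
  rw [pow_add, pow_mul]
  refine Nat.Coprime.coprime_dvd_left (orderOf_pow_dvd _) ?_
  rw [orderOf_pow_of_dvd (pow_ne_zero _ hq.ne_zero) (Nat.ordProj_dvd _ _)]
  exact (Nat.coprime_ordCompl hq hx.ne').symm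

/-- Elements of `D i` of `p`-power order centralise an irreducible `p`-layer above. -/
theorem pElement_mem {i : ℕ} {L : LayerData G} (hL : IsLayer S (i + 1) L) {x : G}
    (hx : x ∈ nilRes S.X i) {k : ℕ} (hk : orderOf x = L.p ^ k) :
    ∀ e ∈ L.E, ⁅x, e⁆ ∈ L.M := by
  classical
  have := hL.hEn
  have := hL.hMn
  have := S.D_normal i
  have := S.D_normal (i + 1)
  have := Fact.mk hL.hp
  set D := nilRes S.X i
  set D' := nilRes S.X (i + 1)
  set S₀ := pPart D D' L.p
  let T := L.E ⊓ cenMod S₀ L.M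
  have hMT : L.M ≤ T := le_inf hL.hME.le fun m hm => mem_cenMod.2 fun y _ => by
    rw [commutatorElement_def, mul_assoc, mul_assoc]
    exact L.M.mul_mem hm (by rw [← mul_assoc]; exact hL.hMn.conj_mem _ (L.M.inv_mem hm) y)
  rcases hL.irr T (Subgroup.normal_inf_normal _ _) hMT inf_le_left with h | h
  swap
  · intro e he
    have h1 := mem_cenMod.1 (h.ge he).2 x (mem_pPart hx hk)
    rw [← commutatorElement_inv]
    exact L.M.inv_mem h1
  exfalso
  set f := QuotientGroup.mk' L.M
  set V := L.E.map f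
  have hVn : V.Normal := Subgroup.Normal.map hL.hEn f (QuotientGroup.mk'_surjective L.M)
  let c : S₀ →* MulAut V := (MulAut.conjNormal (H := V)).comp (f.comp S₀.subtype)
  have hc : ∀ (y : S₀) (v : V), (c y v : G ⧸ L.M) = f y * v * (f y)⁻¹ := fun y v => by
    simp [c, MulAut.conjNormal_apply]
  have hone : ∀ y : S₀, (y : G) ∈ D' → c y = 1 := fun y hy => by
    refine MulEquiv.ext fun v => Subtype.ext ?_
    obtain ⟨e, he, hev⟩ := v.2
    rw [hc, ← hev]
    have h1 := (QuotientGroup.eq_one_iff (N := L.M) _).2 (hL.cenD _ hy e he)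
    rw [show ((⁅(y : G), e⁆ : G) : G ⧸ L.M) = f ⁅(y : G), e⁆ from rfl, map_commutatorElement,
      commutatorElement_eq_one_iff_mul_comm] at h1
    rw [h1, mul_inv_cancel_right]
    exact hev
  have hp : IsPGroup L.p c.range := by
    rintro ⟨_, y, rfl⟩
    obtain ⟨m, hm⟩ := pPart_pow_mem hL.hp (exists_lowerCentralSeries_le_succ S.X i) y.2
    refine ⟨m, Subtype.ext ?_⟩
    show c y ^ L.p ^ m = 1
    rw [← map_pow]
    exact hone _ (by simpa using hm)
  have hdvd : L.p ∣ Nat.card V := by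
    obtain ⟨m, hm⟩ := IsPGroup.iff_card.1 (isPGroup_map fun e he => (hL.qgroup e he).imp
      fun _ h => hL.hNM h : IsPGroup L.p V)
    rw [hm]
    refine dvd_pow_self _ fun h0 => hL.hME.not_ge ?_
    rw [h0, pow_zero] at hm
    have := Subgroup.eq_bot_of_card_eq V hm
    rwa [Subgroup.map_eq_bot_iff, QuotientGroup.ker_mk'] at this
  have : Finite V := inferInstance
  obtain ⟨v, hv, hv1⟩ := hp.exists_fixed_point_of_prime_dvd_card_of_fixed_point (α := V) hdvd
    (a := 1) (fun g => map_one g.1)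
  obtain ⟨e, he, hev⟩ := v.2
  have heT : e ∈ T := ⟨he, mem_cenMod.2 fun y hy => by
    have h1 := congrArg Subtype.val (hv ⟨c ⟨y, hy⟩, ⟨_, rfl⟩⟩)
    change (c ⟨y, hy⟩ v : G ⧸ L.M) = v at h1
    rw [hc, ← hev, mul_inv_eq_iff_eq_mul] at h1
    rw [← QuotientGroup.eq_one_iff (N := L.M)]
    show f ⁅e, y⁆ = 1
    rw [map_commutatorElement, commutatorElement_eq_one_iff_mul_comm]
    exact h1.symm⟩
  rw [h] at heT
  apply hv1
  refine Subtype.ext ?_
  rw [← hev]
  exact ((QuotientGroup.eq_one_iff e).2 heT).symm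

/-- An element moving the layer above propagates to the top. -/
theorem surv {L : ℕ → LayerData G} {i : ℕ} (hi : i < S.t) (hL : Tower S L (i + 1))
    {Y : Subgroup G} (hDY : nilRes S.X (i + 1) ≤ Y) {y : G} (hy : y ∈ nilRes Y i)
    (hyD : y ∈ nilRes S.X i) {e : G} (he : e ∈ (L (i + 1)).E) (hmove : ⁅y, e⁆ ∉ (L (i + 1)).M) :
    nilRes Y S.t ≠ ⊥ := by
  obtain ⟨k, hk⟩ := Nat.exists_eq_add_of_le (show i + 1 ≤ S.t from hi)
  induction k generalizing i y e with
  | zero =>
    have hl := hL.layer (i + 1) le_rfl hi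
    have := hl.hMn
    have := hl.hEn
    set C := cenMod (L (i + 1)).E (L (i + 1)).M
    have hyC : y ∉ C := fun h => hmove (mem_cenMod.1 h e he)
    obtain ⟨l, hl', z, hz, hzC, m, hm⟩ := exists_prime_pow_not_mem hyC
    have hzR : z ∈ nilRes Y i := Subgroup.zpowers_le.2 hy hz
    have hzD : z ∈ nilRes S.X i := Subgroup.zpowers_le.2 hyD hz
    have hlp : l ≠ (L (i + 1)).p := by
      rintro rfl
      exact hzC (mem_cenMod.2 (pElement_mem S hl hzD hm))
    obtain ⟨c, hc, hzc⟩ : ∃ c ∈ (L (i + 1)).E, ⁅z, c⁆ ∉ (L (i + 1)).M := by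
      by_contra! h
      exact hzC (mem_cenMod.2 h)
    obtain ⟨w, hw, hwc⟩ := exists_mem_nilRes_succ (H := Y) (L₀ := (L (i + 1)).M)
      (hl.hED.trans hDY) hzR (by rw [Subgroup.normalizer_eq_top_iff.2 hl.hEn]; trivial)
      (coprime_card_map hl.hp (fun x hx => (hl.qgroup x hx).imp fun _ h => hl.hNM h)
        (hm ▸ coprime_prime_pow hl' hl.hp hlp)) hc
    intro hbot
    rw [show S.t = i + 1 by omega] at hbot
    have hw1 : w = 1 := by
      have := hw.1
      rw [hbot] at this
      exact Subgroup.mem_bot.1 this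
    rw [hw1, inv_one, one_mul] at hwc
    exact hzc hwc
  | succ k ih =>
    have hl := hL.layer (i + 1) le_rfl hi
    have := hl.hMn
    have := hl.hEn
    set C := cenMod (L (i + 1)).E (L (i + 1)).M
    have hyC : y ∉ C := fun h => hmove (mem_cenMod.1 h e he)
    obtain ⟨l, hl', z, hz, hzC, m, hm⟩ := exists_prime_pow_not_mem hyC
    have hzR : z ∈ nilRes Y i := Subgroup.zpowers_le.2 hy hz
    have hzD : z ∈ nilRes S.X i := Subgroup.zpowers_le.2 hyD hz
    have hlp : l ≠ (L (i + 1)).p := by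
      rintro rfl
      exact hzC (mem_cenMod.2 (pElement_mem S hl hzD hm))
    obtain ⟨c, hc, hzc⟩ : ∃ c ∈ (L (i + 1)).E, ⁅z, c⁆ ∉ (L (i + 1)).M := by
      by_contra! h
      exact hzC (mem_cenMod.2 h)
    obtain ⟨w, hw, hwc⟩ := exists_mem_nilRes_succ (H := Y) (L₀ := (L (i + 1)).M)
      (hl.hED.trans hDY) hzR (by rw [Subgroup.normalizer_eq_top_iff.2 hl.hEn]; trivial)
      (coprime_card_map hl.hp (fun x hx => (hl.qgroup x hx).imp fun _ h => hl.hNM h)
        (hm ▸ coprime_prime_pow hl' hl.hp hlp)) hc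
    obtain ⟨e', he', hwe'⟩ : ∃ e' ∈ (L (i + 2)).E, ⁅w, e'⁆ ∉ (L (i + 2)).M := by
      by_contra! h
      apply hzc
      have hwN := ((hL.link (i + 1) le_rfl (by omega)).hN w).2 ⟨hw.2, h⟩
      simpa using (L (i + 1)).M.mul_mem (hl.hNM hwN) hwc
    exact ih (i := i + 1) (by omega)
      ⟨fun j hj => hL.layer j (by omega), fun j hj => hL.link j (by omega)⟩
      ((nilRes_le_of_le S.X (Nat.le_succ (i + 1))).trans hDY) hw.1 (hl.hED hw.2) he' hwe' (by omega)

/-- The layer below a given one, before irreducibility. -/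
theorem exists_preLayer {i : ℕ} {L' : LayerData G} (hL' : IsLayer S (i + 1) L') :
    ∃ L : LayerData G, IsPreLayer S i L ∧ Linked L L' := by
  classical
  have hDn := S.D_normal i
  have hD'n := S.D_normal (i + 1)
  have := hL'.hEn
  have := hL'.hMn
  set D := nilRes S.X i
  set D' := nilRes S.X (i + 1)
  set C := cenMod L'.E L'.M
  have hD'C : D' ≤ C := fun d hd => mem_cenMod.2 (hL'.cenD d hd)
  have hDC : ¬ D ≤ C := fun h => hL'.hME.not_ge <| by
    refine le_of_commutator_eq (D := D') (H := D) hL'.hED (fun d hd => hD'C hd)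
      (commutator_nilRes S.X i) (Subgroup.commutator_le.2 fun e he d hd => ?_)
      (fun e he => (hL'.qgroup e he).imp fun _ h => hL'.hNM h) hL'.idx
    rw [← commutatorElement_inv]
    exact inv_mem (mem_cenMod.1 (h hd) e he)
  obtain ⟨y, hy, hyC⟩ := SetLike.not_le_iff_exists.1 hDC
  obtain ⟨q, hq, z, hz, hzC, m, hm⟩ := exists_prime_pow_not_mem hyC
  have hzD : z ∈ D := Subgroup.zpowers_le.2 hy hz
  have hne : q ≠ L'.p := by
    rintro rfl
    exact hzC (mem_cenMod.2 (pElement_mem S hL' hzD hm))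
  have hqr : q ≠ S.r := by
    refine S.prime_ne_r (S.D_le i hzD) hq ?_
    rw [hm]
    refine dvd_pow_self q fun h0 => hzC ?_
    rw [h0, pow_zero, orderOf_eq_one_iff] at hm
    rw [hm]; exact C.one_mem
  set E := pPart D D' q
  have hD'E : D' ≤ E := le_pPart D D' q
  have hED : E ≤ D := pPart_le (nilRes_le_of_le S.X (Nat.le_succ i)) q
  have hEn : E.Normal := pPart_normal D D' q
  set N := E ⊓ C
  have hNn : N.Normal := Subgroup.normal_inf_normal _ _
  have hEq : ∀ e ∈ E, ∃ k, e ^ q ^ k ∈ N := fun e he =>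
    (pPart_pow_mem hq (exists_lowerCentralSeries_le_succ S.X i) he).imp fun _ h =>
      ⟨hD'E h, hD'C h⟩
  have hzN : z ∉ N := fun h => hzC h.2
  have hzE : z ∈ E := mem_pPart hzD hm
  set g := QuotientGroup.mk' N
  set Q := E.map g
  have hQ : IsPGroup q Q := isPGroup_map hEq
  have := Fact.mk hq
  set M := ((frattini Q).map Q.subtype).comap g ⊓ E
  have hQn : Q.Normal := Subgroup.Normal.map hEn g (QuotientGroup.mk'_surjective N)
  have hMn : M.Normal := by
    have : ((frattini Q).map Q.subtype).Normal := by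
      have : (frattini Q).Characteristic := frattini_characteristic
      exact ConjAct.normal_of_characteristic_of_normal
    have : (((frattini Q).map Q.subtype).comap g).Normal := Subgroup.Normal.comap this g
    exact Subgroup.normal_inf_normal _ _
  have hNM : N ≤ M := fun n hn => ⟨by
    show g n ∈ (frattini Q).map Q.subtype
    rw [show g n = 1 from (QuotientGroup.eq_one_iff n).2 hn]
    exact one_mem _, hn.1⟩
  have hMmem : ∀ (e : G) (he : e ∈ E),
      (⟨g e, Subgroup.mem_map_of_mem g he⟩ : Q) ∈ frattini Q → e ∈ M := fun e he h =>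
    ⟨⟨_, h, rfl⟩, he⟩
  have hpow : ∀ e ∈ E, e ^ q ∈ M := fun e he => by
    refine hMmem _ (E.pow_mem he q) ?_
    have h1 := Solvable.pow_mem_frattini hQ (⟨g e, Subgroup.mem_map_of_mem g he⟩ : Q)
    convert h1 using 1
    exact Subtype.ext (by simp)
  have hcomm : ∀ e ∈ E, ∀ e' ∈ E, ⁅e, e'⁆ ∈ M := fun e he e' he' => by
    refine hMmem _ ?_ ?_
    · rw [commutatorElement_def]
      exact E.mul_mem (E.mul_mem (E.mul_mem he he') (E.inv_mem he)) (E.inv_mem he')
    · have h1 := Solvable.commutator_le_frattini hQ (Subgroup.commutator_mem_commutator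
        (Subgroup.mem_top (⟨g e, Subgroup.mem_map_of_mem g he⟩ : Q))
        (Subgroup.mem_top (⟨g e', Subgroup.mem_map_of_mem g he'⟩ : Q)))
      convert h1 using 1
      exact Subtype.ext (map_commutatorElement g e e')
  have hfrat : ∀ T : Subgroup G, N ≤ T → T ≤ E → E ≤ T ⊔ M → E ≤ T := by
    intro T hNT hTE hT
    have h1 : (T.map g).subgroupOf Q = ⊤ := by
      refine Solvable.eq_top_of_sup_frattini ?_
      apply Subgroup.map_injective Q.subtype_injective
      rw [Subgroup.map_sup, Subgroup.map_subgroupOf_eq_of_le (Subgroup.map_mono hTE),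
        ← MonoidHom.range_eq_map, Q.range_subtype]
      refine le_antisymm (sup_le (Subgroup.map_mono hTE) (Subgroup.map_subtype_le _)) ?_
      refine (Subgroup.map_mono hT).trans ?_
      rw [Subgroup.map_sup]
      refine sup_le_sup_left ?_ _
      rintro _ ⟨x, hx, rfl⟩
      exact hx.1
    rw [Subgroup.subgroupOf_eq_top] at h1
    intro e he
    obtain ⟨x, hx, hxe⟩ := h1 (Subgroup.mem_map_of_mem g he)
    have : x⁻¹ * e ∈ N := QuotientGroup.eq.1 hxe
    simpa using T.mul_mem hx (hNT this)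
  have hME : M < E := by
    refine lt_of_le_of_ne inf_le_right fun h => hzN ?_
    exact hfrat N le_rfl inf_le_left (h.ge.trans le_sup_right) hzE
  have hidx : q.Coprime (E.relIndex D) := by
    let P₀ : Sylow q D := default
    have hP : (P₀ : Subgroup D) ≤ E.subgroupOf D := by
      intro x hx
      obtain ⟨k, hk⟩ := IsPGroup.iff_orderOf.1 P₀.isPGroup' ⟨x, hx⟩
      exact mem_pPart x.2 (k := k) (by rw [← hk, Subgroup.orderOf_mk]; exact Subgroup.orderOf_coe x)
    exact (hq.coprime_iff_not_dvd.2 P₀.not_dvd_index).coprime_dvd_right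
      (Subgroup.index_dvd_of_le hP)
  refine ⟨⟨q, E, M, N⟩, ⟨hq, hqr, hEn, hMn, hNn, le_inf hD'E hD'C, hNM, hME, hED, hEq, hpow,
    hcomm, hfrat, ?_, hidx,
    fun e he => pPart_pow_mem hq (exists_lowerCentralSeries_le_succ S.X i) he,
    fun f hf hfq e he => ⟨?_, ?_⟩⟩,
    ⟨fun x => ⟨fun h => ⟨h.1, mem_cenMod.1 h.2⟩, fun h => ⟨h.1, mem_cenMod.2 h.2⟩⟩, hne⟩⟩
  · intro d hd e he
    have hle : D ≤ cenMod E M := forall_mem_of_forall_prime_power fun x hx l k hl hk => by
      refine mem_cenMod.2 fun e he => ?_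
      by_cases hlq : l = q
      · subst hlq; exact hcomm x (mem_pPart hx hk) e he
      · exact hNM ⟨hD'E (commutator_pPart_mem S hx (hk ▸ coprime_prime_pow hl hq hlq) he),
          hD'C (commutator_pPart_mem S hx (hk ▸ coprime_prime_pow hl hq hlq) he)⟩
    exact mem_cenMod.1 (hle hd) e he
  · exact hD'E (commutator_pPart_mem S hf hfq he)
  · exact hD'C (commutator_pPart_mem S hf hfq he)

/-- The pre-layer below a tower is a layer. -/
theorem isLayer_of_pre {i : ℕ} (hi : i < S.t) {L : LayerData G} {Ls : ℕ → LayerData G}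
    (hT : Tower S Ls (i + 1)) (hL : IsPreLayer S i L) (hlink : Linked L (Ls (i + 1))) :
    IsLayer S i L := by
  classical
  have := hL.hEn
  have := hL.hMn
  have := hL.hNn
  have := S.hXn
  have hmove : ∀ z ∈ L.E, z ∉ L.N →
      ∃ e ∈ (Ls (i + 1)).E, ⁅z, e⁆ ∉ (Ls (i + 1)).M := by
    intro z hz hzN
    by_contra! h
    exact hzN ((hlink.hN z).2 ⟨hz, h⟩)
  rcases Nat.eq_zero_or_eq_succ_pred i with rfl | hij
  · have hsmall : ∀ Y : Subgroup G, Y.Normal → L.N ≤ Y → Y ≤ L.E → Y ≤ L.N ∨ L.E ≤ Y := by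
      intro Y hYn hNY hYE
      by_contra! h
      obtain ⟨y, hy, hyN⟩ := SetLike.not_le_iff_exists.1 h.1
      obtain ⟨e, he, hne⟩ := hmove y (hYE hy) hyN
      have hYX : Y ≤ S.X := hYE.trans hL.hED
      have hne' := surv S hi hT (hL.hDN.trans hNY) (show y ∈ nilRes Y 0 from hy)
        (show y ∈ nilRes S.X 0 from hYX hy) he hne
      exact h.2 (by rw [S.hmin Y hYX (fun x hx => hYn.conj_mem x hx S.s) hne']; exact hL.hED)
    have hMN : L.M ≤ L.N := (hsmall L.M hL.hMn hL.hNM hL.hME.le).resolve_right hL.hME.not_ge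
    refine ⟨hL, fun T hTn hMT hTE => ?_, fun m hm e he => ?_, fun j hj => absurd hj (by omega),
      fun j hj => absurd hj (by omega)⟩
    · rcases hsmall T hTn (hL.hNM.trans hMT) hTE with h | h
      · exact Or.inl (le_antisymm (h.trans hL.hNM) hMT)
      · exact Or.inr (le_antisymm hTE h)
    · rw [commutatorElement_def, mul_assoc, mul_assoc]
      exact L.N.mul_mem (hMN hm) (by
        rw [← mul_assoc]; exact hL.hNn.conj_mem _ (L.N.inv_mem (hMN hm)) e)
  obtain ⟨j, rfl⟩ : ∃ j, i = j + 1 := ⟨_, hij⟩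
  have hq := hL.hp
  have hfix := fixA_aux S j hq hL.hEn hL.hMn hL.hME.le hL.hED
    (fun e he => (hL.qgroup e he).imp fun _ h => hL.hNM h) hL.comm hL.cenD hL.idx
  obtain ⟨A, hAD, hAord, -, hsA, hAR, htop, -⟩ := exists_hall S j hq
  have hDn := S.D_normal (j + 1)
  set D := nilRes S.X (j + 1)
  set T := Subgroup.normalizer (A : Set G)
  -- a `q'`-element of `E` lies in `N`
  have hENq : ∀ x ∈ L.E, (orderOf x).Coprime L.p → x ∈ L.N := fun x hx hxq => by
    obtain ⟨k, hk⟩ := hL.qgroup x hx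
    exact mem_of_pow_mem (hxq.pow_right k) hk
  have hTE : ∀ τ ∈ L.E, τ ∈ T → τ ∈ L.M := by
    intro τ hτ hτT
    refine hfix τ hτ fun f hf hfq => ?_
    have hle : A ⊔ D ≤ cenMod (Subgroup.zpowers τ) L.M := by
      refine sup_le (fun a ha => mem_cenMod.2 fun e he => hL.hNM ?_) fun d hd =>
        mem_cenMod.2 fun e he => hL.cenD d hd e (Subgroup.zpowers_le.2 hτ he)
      have heE : e ∈ L.E := Subgroup.zpowers_le.2 hτ he
      have heT : e ∈ T := Subgroup.zpowers_le.2 hτT he
      refine hENq _ ?_ (hAord _ ?_)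
      · rw [commutatorElement_def]
        exact L.E.mul_mem (hL.hEn.conj_mem e heE a) (L.E.inv_mem heE)
      · rw [commutatorElement_def, mul_assoc, mul_assoc, ← mul_assoc e]
        exact A.mul_mem ha ((Subgroup.mem_normalizer_iff.1 heT _).1 (A.inv_mem ha))
    exact mem_cenMod.1 (hle (hAR f hf hfq)) τ (Subgroup.mem_zpowers τ)
  have hXT : S.X ≤ (S.X ⊓ T) ⊔ D := by
    intro x hx
    have hx' : x ∈ D ⊔ T := by rw [htop]; exact Subgroup.mem_top x
    obtain ⟨d, hd, τ, hτ, rfl⟩ := Subgroup.mem_sup_of_normal_left.1 hx'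
    refine mul_mem (Subgroup.mem_sup_right hd) (Subgroup.mem_sup_left ⟨?_, hτ⟩)
    simpa using S.X.mul_mem (S.X.inv_mem (S.D_le _ hd)) hx
  have hDj : ∀ a ∈ nilRes S.X j, ∃ y ∈ nilRes (S.X ⊓ T) j, y⁻¹ * a ∈ D := by
    intro a ha
    set f := QuotientGroup.mk' D
    have h1 : (nilRes S.X j).map f ≤ (nilRes (S.X ⊓ T) j).map f := by
      rw [map_nilRes f S.X, map_nilRes f (S.X ⊓ T)]
      refine nilRes_mono ((Subgroup.map_mono hXT).trans ?_) j
      rw [Subgroup.map_sup, show D.map f = ⊥ from by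
        rw [Subgroup.map_eq_bot_iff, QuotientGroup.ker_mk'], sup_bot_eq]
    obtain ⟨y, hy, hya⟩ := h1 (Subgroup.mem_map_of_mem f ha)
    exact ⟨y, hy, QuotientGroup.eq.1 hya⟩
  have hact : ∀ T₁ T₀ : Subgroup G, T₁.Normal → [T₀.Normal] → L.M ≤ T₁ → L.N ≤ T₀ → T₀ ≤ T₁ →
      T₁ ≤ L.E → ¬ L.E ≤ T₁ → A ≤ cenMod T₁ T₀ := by
    intro T₁ T₀ hT₁ hT₀ hMT hNT hT₀₁ hT₁E hT₁ne a ha
    by_contra haK
    set K := cenMod T₁ T₀
    set Y := (S.X ⊓ T) ⊔ T₁
    have hYX : Y ≤ S.X := sup_le inf_le_left (hT₁E.trans (hL.hED.trans (S.D_le _)))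
    have hYs : ∀ y ∈ Y, S.s * y * S.s⁻¹ ∈ Y := by
      intro y hy
      have hle : Y ≤ Y.comap (MulAut.conj S.s).toMonoidHom := by
        refine sup_le (fun x hx => Subgroup.mem_sup_left ⟨S.hXn.conj_mem x hx.1 S.s, ?_⟩)
          fun x hx => Subgroup.mem_sup_right (hT₁.conj_mem x hx S.s)
        exact T.mul_mem (T.mul_mem hsA hx.2) (T.inv_mem hsA)
      exact hle hy
    have hYne : Y ≠ S.X := by
      intro hY
      apply hT₁ne
      intro e he
      have heY : e ∈ Y := by rw [hY]; exact S.D_le _ (hL.hED he)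
      obtain ⟨τ, hτ, l, hl, rfl⟩ := Subgroup.mem_sup_of_normal_right.1 heY
      have hτE : τ ∈ L.E := by simpa using L.E.mul_mem he (L.E.inv_mem (hT₁E hl))
      exact T₁.mul_mem (hMT (hTE τ hτE hτ.2)) hl
    apply hYne
    refine S.hmin Y hYX hYs ?_
    obtain ⟨y', hy', hd⟩ := hDj a (hAD ha)
    have hy'T : y' ∈ T := ((nilRes_le _ j) hy').2
    set d := y'⁻¹ * a
    have hdT : d ∈ T := T.mul_mem (T.inv_mem hy'T) (Subgroup.le_normalizer ha)
    set π := QuotientGroup.mk' K
    have hcomm : π d * π a = π a * π d := by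
      rw [← commutatorElement_eq_one_iff_mul_comm, ← map_commutatorElement]
      refine (QuotientGroup.eq_one_iff _).2 (mem_cenMod.2 fun l hl => hNT ?_)
      refine hL.copCen _ ?_ (hAord _ ?_) l (hT₁E hl)
      · rw [commutatorElement_def, mul_assoc, mul_assoc, ← mul_assoc a]
        exact D.mul_mem hd (hDn.conj_mem _ (D.inv_mem hd) a)
      · rw [commutatorElement_def]
        exact A.mul_mem ((Subgroup.mem_normalizer_iff.1 hdT a).1 ha) (A.inv_mem ha)
    set n := (orderOf y').factorization L.p + (orderOf d).factorization L.p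
    have hdn : π d ^ L.p ^ n = 1 := by
      rw [← map_pow]
      refine (QuotientGroup.eq_one_iff _).2 (mem_cenMod.2 fun l hl => hNT ?_)
      exact hL.copCen _ (D.pow_mem hd _)
        (orderOf_pow_ordProj_coprime hq (orderOf_pos d) (Nat.le_add_left _ _)) l (hT₁E hl)
    set y := y' ^ L.p ^ n
    have hyπ : π y = π a ^ L.p ^ n := by
      have h1 : π y' = π a * (π d)⁻¹ := by
        rw [← map_inv, ← map_mul]
        congr 1
        simp only [d]
        group
      rw [map_pow, h1, (Commute.inv_right (show Commute (π a) (π d) from hcomm.symm)).mul_pow,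
        inv_pow, hdn, inv_one, mul_one]
    obtain ⟨c, hc, hyc⟩ : ∃ c ∈ T₁, ⁅y, c⁆ ∉ T₀ := by
      by_contra! h
      apply haK
      have h1 : π y = 1 := (QuotientGroup.eq_one_iff _).2 (mem_cenMod.2 h)
      rw [hyπ, ← map_pow] at h1
      exact mem_of_pow_mem ((hAord a ha).pow_right n) ((QuotientGroup.eq_one_iff _).1 h1)
    obtain ⟨z, hz, hzc⟩ := exists_mem_nilRes_succ (H := Y) (L₀ := T₀) (L := T₁) le_sup_right
      (Subgroup.pow_mem _ (nilRes_mono (le_sup_left : S.X ⊓ T ≤ Y) j hy') _)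
      (by rw [Subgroup.normalizer_eq_top_iff.2 hT₁]; trivial)
      (coprime_card_map hq (fun x hx => (hL.qgroup x (hT₁E hx)).imp fun _ h => hNT h)
        (orderOf_pow_ordProj_coprime hq (orderOf_pos y') (Nat.le_add_right _ _))) hc
    have hzN : z ∉ L.N := fun h => hyc (by
      simpa using T₀.mul_mem (hNT h) hzc)
    obtain ⟨e, he, hne⟩ := hmove z (hT₁E hz.2) hzN
    exact surv S hi hT ((hL.hDN.trans (hL.hNM.trans hMT)).trans le_sup_right) hz.1
      (hL.hED (hT₁E hz.2)) he hne
  have hirr : ∀ T₁ : Subgroup G, T₁.Normal → L.M ≤ T₁ → T₁ ≤ L.E → T₁ = L.M ∨ T₁ = L.E := by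
    intro T₁ hT₁ hMT hTle
    by_cases hE : L.E ≤ T₁
    · exact Or.inr (le_antisymm hTle hE)
    refine Or.inl (le_antisymm (fun e he => ?_) hMT)
    have hle : A ⊔ D ≤ cenMod T₁ L.M :=
      sup_le (hact T₁ L.M hT₁ hMT hL.hNM hMT hTle hE) fun d hd =>
        mem_cenMod.2 fun x hx => hL.cenD d hd x (hTle hx)
    exact hfix e (hTle he) fun f hf hfq => mem_cenMod.1 (hle (hAR f hf hfq)) e he
  have hAK : A ≤ cenMod L.M L.N :=
    hact L.M L.N hL.hMn le_rfl le_rfl hL.hNM hL.hME.le hL.hME.not_ge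
  have hcentral : ∀ m ∈ L.M, ∀ e ∈ L.E, ⁅m, e⁆ ∈ L.N := by
    set K := cenMod L.M L.N
    have hT₁n : (L.E ⊓ K).Normal := Subgroup.normal_inf_normal _ _
    have hNK : L.N ≤ L.E ⊓ K := le_inf (hL.hNM.trans hL.hME.le) fun x hx =>
      mem_cenMod.2 fun m _ => by
        rw [commutatorElement_def, mul_assoc, mul_assoc]
        exact L.N.mul_mem hx (by rw [← mul_assoc]; exact hL.hNn.conj_mem _ (L.N.inv_mem hx) m)
    have hEK : L.E ≤ L.E ⊓ K := by
      refine hL.frat _ hNK inf_le_left ?_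
      rcases hirr ((L.E ⊓ K) ⊔ L.M) inferInstance le_sup_right
        (sup_le inf_le_left hL.hME.le) with h | h
      swap
      · exact h.ge
      · exfalso
        apply hL.hME.not_ge
        intro e he
        refine hfix e he fun f hf hfq => ?_
        have hle : A ⊔ D ≤ cenMod L.E L.M := by
          refine sup_le (fun a ha => mem_cenMod.2 fun x hx => h.le (Subgroup.mem_sup_left ⟨?_, ?_⟩))
            fun d hd => mem_cenMod.2 fun x hx => hL.cenD d hd x hx
          · rw [commutatorElement_def]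
            exact L.E.mul_mem (hL.hEn.conj_mem x hx a) (L.E.inv_mem hx)
          · have hKn : K.Normal := inferInstance
            rw [commutatorElement_def, mul_assoc, mul_assoc, ← mul_assoc x]
            exact K.mul_mem (hAK ha) (hKn.conj_mem _ (K.inv_mem (hAK ha)) x)
        exact mem_cenMod.1 (hle (hAR f hf hfq)) e he
    intro m hm e he
    rw [← commutatorElement_inv]
    exact L.N.inv_mem (mem_cenMod.1 (hEK he).2 m hm)
  have hDK : D ≤ cenMod L.M L.N := forall_mem_of_forall_prime_power fun x hx l k hl hk => by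
    refine mem_cenMod.2 fun m hm => ?_
    by_cases hlq : l = L.p
    · subst hlq
      have hxE : x ∈ L.E := by
        have : (L.E.subgroupOf D).Normal := hL.hEn.subgroupOf D
        exact mem_of_pow_mem (m := L.E.relIndex D) (hk ▸ hL.idx.pow_left k)
          ((L.E.subgroupOf D).pow_index_mem (⟨x, hx⟩ : D) : (⟨x, hx⟩ : D) ^ _ ∈ L.E.subgroupOf D)
      rw [← commutatorElement_inv]
      exact L.N.inv_mem (hcentral m hm x hxE)
    · exact hL.copCen x hx (hk ▸ coprime_prime_pow hl hq hlq) m (hL.hME.le hm)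
  refine ⟨hL, hirr, hcentral, fun j' hj' f hf hfq => ?_, fun j' hj' => ?_⟩
  · obtain rfl : j' = j := by omega
    exact mem_cenMod.1 ((sup_le hAK hDK) (hAR f hf hfq))
  · obtain rfl : j' = j := by omega
    exact hfix

theorem exists_tower : ∃ L : ℕ → LayerData G, Tower S L 0 := by
  suffices h : ∀ k, k ≤ S.t → ∃ L : ℕ → LayerData G, Tower S L (S.t - k) by
    simpa using h S.t le_rfl
  intro k
  induction k with
  | zero =>
    intro _
    obtain ⟨L, hL⟩ := exists_top S
    refine ⟨fun _ => L, fun i h1 h2 => ?_, fun i h1 h2 => absurd h2 (by omega)⟩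
    obtain rfl : i = S.t := by omega
    exact hL
  | succ k ih =>
    intro hk
    obtain ⟨Ls, hT⟩ := ih (by omega)
    set i := S.t - (k + 1)
    have hi1 : S.t - k = i + 1 := by omega
    rw [hi1] at hT
    obtain ⟨L, hL, hlink⟩ := exists_preLayer S (hT.layer (i + 1) le_rfl (by omega))
    have hlay := isLayer_of_pre S (by omega) hT hL hlink
    refine ⟨Function.update Ls i L, fun j h1 h2 => ?_, fun j h1 h2 => ?_⟩
    · rcases eq_or_lt_of_le h1 with h | h
      · subst h; rw [Function.update_self]; exact hlay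
      · rw [Function.update_of_ne h.ne']; exact hT.layer j h h2
    · rw [Function.update_of_ne (show j + 1 ≠ i by omega)]
      rcases eq_or_lt_of_le h1 with h | h
      · subst h; rw [Function.update_self]; exact hlink
      · rw [Function.update_of_ne h.ne']; exact hT.link j h h2

end CfsgLib.Turull73
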