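import Cfsg.Agent.Turull73.Fix

/-!
# Types of a representation of a group of class at most two

A *type* is a linear character of a subgroup `R`, containing the commutators and equal to the
kernel of the commutator pairing it defines, extended by `0` outside `R`.

* `exists_isType`: every non-zero invariant subspace meets some type space.
* `proj`: the projection on a type space; `eq_zero_of_proj`: they separate vectors.
* `exists_moved_of_not_bad`: a fixed element not in the kernel of a type which is not bad has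
  a non-trivial commutator with a trace of a vector in `[W, [P,σ]]`.
-/

set_option autoImplicit false

open scoped commutatorElement

namespace CfsgLib.Turull73

/-- Only `1` has two coprime exponents. -/
theorem eq_one_of_coprime_pow {M : Type*} [Monoid M] {k : M} {a b : ℕ} (hab : a.Coprime b)
    (ha : k ^ a = 1) (hb : k ^ b = 1) : k = 1 := by
  have := pow_gcd_eq_one.2 ⟨ha, hb⟩
  rwa [hab.gcd_eq_one, pow_one] at this

variable {F P W : Type*} [Field F] [Group P] [AddCommGroup W] [Module F W]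

/-- A type of a group of class at most two. -/
structure IsType (ω : P → F) : Prop where
  one : ω 1 = 1
  mul : ∀ g h : P, ω g ≠ 0 → ω (g * h) = ω g * ω h
  comm : ∀ g h : P, ω ⁅g, h⁆ ≠ 0
  mem : ∀ g : P, ω g ≠ 0 ↔ ∀ h : P, ω ⁅g, h⁆ = 1

namespace IsType

variable {ω : P → F} (h : IsType ω)
include h

theorem inv_ne {g : P} (hg : ω g ≠ 0) : ω g⁻¹ ≠ 0 := by
  intro h0
  have := h.mul g g⁻¹ hg
  rw [mul_inv_cancel, h.one, h0, mul_zero] at this
  exact one_ne_zero this

theorem inv {g : P} (hg : ω g ≠ 0) : ω g⁻¹ = (ω g)⁻¹ := by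
  have := h.mul g g⁻¹ hg
  rw [mul_inv_cancel, h.one] at this
  exact eq_inv_of_mul_eq_one_right this.symm

/-- The support of a type. -/
def supp : Subgroup P where
  carrier := {g | ω g ≠ 0}
  one_mem' := by simp [h.one]
  mul_mem' {a b} ha hb := by
    simp only [Set.mem_ofPred_eq] at *
    rw [h.mul a b ha]; exact mul_ne_zero ha hb
  inv_mem' {a} ha := h.inv_ne ha

theorem mem_supp {g : P} : g ∈ h.supp ↔ ω g ≠ 0 := Iff.rfl

theorem comm_mem (a b : P) : ⁅a, b⁆ ∈ h.supp := h.comm a b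

theorem conj_mem {g : P} (hg : g ∈ h.supp) (a : P) : a * g * a⁻¹ ∈ h.supp := by
  have : a * g * a⁻¹ = ⁅a, g⁆ * g := by rw [commutatorElement_def]; group
  rw [this]
  exact h.supp.mul_mem (h.comm_mem a g) hg

theorem conj_eq (g a : P) : ω (a * g * a⁻¹) = ω g := by
  by_cases hg : ω g = 0
  · rw [hg]
    by_contra hne
    have := h.conj_mem (g := a * g * a⁻¹) hne a⁻¹
    rw [show a⁻¹ * (a * g * a⁻¹) * a⁻¹⁻¹ = g by group] at this
    exact this hg
  · have h1 : a * g * a⁻¹ = ⁅g, a⁆⁻¹ * g := by rw [commutatorElement_def]; group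
    rw [h1, h.mul _ _ (h.inv_ne (h.comm g a)), h.inv (h.comm g a), (h.mem g).1 hg a, inv_one,
      one_mul]

theorem comp (σ : MulAut P) : IsType (fun g => ω (σ g)) where
  one := by simp [h.one]
  mul g k hg := by simp only [map_mul]; exact h.mul _ _ hg
  comm g k := by simp only [map_commutatorElement]; exact h.comm _ _
  mem g := by
    simp only [map_commutatorElement, h.mem (σ g)]
    exact ⟨fun hh k => hh _, fun hh k => by simpa using hh (σ.symm k)⟩

theorem pow {g : P} (hg : ω g ≠ 0) (m : ℕ) : ω (g ^ m) = ω g ^ m := by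
  induction m with
  | zero => simp [h.one]
  | succ m ih => rw [pow_succ', pow_succ', h.mul _ _ hg, ih]

theorem pow_card [Finite P] {g : P} (hg : ω g ≠ 0) : ω g ^ Nat.card P = 1 := by
  rw [← h.pow hg, pow_card_eq_one', h.one]

variable (hcen : ∀ a b c : P, Commute ⁅a, b⁆ c)
include hcen

theorem comm_mul_left (a b c : P) : ω ⁅a * b, c⁆ = ω ⁅a, c⁆ * ω ⁅b, c⁆ := by
  have h1 : ⁅a * b, c⁆ = ⁅a, c⁆ * ⁅b, c⁆ := by
    rw [commutatorElement_mul_left_eq_conj_mul, (hcen b c a).symm.eq, mul_inv_cancel_right,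
      (hcen b c ⁅a, c⁆).eq]
  rw [h1, h.mul _ _ (h.comm a c)]

theorem comm_mul_right (a b c : P) : ω ⁅a, b * c⁆ = ω ⁅a, b⁆ * ω ⁅a, c⁆ := by
  have h1 : ∀ x y : P, ω ⁅x, y⁆ = (ω ⁅y, x⁆)⁻¹ := fun x y => by
    rw [← h.inv (h.comm y x), commutatorElement_inv]
  rw [h1, h.comm_mul_left hcen, mul_inv, ← h1, ← h1]

end IsType

/-- The space of a type. -/
def typeSpace (ρ : P →* Module.End F W) (ω : P → F) : Submodule F W where
  carrier := {w | ∀ g, ω g ≠ 0 → ρ g w = ω g • w}
  add_mem' {a b} ha hb g hg := by rw [map_add, ha g hg, hb g hg, smul_add]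
  zero_mem' g _ := by simp
  smul_mem' c a ha g hg := by rw [map_smul, ha g hg, smul_comm]

theorem mem_typeSpace {ρ : P →* Module.End F W} {ω : P → F} {w : W} :
    w ∈ typeSpace ρ ω ↔ ∀ g, ω g ≠ 0 → ρ g w = ω g • w := Iff.rfl

variable {ρ : P →* Module.End F W}

theorem ρ_mul_apply (ρ : P →* Module.End F W) (a b : P) (w : W) :
    ρ (a * b) w = ρ a (ρ b w) := by rw [map_mul]; rfl

theorem ρ_inv_apply (ρ : P →* Module.End F W) (a : P) (w : W) : ρ a⁻¹ (ρ a w) = w := by
  rw [← ρ_mul_apply, inv_mul_cancel, map_one]; rfl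

theorem map_mem_typeSpace {ω : P → F} (hω : IsType ω) {w : W} (hw : w ∈ typeSpace ρ ω) (a : P) :
    ρ a w ∈ typeSpace ρ ω := by
  intro g hg
  have h := hw (a⁻¹ * g * a⁻¹⁻¹) (hω.conj_mem hg a⁻¹)
  rw [hω.conj_eq] at h
  have h2 : ρ (g * a) w = ρ a (ρ (a⁻¹ * g * a⁻¹⁻¹) w) := by
    rw [← ρ_mul_apply]; congr 2; group
  rw [← ρ_mul_apply, h2, h, map_smul]

/-- An endomorphism commuting with an irreducible action is a scalar. -/
theorem exists_scalar_of_minimal [IsAlgClosed F] [FiniteDimensional F W] {S : Submodule F W}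
    (hS : S ≠ ⊥) (hinv : ∀ g, ∀ w ∈ S, ρ g w ∈ S)
    (hmin : ∀ U ≤ S, (∀ g, ∀ w ∈ U, ρ g w ∈ U) → U ≠ ⊥ → U = S) (T : Module.End F W)
    (hTS : ∀ w ∈ S, T w ∈ S) (hT : ∀ g, ∀ w ∈ S, T (ρ g w) = ρ g (T w)) :
    ∃ k : F, ∀ w ∈ S, T w = k • w := by
  have : Nontrivial S := Submodule.nontrivial_iff_ne_bot.2 hS
  obtain ⟨k, hk⟩ := Module.End.exists_eigenvalue (T.restrict hTS)
  obtain ⟨v, hv⟩ := hk.exists_hasEigenvector
  have hU : S ⊓ LinearMap.ker (T - k • 1) = S := by
    refine hmin _ inf_le_left (fun g w hw => ⟨hinv g w hw.1, ?_⟩) ?_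
    · have := hw.2
      simp only [SetLike.mem_coe, LinearMap.mem_ker, LinearMap.sub_apply, LinearMap.smul_apply,
        Module.End.one_apply, sub_eq_zero] at this ⊢
      rw [hT g w hw.1, this, map_smul]
    · intro h
      have hmem : (v : W) ∈ S ⊓ LinearMap.ker (T - k • 1) := by
        refine ⟨v.2, ?_⟩
        simp only [SetLike.mem_coe, LinearMap.mem_ker, LinearMap.sub_apply, LinearMap.smul_apply,
          Module.End.one_apply, sub_eq_zero]
        exact congrArg Subtype.val hv.apply_eq_smul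
      rw [h, Submodule.mem_bot] at hmem
      exact hv.2 (Subtype.ext hmem)
  refine ⟨k, fun w hw => ?_⟩
  have := (hU.ge hw).2
  simpa [sub_eq_zero] using this

theorem exists_minimal_invariant [FiniteDimensional F W] (ρ : P →* Module.End F W)
    {U : Submodule F W} (hU : U ≠ ⊥) (hinv : ∀ g, ∀ w ∈ U, ρ g w ∈ U) :
    ∃ S ≤ U, S ≠ ⊥ ∧ (∀ g, ∀ w ∈ S, ρ g w ∈ S) ∧
      ∀ S' ≤ S, (∀ g, ∀ w ∈ S', ρ g w ∈ S') → S' ≠ ⊥ → S' = S := by
  obtain ⟨S, ⟨hSU, hS0, hSinv⟩, hmin⟩ := wellFounded_lt.has_min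
    {S : Submodule F W | S ≤ U ∧ S ≠ ⊥ ∧ ∀ g, ∀ w ∈ S, ρ g w ∈ S} ⟨U, le_rfl, hU, hinv⟩
  exact ⟨S, hSU, hS0, hSinv, fun S' hle hi h0 => eq_of_le_of_not_lt hle
    (hmin S' ⟨hle.trans hSU, h0, hi⟩)⟩

/-- Every non-zero invariant subspace meets a type space. -/
theorem exists_isType [IsAlgClosed F] [FiniteDimensional F W]
    (hcen : ∀ a b c : P, Commute ⁅a, b⁆ c) {U : Submodule F W} (hU : U ≠ ⊥)
    (hinv : ∀ g, ∀ w ∈ U, ρ g w ∈ U) :
    ∃ ω, IsType ω ∧ ∃ S ≤ U, S ≤ typeSpace ρ ω ∧ S ≠ ⊥ ∧ (∀ g, ∀ w ∈ S, ρ g w ∈ S) ∧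
      ∀ S' ≤ S, (∀ g, ∀ w ∈ S', ρ g w ∈ S') → S' ≠ ⊥ → S' = S := by
  classical
  obtain ⟨S, hSU, hS0, hSinv, hmin⟩ := exists_minimal_invariant ρ hU hinv
  obtain ⟨w₀, hw₀, hw₀0⟩ := Submodule.exists_mem_ne_zero_of_ne_bot hS0
  let ω : P → F := fun g => if h : ∃ k : F, ∀ w ∈ S, ρ g w = k • w then h.choose else 0
  have huniq : ∀ g (k : F), (∀ w ∈ S, ρ g w = k • w) → ω g = k := by
    intro g k hk
    have hex : ∃ k : F, ∀ w ∈ S, ρ g w = k • w := ⟨k, hk⟩
    have := hex.choose_spec w₀ hw₀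
    rw [hk w₀ hw₀] at this
    simp only [ω, dif_pos hex]
    exact (smul_left_injective F hw₀0 this).symm
  have hsc : ∀ g, ω g ≠ 0 → ∀ w ∈ S, ρ g w = ω g • w := by
    intro g hg w hw
    by_cases hex : ∃ k : F, ∀ w ∈ S, ρ g w = k • w
    · simp only [ω, dif_pos hex]; exact hex.choose_spec w hw
    · exact absurd (dif_neg hex) hg
  have hne : ∀ g (k : F), (∀ w ∈ S, ρ g w = k • w) → ω g ≠ 0 := by
    intro g k hk h0
    rw [huniq g k hk] at h0
    apply hw₀0
    rw [← ρ_inv_apply ρ g w₀, hk w₀ hw₀, h0, zero_smul, map_zero]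
  have hcomm : ∀ g, (∀ h, ∀ w ∈ S, ρ ⁅g, h⁆ w = w) → ω g ≠ 0 := by
    intro g hg
    obtain ⟨k, hk⟩ := exists_scalar_of_minimal hS0 hSinv hmin (ρ g) (hSinv g) fun h w hw => by
      have h1 : g * h = h * g * ⁅g⁻¹, h⁻¹⁆ := by rw [commutatorElement_def]; group
      have h2 : ρ ⁅g⁻¹, h⁻¹⁆ w = w := by
        have h3 : ⁅g⁻¹, h⁻¹⁆ = ⁅g, h⁆ := by
          have e1 : ⁅g⁻¹, h⁻¹⁆ = (h * g)⁻¹ * ⁅g, h⁆ * (h * g) := by
            rw [commutatorElement_def, commutatorElement_def]; group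
          rw [e1, mul_assoc, (hcen g h _).eq, inv_mul_cancel_left]
        rw [h3]; exact hg h w hw
      rw [← ρ_mul_apply, h1, ρ_mul_apply, h2, ρ_mul_apply]
    exact hne g k hk
  refine ⟨ω, ⟨huniq 1 1 (by simp), ?_, fun g h => hcomm _ fun k w hw => ?_, fun g => ⟨?_, ?_⟩⟩,
    S, hSU, fun w hw g hg => hsc g hg w hw, hS0, hSinv, hmin⟩
  · intro g h hg
    by_cases hh : ω h = 0
    · rw [hh, mul_zero]
      by_contra hgh
      refine hne h ((ω g)⁻¹ * ω (g * h)) (fun w hw => ?_) hh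
      have h1 := hsc _ hgh w hw
      rw [ρ_mul_apply, hsc g hg _ (hSinv h w hw)] at h1
      rw [mul_smul, ← h1, smul_smul, inv_mul_cancel₀ hg, one_smul]
    · exact huniq _ _ fun w hw => by
        rw [ρ_mul_apply, hsc h hh w hw, map_smul, hsc g hg w hw, smul_smul, mul_comm]
  · rw [show ⁅⁅g, h⁆, k⁆ = 1 from commutatorElement_eq_one_iff_mul_comm.2 (hcen g h k).eq,
      map_one]
    rfl
  · intro hg h
    refine huniq _ 1 fun w hw => ?_
    rw [one_smul, commutatorElement_def, ρ_mul_apply, ρ_mul_apply,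
      ρ_mul_apply]
    have hw' : ρ h⁻¹ w ∈ S := hSinv _ _ hw
    have hginv : ρ g⁻¹ (ρ h⁻¹ w) = (ω g)⁻¹ • ρ h⁻¹ w := by
      have := congrArg ((ω g)⁻¹ • ·) (congrArg (ρ g⁻¹) (hsc g hg _ hw'))
      simpa [ρ_inv_apply, map_smul, smul_smul, inv_mul_cancel₀ hg] using this.symm
    rw [hginv, map_smul, map_smul, ← ρ_mul_apply ρ h, mul_inv_cancel, map_one,
      Module.End.one_apply, hsc g hg w hw, smul_smul, inv_mul_cancel₀ hg, one_smul]
  · intro hg
    exact hcomm g fun h w hw => by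
      rw [hsc _ (by rw [hg h]; exact one_ne_zero) w hw, hg h, one_smul]

section Proj

variable [Fintype P]

/-- A multiple of the projection on a type space. -/
noncomputable def proj (ρ : P →* Module.End F W) (ω : P → F) : Module.End F W :=
  ∑ g : P, (ω g)⁻¹ • ρ g

theorem proj_apply (ω : P → F) (w : W) : proj ρ ω w = ∑ g : P, (ω g)⁻¹ • ρ g w := by
  simp [proj]

theorem map_proj {ω : P → F} (hω : IsType ω) {z : P} (hz : ω z ≠ 0) (w : W) :
    ρ z (proj ρ ω w) = ω z • proj ρ ω w := by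
  rw [proj_apply, map_sum, Finset.smul_sum]
  refine Fintype.sum_equiv (Equiv.mulLeft z) _ _ fun g => ?_
  rw [map_smul, Equiv.coe_mulLeft, hω.mul z g hz, smul_smul, ← ρ_mul_apply]
  congr 1
  rw [mul_inv, ← mul_assoc, mul_inv_cancel₀ hz, one_mul]

theorem proj_mem {ω : P → F} (hω : IsType ω) (w : W) : proj ρ ω w ∈ typeSpace ρ ω :=
  fun _ hg => map_proj hω hg w

theorem proj_comm {ω : P → F} (hω : IsType ω) (a : P) (w : W) :
    proj ρ ω (ρ a w) = ρ a (proj ρ ω w) := by
  rw [proj_apply, proj_apply, map_sum]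
  refine Fintype.sum_equiv (MulAut.conj a⁻¹).toEquiv _ _ fun g => ?_
  show _ = ρ a ((ω (a⁻¹ * g * a⁻¹⁻¹))⁻¹ • ρ (a⁻¹ * g * a⁻¹⁻¹) w)
  rw [map_smul, hω.conj_eq, ← ρ_mul_apply, ← ρ_mul_apply]
  congr 3
  group

theorem proj_of_mem {ω : P → F} (hω : IsType ω) {w : W} (hw : w ∈ typeSpace ρ ω) :
    proj ρ ω w = (Nat.card hω.supp : F) • w := by
  classical
  rw [proj_apply, Nat.cast_smul_eq_nsmul, Nat.card_eq_fintype_card]
  rw [Finset.sum_congr rfl (g := fun g => if g ∈ hω.supp then w else 0) fun g _ => ?_]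
  · rw [Finset.sum_ite, Finset.sum_const_zero, add_zero, Finset.sum_const, Fintype.card_subtype]
  · split_ifs with h
    · rw [hw g h, smul_smul, inv_mul_cancel₀ h, one_smul]
    · rw [IsType.mem_supp, not_not] at h
      rw [h, inv_zero, zero_smul]

theorem card_supp_ne (hP : (Nat.card P : F) ≠ 0) (H : Subgroup P) : (Nat.card H : F) ≠ 0 := by
  intro h
  obtain ⟨k, hk⟩ := Subgroup.card_subgroup_dvd_card H
  exact hP (by rw [hk, Nat.cast_mul, h, zero_mul])

theorem exists_ne_of_ne {ω ω' : P → F} (hω : IsType ω) (hω' : IsType ω') (hne : ω ≠ ω') :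
    ∃ z, ω z ≠ 0 ∧ ω' z ≠ 0 ∧ ω z ≠ ω' z := by
  by_cases hc : ∀ g h : P, ω ⁅g, h⁆ = ω' ⁅g, h⁆
  · obtain ⟨g, hg⟩ := Function.ne_iff.1 hne
    have hiff : ω g ≠ 0 ↔ ω' g ≠ 0 := by rw [hω.mem, hω'.mem]; simp [hc]
    refine ⟨g, fun h => ?_, fun h => ?_, hg⟩
    · exact hg (h.trans (not_not.1 fun h' => hiff.2 h' h).symm)
    · exact hg ((not_not.1 fun h' => hiff.1 h' h).trans h.symm)
  · push Not at hc
    obtain ⟨g, h, hgh⟩ := hc
    exact ⟨⁅g, h⁆, hω.comm g h, hω'.comm g h, hgh⟩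

theorem proj_eq_zero {ω ω' : P → F} (hω : IsType ω) (hω' : IsType ω') (hne : ω ≠ ω') {w : W}
    (hw : w ∈ typeSpace ρ ω') : proj ρ ω w = 0 := by
  obtain ⟨z, hz, hz', hzz⟩ := exists_ne_of_ne hω hω' hne
  have h1 := proj_comm (ρ := ρ) hω z w
  rw [hw z hz', map_smul, map_proj hω hz, eq_comm, ← sub_eq_zero, ← sub_smul, smul_eq_zero] at h1
  exact h1.resolve_left (sub_ne_zero.2 hzz)

theorem eq_zero_of_proj [IsAlgClosed F] [FiniteDimensional F W]
    (hcen : ∀ a b c : P, Commute ⁅a, b⁆ c) (hP : (Nat.card P : F) ≠ 0) {w : W}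
    (h : ∀ ω, IsType ω → proj ρ ω w = 0) : w = 0 := by
  by_contra hw
  let U : Submodule F W :=
    { carrier := {v | ∀ ω, IsType ω → proj ρ ω v = 0}
      add_mem' := fun {a b} ha hb ω hω => by rw [map_add, ha ω hω, hb ω hω, add_zero]
      zero_mem' := fun ω _ => map_zero _
      smul_mem' := fun c a ha ω hω => by rw [map_smul, ha ω hω, smul_zero] }
  obtain ⟨ω, hω, S, hSU, hSω, hS0, -⟩ := exists_isType hcen
    (U := U) (ρ := ρ) (fun hU => hw ((Submodule.eq_bot_iff U).1 hU w h))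
    (fun g v hv ω hω => by rw [proj_comm hω, hv ω hω, map_zero])
  obtain ⟨v, hv, hv0⟩ := Submodule.exists_mem_ne_zero_of_ne_bot hS0
  have := hSU hv ω hω
  rw [proj_of_mem hω (hSω hv), smul_eq_zero] at this
  exact hv0 (this.resolve_left (card_supp_ne hP _))

/-- A type whose kernel contains everything but which separates some vector. -/
theorem exists_isType_ne_one [IsAlgClosed F] [FiniteDimensional F W]
    (hcen : ∀ a b c : P, Commute ⁅a, b⁆ c) (hP : (Nat.card P : F) ≠ 0) {g : P} (hg : ρ g ≠ 1) :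
    ∃ ω, IsType ω ∧ typeSpace ρ ω ≠ ⊥ ∧ ω g ≠ 1 := by
  by_contra! hcon
  apply hg
  refine LinearMap.ext fun w => sub_eq_zero.1 (eq_zero_of_proj (ρ := ρ) hcen hP fun ω hω => ?_)
  rw [map_sub, Module.End.one_apply, proj_comm hω]
  by_cases h0 : typeSpace ρ ω = ⊥
  · have := proj_mem (ρ := ρ) hω w
    rw [h0, Submodule.mem_bot] at this
    rw [this, map_zero, sub_zero]
  · have h1 := hcon ω hω h0
    rw [proj_mem hω w g (by rw [h1]; exact one_ne_zero), h1, one_smul, sub_self]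

end Proj

/-- If `g` fixes all translates of a non-zero vector of a type space, the type is `1` at `g`. -/
theorem type_eq_one {ω : P → F} (hω : IsType ω) {w : W} (hw : w ∈ typeSpace ρ ω) (hw0 : w ≠ 0)
    {g : P} (hg : ∀ h, ρ g (ρ h w) = ρ h w) : ω g = 1 := by
  have h1 : ∀ h, ω ⁅g, h⁆ = 1 := by
    intro h
    have hgw : ρ g w = w := by simpa using hg 1
    have hgi : ρ g⁻¹ w = w := by
      conv_lhs => rw [← hgw]
      exact ρ_inv_apply ρ g w
    have h2 : ρ ⁅g, h⁆ w = w := by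
      rw [commutatorElement_def, ρ_mul_apply, ρ_mul_apply, ρ_mul_apply]
      have := hg h⁻¹
      rw [show ρ g⁻¹ (ρ h⁻¹ w) = ρ h⁻¹ w by
        conv_lhs => rw [← this]
        exact ρ_inv_apply ρ g _]
      rw [← ρ_mul_apply ρ h, mul_inv_cancel, map_one, Module.End.one_apply, hgw]
    rw [hw _ (hω.comm g h)] at h2
    exact smul_left_injective F hw0 (h2.trans (one_smul F w).symm)
  have hgw := hg 1
  rw [map_one, Module.End.one_apply, hw g ((hω.mem g).2 h1)] at hgw
  exact smul_left_injective F hw0 (hgw.trans (one_smul F w).symm)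

section Sigma

variable (σ : MulAut P) (s : Module.End F W) (hs : ∀ g w, s (ρ g w) = ρ (σ g) (s w))
include hs

/-- A compatible operator moves type spaces. -/
theorem map_mem_typeSpace_comp {ω : P → F} {w : W} (hw : w ∈ typeSpace ρ ω) :
    s w ∈ typeSpace ρ (fun g => ω (σ.symm g)) := by
  intro g hg
  have := hs (σ.symm g) w
  rw [σ.apply_symm_apply] at this
  rw [← this, hw _ hg, map_smul]

theorem pow_comm (j : ℕ) (g : P) (w : W) : (s ^ j) (ρ g w) = ρ ((σ ^ j) g) ((s ^ j) w) := by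
  induction j with
  | zero => rfl
  | succ j ih => rw [pow_succ', pow_succ', Module.End.mul_apply, ih, hs]; rfl

theorem exists_moved_of_not_bad [IsAlgClosed F] [FiniteDimensional F W] [Finite P]
    (hcen : ∀ a b c : P, Commute ⁅a, b⁆ c) (hP : (Nat.card P : F) ≠ 0) {r : ℕ} (hr : r.Prime)
    (hrP : ¬ r ∣ Nat.card P) (hrF : (r : F) ≠ 0) (hσ : σ ^ r = 1) (hsr : s ^ r = 1) {ω : P → F} (hω : IsType ω)
    (hne : typeSpace ρ ω ≠ ⊥)
    (hnb : ¬ ((∀ g, ω (σ g) = ω g) ∧ ((∀ g, ω (g⁻¹ * σ g) ≠ 0) ∨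
      ∀ w ∈ typeSpace ρ ω, s w = w → w = 0)))
    {x : P} (hx : σ x = x) (hωx : ω x ≠ 1) :
    ∃ g ∈ comSub σ, ∃ w, ρ x (∑ j ∈ Finset.range r, (s ^ j) (ρ g w - w)) ≠
      ∑ j ∈ Finset.range r, (s ^ j) (ρ g w - w) := by
  classical
  have := Fintype.ofFinite P
  have hcopP : r.Coprime (Nat.card P) := hr.coprime_iff_not_dvd.2 hrP
  let Tr : Module.End F W := ∑ j ∈ Finset.range r, s ^ j
  have hTr : ∀ w, Tr w = ∑ j ∈ Finset.range r, (s ^ j) w := fun w => LinearMap.sum_apply _ _ _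
  let L : Module.End F W := (ρ x - 1) * Tr
  have hL : ∀ w, L w = ρ x (Tr w) - Tr w := fun w => rfl
  suffices h : ∃ g ∈ comSub σ, ∃ w, L (ρ g w - w) ≠ 0 by
    obtain ⟨g, hg, w, hw⟩ := h
    refine ⟨g, hg, w, fun heq => hw ?_⟩
    rw [hL, hTr, heq, sub_self]
  -- `L` is non-zero on the type space
  have hxW : ∀ w ∈ typeSpace ρ ω, ρ x w ∈ typeSpace ρ ω := fun w hw => map_mem_typeSpace hω hw x
  have hσinv : ∀ (τ : MulAut P), (∀ g, ω (τ g) = ω g) → ∀ g, ω (τ.symm g) = ω g := fun τ h g => by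
    conv_rhs => rw [← τ.apply_symm_apply g]
    rw [h]
  have hnofix : ∀ w ∈ typeSpace ρ ω, (∀ g ∈ comSub σ, ρ g w = w) → w = 0 := by
    intro w hw hfix
    by_contra hw0
    have h1 : ∀ b, ω (b⁻¹ * σ b) = 1 := fun b => by
      refine type_eq_one hω hw hw0 fun h => ?_
      have h2 : b⁻¹ * σ b * h = h * (h⁻¹ * (b⁻¹ * σ b) * h⁻¹⁻¹) := by group
      rw [← ρ_mul_apply, h2, ρ_mul_apply, hfix _ (conj_mem_comSub σ h⁻¹ (mem_comSub σ b))]
    have hfixω : ∀ g, ω (σ g) = ω g := by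
      intro g
      have hh := h1 g
      by_cases hg : ω g = 0
      · rw [hg]
        by_contra hsg
        have h4 : g = σ g * (g⁻¹ * σ g)⁻¹ := by group
        refine (?_ : ω g ≠ 0) hg
        rw [h4, hω.mul _ _ hsg]
        exact mul_ne_zero hsg (hω.inv_ne (by rw [hh]; exact one_ne_zero))
      · have h4 : σ g = g * (g⁻¹ * σ g) := by group
        rw [h4, hω.mul _ _ hg, hh, mul_one]
    exact hnb ⟨hfixω, Or.inl fun g => by rw [h1 g]; exact one_ne_zero⟩
  have hLne : ∃ w ∈ typeSpace ρ ω, L w ≠ 0 := by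
    by_cases hmov : ∀ g, ω (σ g) = ω g
    · have hC : ∃ w ∈ typeSpace ρ ω, s w = w ∧ w ≠ 0 := by
        by_contra! h
        exact hnb ⟨hmov, Or.inr h⟩
      by_contra! hall
      obtain ⟨w, hw, hsw, hw0⟩ := hC
      have hxfix : ∀ v ∈ typeSpace ρ ω, s v = v → ρ x v = v := by
        intro v hv hsv
        have hpow : ∀ j, (s ^ j) v = v := fun j => by
          induction j with
          | zero => rfl
          | succ j ih => rw [pow_succ', Module.End.mul_apply, ih, hsv]
        have hTv : Tr v = (r : F) • v := by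
          rw [hTr, Finset.sum_congr rfl fun j _ => hpow j, Finset.sum_const, Finset.card_range,
            Nat.cast_smul_eq_nsmul]
        have h := hall v hv
        rw [hL, hTv, map_smul, ← smul_sub, smul_eq_zero, sub_eq_zero] at h
        exact h.resolve_left hrF
      have hxR : ω x ≠ 0 := by
        rw [hω.mem]
        intro g
        let n : ℕ → P := Nat.rec 1 fun _ y => g * σ y
        have hn0 : n 0 = 1 := rfl
        have hn : ∀ m, n (m + 1) = g * σ (n m) := fun m => rfl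
        have hcσ : ∀ y, ω ⁅x, σ y⁆ = ω ⁅x, y⁆ := fun y => by
          conv_lhs => rw [← hx]
          rw [← map_commutatorElement, hmov]
        have hcn : ∀ m, ω ⁅x, n m⁆ = ω ⁅x, g⁆ ^ m := by
          intro m
          induction m with
          | zero => rw [hn0, commutatorElement_one_right, hω.one, pow_zero]
          | succ m ih => rw [hn, hω.comm_mul_right hcen, hcσ, ih, pow_succ']
        have hn2 : ∀ m, n (m + 1) = n m * (σ ^ m) g := by
          intro m
          induction m with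
          | zero => simp [hn, hn0]
          | succ m ih =>
            rw [hn (m + 1)]
            conv_lhs => rw [ih, map_mul, ← mul_assoc, ← hn]
            rw [pow_succ' σ m, MulAut.mul_apply]
        have hσn : σ (n r) = n r * ⁅(n r)⁻¹, g⁻¹⁆ := by
          have h := hn r
          rw [hn2, hσ, MulAut.one_apply] at h
          have h' : σ (n r) = g⁻¹ * (n r * g) := by rw [h]; group
          rw [h', commutatorElement_def]; group
        set κ := ω ⁅(n r)⁻¹, g⁻¹⁆ with hκ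
        have hsn : s (ρ (n r) w) = κ • ρ (n r) w := by
          rw [hs, hσn, ρ_mul_apply, hsw, hw _ (hω.comm _ _), map_smul]
        have hκ1 : κ = 1 := by
          have hp : ∀ m, (s ^ m) (ρ (n r) w) = κ ^ m • ρ (n r) w := fun m => by
            induction m with
            | zero => simp
            | succ m ih =>
              rw [pow_succ', Module.End.mul_apply, ih, map_smul, hsn, smul_smul, pow_succ]
          have h := hp r
          rw [hsr, Module.End.one_apply] at h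
          have hnw : ρ (n r) w ≠ 0 := fun h0 => hw0 (by rw [← ρ_inv_apply ρ (n r) w, h0, map_zero])
          exact eq_one_of_coprime_pow hcopP
            (smul_left_injective F hnw (h.symm.trans (one_smul F _).symm))
            (hω.pow_card (hω.comm _ _))
        rw [hκ1, one_smul] at hsn
        have h1 := hxfix _ (map_mem_typeSpace hω hw _) hsn
        have h2 : ρ x (ρ (n r) w) = ω ⁅x, n r⁆ • ρ (n r) (ρ x w) := by
          rw [← map_mem_typeSpace hω (map_mem_typeSpace hω hw x) (n r) _ (hω.comm _ _)]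
          rw [← ρ_mul_apply, ← ρ_mul_apply, ← ρ_mul_apply]
          congr 2
          rw [commutatorElement_def]; group
        rw [h1, hxfix w hw hsw] at h2
        have hnw : ρ (n r) w ≠ 0 := fun h0 => hw0 (by rw [← ρ_inv_apply ρ (n r) w, h0, map_zero])
        have h3 : ω ⁅x, n r⁆ = 1 :=
          smul_left_injective F hnw (h2.symm.trans (one_smul F _).symm)
        rw [hcn] at h3
        exact eq_one_of_coprime_pow hcopP h3 (hω.pow_card (hω.comm _ _))
      refine hωx (smul_left_injective F hw0 ?_)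
      show ω x • w = (1 : F) • w
      rw [one_smul, ← hw x hxR, hxfix w hw hsw]
    · obtain ⟨w, hw, hxw⟩ : ∃ w ∈ typeSpace ρ ω, ρ x w ≠ w := by
        by_contra! h
        obtain ⟨w, hw, hw0⟩ := Submodule.exists_mem_ne_zero_of_ne_bot hne
        exact hωx (type_eq_one hω hw hw0 fun k => h _ (map_mem_typeSpace hω hw k))
      refine ⟨w, hw, fun h0 => hxw ?_⟩
      have hproj : ∀ v ∈ typeSpace ρ ω, ∀ j ∈ Finset.range r, j ≠ 0 → proj ρ ω ((s ^ j) v) = 0 := by
        intro v hv j hj hj0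
        have hv' : (s ^ j) v ∈ typeSpace ρ (fun g => ω ((σ ^ j).symm g)) :=
          map_mem_typeSpace_comp (σ ^ j) (s ^ j) (pow_comm σ s hs j) hv
        refine proj_eq_zero hω (hω.comp (σ ^ j).symm) (fun he => hmov ?_) hv'
        have hfix : ∀ g, ω ((σ ^ j) g) = ω g := fun g => by
          have := congrFun he ((σ ^ j) g)
          simpa using this
        have hmul : ∀ m g, ω ((σ ^ (j * m)) g) = ω g := by
          intro m
          induction m with
          | zero => simp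
          | succ m ih => intro g; rw [Nat.mul_succ, pow_add, MulAut.mul_apply, ih, hfix]
        have hjr : j.Coprime r := ((hr.coprime_iff_not_dvd).2 fun hd =>
          hj0 (Nat.eq_zero_of_dvd_of_lt hd (Finset.mem_range.1 hj))).symm
        obtain ⟨m, -, hm⟩ := Nat.exists_mul_mod_eq_one_of_coprime hjr hr.one_lt
        intro g
        have h1 := hmul m g
        rw [← Nat.mod_add_div (j * m) r, hm, pow_add, pow_mul, hσ, one_pow, mul_one, pow_one] at h1
        exact h1
      have hP' := card_supp_ne (F := F) hP hω.supp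
      have h1 : proj ρ ω (Tr w) = (Nat.card hω.supp : F) • w := by
        rw [hTr, map_sum, Finset.sum_eq_single 0 (hproj w hw)
          (fun h => absurd (Finset.mem_range.2 hr.pos) h), pow_zero, Module.End.one_apply,
          proj_of_mem hω hw]
      have h2 := congrArg (proj ρ ω) h0
      rw [hL, map_sub, proj_comm hω, h1, map_smul, map_zero, ← smul_sub, smul_eq_zero,
        sub_eq_zero] at h2
      exact h2.resolve_left hP'
  obtain ⟨w, hw, hLw⟩ := hLne
  by_contra! hall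
  apply hLw
  have hS : ∀ g ∈ comSub σ, ρ g (∑ a : comSub σ, ρ a w) = ∑ a : comSub σ, ρ a w := fun g hg => by
    rw [map_sum]
    exact Fintype.sum_equiv (Equiv.mulLeft (⟨g, hg⟩ : comSub σ)) _ _ fun a =>
      (ρ_mul_apply ρ _ _ _).symm
  have h0 : (∑ a : comSub σ, ρ a w) = 0 :=
    hnofix _ (Submodule.sum_mem _ fun a _ => map_mem_typeSpace hω hw (a : P)) hS
  have h1 : L (∑ a : comSub σ, (ρ a w - w)) = 0 := by
    rw [map_sum]; exact Finset.sum_eq_zero fun a _ => hall a a.2 w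
  rw [Finset.sum_sub_distrib, h0, zero_sub, map_neg, neg_eq_zero, Finset.sum_const,
    Finset.card_univ, ← Nat.cast_smul_eq_nsmul F, map_smul, smul_eq_zero,
    ← Nat.card_eq_fintype_card] at h1
  exact h1.resolve_left (card_supp_ne hP _)

end Sigma

end CfsgLib.Turull73
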